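import Cfsg.Agent.Omega.NOThreeL.RSplit.Root
import Cfsg.Agent.Omega.NoFF.Basic

/-!
# A normal abelian subgroup as a module

`A : Nrm H U` : `U` is abelian and normalised by `H`; `A.Mod` is `U` written additively, with the action of `H` by
conjugation; `A.val : A.Mod → G`, `A.of x hx : A.Mod`; `A.ad B = U ∩ B` as an additive subgroup.
-/

set_option autoImplicit false

namespace Cfsg.Agent.Omega.NOThreeL.RSplit

open Subgroup
open Cfsg.Agent.Omega.NoFF.Basic (mem_conj)
open scoped Pointwise

universe u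

variable {G : Type u} [Group G]

/-- `H` normalises the abelian group `U`. -/
structure Nrm (H U : Subgroup G) : Prop where
  ab : ∀ u ∈ U, ∀ v ∈ U, u * v = v * u
  nrm : H ≤ normalizer (U : Set G)

/-- `U` as an `H`-module. -/
def Nrm.Mod {H U : Subgroup G} (_ : Nrm H U) : Type u := Additive U

namespace Nrm

variable {H U : Subgroup G} (A : Nrm H U)

instance : AddCommGroup A.Mod :=
  { (inferInstance : AddGroup (Additive U)) with
    add_comm := fun v w => congrArg Additive.ofMul
      (Subtype.ext (A.ab _ (Additive.toMul v).2 _ (Additive.toMul w).2)) }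

instance [Finite G] : Finite A.Mod := inferInstanceAs (Finite U)

include A in
theorem nrm' {x u : G} (hx : x ∈ H) (hu : u ∈ U) : x * u * x⁻¹ ∈ U := (mem_normalizer_iff.1 (A.nrm hx) u).1 hu

instance : DistribMulAction H A.Mod where
  smul x v := Additive.ofMul ⟨x * (Additive.toMul (v : Additive U) : U) * (x : G)⁻¹,
    A.nrm' x.2 (Additive.toMul (v : Additive U)).2⟩
  one_smul v := congrArg Additive.ofMul (Subtype.ext (by
    change ((1 : H) : G) * (Additive.toMul (v : Additive U) : U) * ((1 : H) : G)⁻¹ =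
      (Additive.toMul (v : Additive U) : U)
    rw [OneMemClass.coe_one, one_mul, inv_one, mul_one]))
  mul_smul x y v := congrArg Additive.ofMul (Subtype.ext (by
    change ((x * y : H) : G) * (Additive.toMul (v : Additive U) : U) * ((x * y : H) : G)⁻¹ =
      x * (y * (Additive.toMul (v : Additive U) : U) * (y : G)⁻¹) * (x : G)⁻¹
    rw [Subgroup.coe_mul]; group))
  smul_zero x := congrArg Additive.ofMul (Subtype.ext (by
    change (x : G) * ((1 : U) : G) * (x : G)⁻¹ = ((1 : U) : G)
    rw [OneMemClass.coe_one, mul_one, mul_inv_cancel]))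
  smul_add x v w := congrArg Additive.ofMul (Subtype.ext (by
    change (x : G) * ((Additive.toMul (v : Additive U) * Additive.toMul (w : Additive U) : U) : G) * (x : G)⁻¹ =
      (x * (Additive.toMul (v : Additive U) : U) * (x : G)⁻¹) *
        (x * (Additive.toMul (w : Additive U) : U) * (x : G)⁻¹)
    rw [Subgroup.coe_mul]; group))

/-- the element of `G` -/
def val (m : A.Mod) : G := ((Additive.toMul (m : Additive U) : U) : G)

/-- the element of the module -/
def of (x : G) (hx : x ∈ U) : A.Mod := (Additive.ofMul (⟨x, hx⟩ : U) : Additive U)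

@[simp] theorem val_of (x : G) (hx : x ∈ U) : A.val (A.of x hx) = x := rfl

theorem val_mem (m : A.Mod) : A.val m ∈ U := (Additive.toMul (m : Additive U)).2

@[simp] theorem of_val (m : A.Mod) : A.of (A.val m) (A.val_mem m) = m := rfl

variable {A}

theorem ext {m m' : A.Mod} (h : A.val m = A.val m') : m = m' :=
  congrArg Additive.ofMul (Subtype.ext h)

theorem ext_iff {m m' : A.Mod} : m = m' ↔ A.val m = A.val m' := ⟨fun h => by rw [h], ext⟩

@[simp] theorem val_zero : A.val 0 = 1 := rfl

@[simp] theorem val_add (m m' : A.Mod) : A.val (m + m') = A.val m * A.val m' := rfl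

@[simp] theorem val_neg (m : A.Mod) : A.val (-m) = (A.val m)⁻¹ := rfl

@[simp] theorem val_sub (m m' : A.Mod) : A.val (m - m') = A.val m * (A.val m')⁻¹ := by
  rw [sub_eq_add_neg, val_add, val_neg]

@[simp] theorem val_smul (h : H) (m : A.Mod) : A.val (h • m) = h * A.val m * (h : G)⁻¹ := rfl

theorem eq_zero_iff {m : A.Mod} : m = 0 ↔ A.val m = 1 := by rw [ext_iff, val_zero]

variable (A) in
/-- `U ∩ B` as an additive subgroup -/
def ad (B : Subgroup G) : AddSubgroup A.Mod where
  carrier := {m | A.val m ∈ B}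
  zero_mem' := B.one_mem
  add_mem' ha hb := B.mul_mem ha hb
  neg_mem' ha := B.inv_mem ha

theorem mem_ad {B : Subgroup G} {m : A.Mod} : m ∈ A.ad B ↔ A.val m ∈ B := Iff.rfl

theorem ad_le_iff {B C : Subgroup G} : A.ad B ≤ A.ad C ↔ U ⊓ B ≤ C :=
  ⟨fun h x hx => h (show A.of x hx.1 ∈ A.ad B from hx.2), fun h m hm => h ⟨A.val_mem m, hm⟩⟩

theorem ad_mono {B C : Subgroup G} (h : B ≤ C) : A.ad B ≤ A.ad C := fun _ hm => h hm

theorem smul_ad (h : H) (B : Subgroup G) : h • A.ad B = A.ad (MulAut.conj (h : G) • B) := by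
  ext m
  rw [ThmAx.mem_smul, mem_ad, mem_ad, mem_conj, val_smul]
  rw [InvMemClass.coe_inv, inv_inv]

theorem card_ad {B : Subgroup G} (hB : B ≤ U) : Nat.card (A.ad B) = Nat.card B :=
  Nat.card_congr ⟨fun m => ⟨A.val m, m.2⟩, fun b => ⟨A.of b (hB b.2), b.2⟩, fun _ => rfl, fun _ => rfl⟩

end Nrm

end Cfsg.Agent.Omega.NOThreeL.RSplit
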