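import Cfsg.Agent.Omega.NOThreeL.ThmAx

/-!
# NO-3L, box R, `q > 2`: the abstract part of #19602 (helper797), I: root groups, axes, THEOREM EXACT

`H` acts on the elementary abelian 2-group `M` (`= U_H`); `Ax i = C_U(N_i)`, `R i = [U, N_i]`, `T i` = the image of
`N_i`, with `[u, T i] = R i` for all `u ∉ Ax i` (`V_P` split over `C_Z(P)`).

* `Rt T Ax R` : root groups; the API (`TT_fix`, `TT_quad`, `TT_full`, `adj_symm`, `smul_eq_of_not_adj`) without any
  hypothesis on `Z`;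
* `Ex T Ax R` : moreover `|M : Ax j| ≤ |R i|`, `2 < |R i|`, `noff` (an element fixing a full vector maps the `R l`
  into all `Ax j`) and `nt` (the `R i` are not contained in all axes);
* `Ex.exact`, `Ex.card_eq` : THEOREM EXACT WITH RADICAL, #19602 (4);
* `Ex.ti` : `x • R i ≤ g` or `x • R i ∩ g = 0` for every axis `g`;
* `Ex.not_reach` : different `Ax i` are in different components.
-/

set_option autoImplicit false

namespace Cfsg.Agent.Omega.NOThreeL.RSplit.Root

open scoped Pointwise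
open Cfsg.Agent.Omega.NOThreeL.ThmAx (Full IsAx TT YY Adj mem_smul smul_eq_of YY_smul YY_smul_eq adj_smul IsAx.smul)

variable {H M : Type*} [Group H] [AddCommGroup M] [DistribMulAction H M]

/-- Root groups. -/
structure Rt {ι : Type*} (T : ι → Subgroup H) (Ax R : ι → AddSubgroup M) : Prop where
  char2 : ∀ m : M, m + m = 0
  fix : ∀ i, ∀ t ∈ T i, ∀ u ∈ Ax i, t • u = u
  quad : ∀ i, ∀ t ∈ T i, ∀ u : M, t • u - u ∈ R i
  full : ∀ i, ∀ u : M, u ∉ Ax i → ∀ r ∈ R i, ∃ t ∈ T i, t • u = u + r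
  le : ∀ i j, R i ≤ Ax j
  trans : ∀ i j, ∃ s : H, s • Ax i = Ax j

namespace Rt

variable {ι : Type*} {T : ι → Subgroup H} {Ax R : ι → AddSubgroup M} (D : Rt T Ax R)
include D

omit D in
theorem isAx (Ax : ι → AddSubgroup M) (i : ι) : IsAx (H := H) Ax (Ax i) := ⟨1, i, one_smul _ _⟩

theorem YY_le {g : AddSubgroup M} : YY H Ax R g ≤ g := by
  unfold YY
  rw [AddSubgroup.closure_le]
  rintro m ⟨h, i, rfl, y, hy, rfl⟩
  exact AddSubgroup.smul_mem_pointwise_smul _ _ _ (D.le i i hy)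

omit D in
theorem R_le_YY (i : ι) : R i ≤ YY H Ax R (Ax i) := fun y hy =>
  AddSubgroup.subset_closure ⟨1, i, one_smul _ _, y, hy, (one_smul _ _).symm⟩

theorem TT_fix {g : AddSubgroup M} {t : H} (ht : t ∈ TT T Ax g) {u : M} (hu : u ∈ g) : t • u = u := by
  induction ht using Subgroup.closure_induction with
  | mem t ht =>
    obtain ⟨h, i, hg, s, hs, rfl⟩ := ht
    rw [← hg, mem_smul] at hu
    rw [mul_smul, mul_smul, D.fix i s hs _ hu, smul_inv_smul]
  | one => rw [one_smul]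
  | mul a b _ _ ha hb => rw [mul_smul, hb, ha]
  | inv a _ ha => rw [inv_smul_eq_iff, ha]

theorem TT_quad {g : AddSubgroup M} {t : H} (ht : t ∈ TT T Ax g) (u : M) :
    t • u - u ∈ YY H Ax R g := by
  induction ht using Subgroup.closure_induction generalizing u with
  | mem t ht =>
    obtain ⟨h, i, hg, s, hs, rfl⟩ := ht
    have h1 := D.quad i s hs (h⁻¹ • u)
    have h2 : (h * s * h⁻¹) • u - u = h • (s • (h⁻¹ • u) - h⁻¹ • u) := by
      rw [mul_smul, mul_smul, smul_sub, smul_inv_smul]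
    rw [h2]
    exact AddSubgroup.subset_closure ⟨h, i, hg, _, h1, rfl⟩
  | one => rw [one_smul, sub_self]; exact AddSubgroup.zero_mem _
  | mul a b _ _ ha hb =>
    have h1 : (a * b) • u - u = (a • b • u - b • u) + (b • u - u) := by rw [mul_smul]; abel
    rw [h1]
    exact AddSubgroup.add_mem _ (ha _) (hb _)
  | inv a _ ha =>
    have h1 : a⁻¹ • u - u = -(a • (a⁻¹ • u) - a⁻¹ • u) := by rw [smul_inv_smul]; abel
    rw [h1]
    exact AddSubgroup.neg_mem _ (ha _)

/-- fullness -/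
theorem TT_full {g : AddSubgroup M} {u : M} (hu : u ∉ g) {y : M} (hy : y ∈ YY H Ax R g) :
    ∃ t ∈ TT T Ax g, t • u = u + y := by
  induction hy using AddSubgroup.closure_induction with
  | mem m hm =>
    obtain ⟨h, i, hg, y, hy, rfl⟩ := hm
    have h1 : h⁻¹ • u ∉ Ax i := by rwa [← mem_smul, hg]
    obtain ⟨s, hs, hsu⟩ := D.full i _ h1 y hy
    refine ⟨h * s * h⁻¹, Subgroup.subset_closure ⟨h, i, hg, s, hs, rfl⟩, ?_⟩
    rw [mul_smul, mul_smul, hsu, smul_add, smul_inv_smul]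
  | zero => exact ⟨1, Subgroup.one_mem _, by rw [one_smul, add_zero]⟩
  | add a b _ hb ha' hb' =>
    obtain ⟨t1, ht1, h1⟩ := ha'
    obtain ⟨t2, ht2, h2⟩ := hb'
    refine ⟨t1 * t2, Subgroup.mul_mem _ ht1 ht2, ?_⟩
    rw [mul_smul, h2, smul_add, h1, D.TT_fix ht1 (D.YY_le hb), add_assoc]
  | neg a ha ha' =>
    obtain ⟨t, ht, h1⟩ := ha'
    refine ⟨t⁻¹, Subgroup.inv_mem _ ht, ?_⟩
    rw [inv_smul_eq_iff, smul_add, smul_neg, h1, D.TT_fix ht (D.YY_le ha)]
    abel

theorem TT_invol {g : AddSubgroup M} {t : H} (ht : t ∈ TT T Ax g) (u : M) : t • t • u = u := by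
  have h1 := D.TT_fix ht (D.YY_le (D.TT_quad ht u))
  rw [smul_sub] at h1
  have h2 : t • t • u = (t • u + t • u) - u := by
    rw [sub_eq_iff_eq_add] at h1
    rw [h1]
    abel
  rw [h2, D.char2, zero_sub]
  exact neg_eq_of_add_eq_zero_left (D.char2 u)

theorem neg_eq (u : M) : -u = u := neg_eq_of_add_eq_zero_left (D.char2 u)

/-- axes are conjugate -/
theorem exists_smul {g g' : AddSubgroup M} (hg : IsAx (H := H) Ax g) (hg' : IsAx (H := H) Ax g') :
    ∃ x : H, x • g = g' := by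
  obtain ⟨h, i, rfl⟩ := hg
  obtain ⟨h', j, rfl⟩ := hg'
  obtain ⟨s, hs⟩ := D.trans i j
  exact ⟨h' * s * h⁻¹, by rw [mul_smul, mul_smul, inv_smul_smul, hs]⟩

theorem card_YY {g g' : AddSubgroup M} (hg : IsAx (H := H) Ax g) (hg' : IsAx (H := H) Ax g') :
    Nat.card (YY H Ax R g) = Nat.card (YY H Ax R g') := by
  obtain ⟨x, rfl⟩ := D.exists_smul hg hg'
  rw [YY_smul_eq]
  refine Nat.card_congr ⟨fun e => ⟨x • (e : M), AddSubgroup.smul_mem_pointwise_smul _ _ _ e.2⟩,
    fun e => ⟨x⁻¹ • (e : M), mem_smul.mp e.2⟩, fun e => ?_, fun e => ?_⟩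
  · ext; simp
  · ext; simp

omit D in
theorem eq_of_le' [Finite M] {a b : AddSubgroup M} (h : a ≤ b) (hc : Nat.card b ≤ Nat.card a) : a = b := by
  apply SetLike.coe_injective
  apply Set.eq_of_subset_of_ncard_le h
  exact hc

theorem smul_eq_of_not_adj {g g' : AddSubgroup M} (h : ¬ Adj H Ax R g' g) {t : H} (ht : t ∈ TT T Ax g') :
    t • g = g := by
  have hcon : YY H Ax R g' ≤ g := not_not.mp h
  refine smul_eq_of (P := TT T Ax g') (fun t ht u hu => ?_) ht
  rw [mem_smul] at hu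
  have h1 := hcon (D.TT_quad ht (t⁻¹ • u))
  have h2 := g.add_mem h1 hu
  rwa [sub_add_cancel, smul_inv_smul] at h2

theorem adj_symm [Finite M] {g g' : AddSubgroup M} (hg : IsAx (H := H) Ax g) (hg' : IsAx (H := H) Ax g')
    (h : Adj H Ax R g g') : Adj H Ax R g' g := by
  intro hcon
  -- `T_{g'}` normalises `g`
  have hn : ∀ t ∈ TT T Ax g', t • g = g := fun t ht => D.smul_eq_of_not_adj (not_not.mpr hcon) ht
  obtain ⟨y, hy, hyg⟩ := Set.not_subset.mp h
  have h1 : YY H Ax R g' ≤ YY H Ax R g := by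
    intro e he
    obtain ⟨t, ht, hte⟩ := D.TT_full hyg he
    have h2 : t • y ∈ YY H Ax R g := by
      have := YY_smul (Ax := Ax) (R := R) t g hy
      rwa [hn t ht] at this
    rw [hte] at h2
    have h3 := (YY H Ax R g).sub_mem h2 hy
    rwa [add_sub_cancel_left] at h3
  have h2 := eq_of_le' h1 (D.card_YY hg hg').le
  apply h
  rw [← h2]
  exact D.YY_le

end Rt

/-- Root groups with the hypotheses of THEOREM EXACT. -/
structure Ex {ι : Type*} [Fintype ι] (T : ι → Subgroup H) (Ax R : ι → AddSubgroup M) : Prop extends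
    Rt T Ax R where
  card : ∀ i j, Nat.card (M ⧸ Ax j) ≤ Nat.card (R i)
  big : ∀ i, 2 < Nat.card (R i)
  noff : ∀ r : M, Full R r → ∀ t : H, t • r = r → ∀ l, ∀ r' ∈ R l, ∀ i, t • r' ∈ Ax i
  nt : ∀ i, ∃ g, IsAx (H := H) Ax g ∧ ¬ R i ≤ g

namespace Ex

variable {ι : Type*} [Fintype ι] {T : ι → Subgroup H} {Ax R : ι → AddSubgroup M} (D : Ex T Ax R)
include D

theorem card_quot {g : AddSubgroup M} (hg : IsAx (H := H) Ax g) (i : ι) :
    Nat.card (M ⧸ g) = Nat.card (M ⧸ Ax i) := by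
  obtain ⟨x, rfl⟩ := D.exists_smul (Rt.isAx Ax i) hg
  exact (Nat.card_congr (QuotientAddGroup.congr (Ax i) (x • Ax i) (DistribMulAction.toAddEquiv M x)
    rfl).toEquiv).symm

/-- (6) an axis which contains a full vector contains all `R l` -/
theorem six [Finite M] {g : AddSubgroup M} (hg : IsAx (H := H) Ax g) {r : M} (hr : Full R r) (hrg : r ∈ g) (l : ι) :
    R l ≤ g := by
  by_contra hcon
  obtain ⟨z, hz, hzg⟩ := Set.not_subset.mp hcon
  have h1 : ∀ i, YY H Ax R g ≤ Ax i := by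
    intro i y hy
    obtain ⟨t, ht, hty⟩ := D.TT_full hzg hy
    have h2 := D.noff r hr t (D.TT_fix ht hrg) l z hz i
    rw [hty] at h2
    have h3 := (Ax i).sub_mem h2 (D.le l i hz)
    rwa [add_sub_cancel_left] at h3
  have h3 : Adj H Ax R (Ax l) g := fun h => hzg (h (Rt.R_le_YY l hz))
  exact D.adj_symm (Rt.isAx Ax l) hg h3 (h1 l)

theorem six' [Finite M] {g : AddSubgroup M} (hg : IsAx (H := H) Ax g) (t : H) {r : M}
    (hr : Full R r) (hrg : t • r ∈ g) (l : ι) : t • R l ≤ g := by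
  have h1 := D.six (hg.smul t⁻¹) hr (by rw [mem_smul, inv_inv]; exact hrg) l
  intro z hz
  rw [mem_smul] at hz
  have h3 := h1 hz
  rwa [mem_smul, inv_inv, smul_inv_smul] at h3

theorem ne_zero_of_big (i : ι) (r : M) : ∃ c ∈ R i, c ≠ 0 ∧ c ≠ r := by
  classical
  by_contra hcon
  push Not at hcon
  have h1 : ((R i : AddSubgroup M) : Set M) ⊆ ({0, r} : Set M) := by
    intro c hc
    by_cases h0 : c = 0
    · exact Or.inl h0
    · exact Or.inr (hcon c hc h0)
  have h2 : Nat.card (R i) ≤ 2 := by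
    have h3 := Set.ncard_le_ncard h1 (Set.toFinite _)
    have h4 : ({0, r} : Set M).ncard ≤ 2 := by
      have h5 := Set.ncard_insert_le (0 : M) {r}
      rwa [Set.ncard_singleton] at h5
    exact h3.trans h4
  exact absurd (D.big i) (by omega)

/-- (7), first part -/
theorem seven [Finite M] {g : AddSubgroup M} (hg : IsAx (H := H) Ax g) {l : ι} (hl : ¬ R l ≤ g) :
    ∃ i, ∀ r ∈ R i, r ∈ g → r = 0 := by
  by_contra hcon
  push Not at hcon
  choose f h1 h2 h3 using hcon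
  exact hl (D.six hg ⟨f, fun i => ⟨h1 i, h3 i⟩, rfl⟩ (g.sum_mem fun i _ => h2 i) l)

theorem inj_surj [Finite M] {g : AddSubgroup M} (hg : IsAx (H := H) Ax g) {i : ι}
    (h : ∀ r ∈ R i, r ∈ g → r = 0) :
    Nat.card (M ⧸ g) = Nat.card (R i) ∧ ∀ u : M, ∃ r ∈ R i, r + u ∈ g := by
  let φ : R i → M ⧸ g := fun r => QuotientAddGroup.mk (r : M)
  have hinj : Function.Injective φ := by
    intro a b hab
    have h1 : -(a : M) + b ∈ g := QuotientAddGroup.eq.mp hab
    have h2 := h _ ((R i).add_mem ((R i).neg_mem a.2) b.2) h1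
    exact Subtype.ext (neg_add_eq_zero.mp h2)
  have hbij : Function.Bijective φ := by
    refine hinj.bijective_of_nat_card_le ?_
    rw [D.card_quot hg i]
    exact D.card i i
  refine ⟨(Nat.card_congr (Equiv.ofBijective φ hbij)).symm, fun u => ?_⟩
  obtain ⟨r, hr⟩ := hbij.2 (QuotientAddGroup.mk u)
  have h1 : -(r : M) + u ∈ g := QuotientAddGroup.eq.mp hr
  rw [D.neg_eq] at h1
  exact ⟨r, r.2, h1⟩

/-- (7), second part -/
theorem others [Finite M] {g : AddSubgroup M} (hg : IsAx (H := H) Ax g) {l₀ : ι} (hZ : ¬ R l₀ ≤ g) {i : ι}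
    (h : ∀ r ∈ R i, r ∈ g → r = 0) {l : ι} (hl : l ≠ i) : R l ≤ g := by
  classical
  -- nonzero vectors
  have hx : ∀ m, ∃ x ∈ R m, x ≠ 0 := fun m => by
    obtain ⟨c, hc, hc0, -⟩ := D.ne_zero_of_big m 0
    exact ⟨c, hc, hc0⟩
  choose x hxR hx0 using hx
  obtain ⟨-, hs⟩ := D.inj_surj hg h
  let ρ : M → M := fun d => d + ∑ m ∈ (Finset.univ.erase l).erase i, x m
  have key : ∀ d ∈ R l, d ≠ 0 → ρ d ∈ g := by
    intro d hd hd0
    obtain ⟨s, hsR, hsg⟩ := hs (ρ d)
    by_cases hs0 : s = 0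
    · rwa [hs0, zero_add] at hsg
    · exfalso
      refine hZ (D.six hg (r := s + ρ d)
        ⟨fun m => if m = i then s else if m = l then d else x m, fun m => ?_, ?_⟩ hsg l₀)
      · by_cases h1 : m = i
        · subst h1; simp only [if_true]; exact ⟨hsR, hs0⟩
        · by_cases h2 : m = l
          · subst h2; simp only [if_neg h1, if_true]; exact ⟨hd, hd0⟩
          · simp only [if_neg h1, if_neg h2]; exact ⟨hxR m, hx0 m⟩
      · have hiu : i ∈ Finset.univ.erase l := Finset.mem_erase.mpr ⟨hl.symm, Finset.mem_univ _⟩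
        rw [← Finset.add_sum_erase Finset.univ _ (Finset.mem_univ l), ← Finset.add_sum_erase _ _ hiu]
        simp only [if_true, if_neg hl]
        have h1 : ∑ m ∈ (Finset.univ.erase l).erase i, (if m = i then s else if m = l then d else x m)
            = ∑ m ∈ (Finset.univ.erase l).erase i, x m := by
          refine Finset.sum_congr rfl fun m hm => ?_
          rw [Finset.mem_erase, Finset.mem_erase] at hm
          rw [if_neg hm.1, if_neg hm.2.1]
        rw [h1]
        change s + (d + _) = d + (s + _)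
        abel
  intro r hr
  by_cases hr0 : r = 0
  · rw [hr0]; exact g.zero_mem
  obtain ⟨c, hc, hc0, hcr⟩ := D.ne_zero_of_big l r
  have h1 := key c hc hc0
  have h2 := key (c + r) ((R l).add_mem hc hr) (fun h0 => hcr (by
    rw [← D.neg_eq r]; exact eq_neg_of_add_eq_zero_left h0))
  have h3 := g.sub_mem h2 h1
  have h4 : ρ (c + r) - ρ c = r := by
    change (c + r + _) - (c + _) = r
    abel
  rwa [h4] at h3

/-- (7): the axes not containing `R i`. -/
theorem spec [Finite M] {g : AddSubgroup M} (hg : IsAx (H := H) Ax g) {i : ι} (hi : ¬ R i ≤ g) :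
    (∀ l, l ≠ i → R l ≤ g) ∧ Nat.card (M ⧸ g) = Nat.card (R i) ∧
      (∀ u : M, ∃ r ∈ R i, r + u ∈ g) ∧ ∀ r ∈ R i, r ∈ g → r = 0 := by
  obtain ⟨j, hj⟩ := D.seven hg hi
  have hji : j = i := by
    by_contra hne
    exact hi (D.others hg hi hj (fun h => hne h.symm))
  subst hji
  exact ⟨fun l hl => D.others hg hi hj hl, (D.inj_surj hg hj).1, (D.inj_surj hg hj).2, hj⟩

/-- (8), no edges between different `NN`. -/
theorem eight [Finite M] {g g' : AddSubgroup M} (hg : IsAx (H := H) Ax g) (hg' : IsAx (H := H) Ax g')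
    {i j : ι} (hi : ¬ R i ≤ g) (hj : ¬ R j ≤ g') (hij : i ≠ j) : ¬ Adj H Ax R g g' := by
  classical
  intro hadj
  obtain ⟨y, hy, hyg⟩ := Set.not_subset.mp hadj
  obtain ⟨h1, -, -, -⟩ := D.spec hg hi
  obtain ⟨h2, -, h3, -⟩ := D.spec hg' hj
  obtain ⟨s, hsR, hsg⟩ := h3 y
  have hs0 : s ≠ 0 := by
    rintro rfl
    rw [zero_add] at hsg
    exact hyg hsg
  obtain ⟨a, haR, hag⟩ := Set.not_subset.mp hi
  have ha0 : a ≠ 0 := fun h => hag (h ▸ g.zero_mem)
  obtain ⟨t, ht, hta⟩ := D.TT_full hag hy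
  have hx : ∀ m, ∃ x ∈ R m, x ≠ 0 := fun m => by
    obtain ⟨c, hc, hc0, -⟩ := D.ne_zero_of_big m 0
    exact ⟨c, hc, hc0⟩
  choose x hxR hx0 using hx
  let f : ι → M := fun m => if m = i then a else if m = j then s else x m
  have hfi : f i = a := if_pos rfl
  have hfj : f j = s := by
    change (if j = i then a else if j = j then s else x j) = s
    rw [if_neg hij.symm, if_pos rfl]
  have hf : ∀ m, f m ∈ R m ∧ f m ≠ 0 := by
    intro m
    by_cases e1 : m = i
    · subst e1; rw [hfi]; exact ⟨haR, ha0⟩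
    · by_cases e2 : m = j
      · subst e2; rw [hfj]; exact ⟨hsR, hs0⟩
      · have : f m = x m := by
          change (if m = i then a else if m = j then s else x m) = x m
          rw [if_neg e1, if_neg e2]
        rw [this]
        exact ⟨hxR m, hx0 m⟩
  have hsum : t • (∑ m, f m) = (∑ m ∈ Finset.univ.erase j, f m) + (s + y) := by
    rw [← Finset.add_sum_erase Finset.univ f (Finset.mem_univ i), smul_add, hfi, hta, Finset.smul_sum]
    have e1 : ∑ m ∈ Finset.univ.erase i, t • f m = ∑ m ∈ Finset.univ.erase i, f m := by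
      refine Finset.sum_congr rfl fun m hm => ?_
      rw [Finset.mem_erase] at hm
      exact D.TT_fix ht (h1 m hm.1 (hf m).1)
    rw [e1]
    have e2 : a + ∑ m ∈ Finset.univ.erase i, f m = s + ∑ m ∈ Finset.univ.erase j, f m := by
      rw [← hfi, Finset.add_sum_erase Finset.univ f (Finset.mem_univ i), ← hfj,
        Finset.add_sum_erase Finset.univ f (Finset.mem_univ j)]
    have e3 : a + y + ∑ m ∈ Finset.univ.erase i, f m = (a + ∑ m ∈ Finset.univ.erase i, f m) + y := by abel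
    rw [e3, e2]
    abel
  have hmem : t • (∑ m, f m) ∈ g' := by
    rw [hsum]
    refine g'.add_mem (g'.sum_mem fun m hm => ?_) hsg
    rw [Finset.mem_erase] at hm
    exact h2 m hm.1 (hf m).1
  have h4 := D.six' hg' t ⟨f, hf, rfl⟩ hmem j
  apply hj
  intro r hr
  have h5 := h4 (AddSubgroup.smul_mem_pointwise_smul _ t _ hr)
  rwa [D.TT_fix ht (h1 j hij.symm hr)] at h5

omit D in
/-- the union of components `CC i` -/
def CC (H : Type*) [Group H] {M : Type*} [AddCommGroup M] [DistribMulAction H M] {ι : Type*}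
    (Ax R : ι → AddSubgroup M) (i : ι) (g : AddSubgroup M) : Prop :=
  IsAx (H := H) Ax g ∧ (¬ R i ≤ g ∨ ((∀ l, R l ≤ g) ∧
    ∃ g2, IsAx (H := H) Ax g2 ∧ ¬ R i ≤ g2 ∧ Adj H Ax R g g2))

/-- `CC i` is closed under adjacency -/
theorem CC_adj [Finite M] {i : ι} {g g' : AddSubgroup M} (h : CC H Ax R i g) (hg' : IsAx (H := H) Ax g')
    (hadj : Adj H Ax R g g') : CC H Ax R i g' := by
  obtain ⟨hg, h⟩ := h
  have hadj' := D.adj_symm hg hg' hadj
  refine ⟨hg', ?_⟩
  rcases h with h | ⟨hZ, g2, hg2, hi2, ha2⟩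
  · by_cases hZ' : ∀ l, R l ≤ g'
    · exact Or.inr ⟨hZ', g, hg, h, hadj'⟩
    · left
      push Not at hZ'
      obtain ⟨j, hj⟩ := hZ'
      by_cases hij : i = j
      · rwa [hij]
      · exact absurd hadj (D.eight hg hg' h hj hij)
  · -- move `g` into `NN i`
    obtain ⟨hl2, -, -, -⟩ := D.spec hg2 hi2
    obtain ⟨z, hz, hz2⟩ := Set.not_subset.mp hi2
    obtain ⟨y, hy, hyg⟩ := Set.not_subset.mp (D.adj_symm hg hg2 ha2)
    obtain ⟨t, ht, htz⟩ := D.TT_full hz2 hy
    have hz1 : ¬ R i ≤ t⁻¹ • g := by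
      intro h1
      have h2 := h1 hz
      rw [mem_smul, inv_inv, htz] at h2
      have h3 := g.sub_mem h2 (hZ i hz)
      rw [add_sub_cancel_left] at h3
      exact hyg h3
    have hg1 : IsAx (H := H) Ax (t⁻¹ • g) := hg.smul _
    -- a neighbour `g'` with `g'` not adjacent to `g2` is fixed by `t`
    have hfix : ¬ Adj H Ax R g2 g' → Adj H Ax R (t⁻¹ • g) g' := by
      intro h1
      have h2 := D.smul_eq_of_not_adj h1 (Subgroup.inv_mem _ ht)
      have h3 := adj_smul t⁻¹ hadj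
      rwa [h2] at h3
    by_cases hZ' : ∀ l, R l ≤ g'
    · right
      refine ⟨hZ', ?_⟩
      by_cases h1 : Adj H Ax R g2 g'
      · exact ⟨g2, hg2, hi2, D.adj_symm hg2 hg' h1⟩
      · exact ⟨t⁻¹ • g, hg1, hz1, D.adj_symm hg1 hg' (hfix h1)⟩
    · left
      push Not at hZ'
      obtain ⟨j, hj⟩ := hZ'
      by_cases hij : i = j
      · rwa [hij]
      · exact absurd (hfix (D.eight hg2 hg' hi2 hj hij)) (D.eight hg1 hg' hz1 hj hij)

theorem CC_disj [Finite M] {i j : ι} {g : AddSubgroup M} (hi : CC H Ax R i g) (hj : CC H Ax R j g) :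
    i = j := by
  by_contra hij
  rcases hj.2 with h2 | ⟨hZ, g3, hg3, hi3, ha3⟩
  · rcases hi.2 with h1 | ⟨hZ, -⟩
    · exact h2 ((D.spec hi.1 h1).1 j (fun h => hij h.symm))
    · exact h2 (hZ j)
  · have h1 := D.CC_adj hi hg3 ha3
    rcases h1.2 with h2 | ⟨hZ3, -⟩
    · exact hi3 ((D.spec hg3 h2).1 j (fun h => hij h.symm))
    · exact hi3 (hZ3 j)

theorem CC_self [Finite M] (i : ι) : CC H Ax R i (Ax i) := by
  refine ⟨Rt.isAx Ax i, Or.inr ⟨fun l => D.le l i, ?_⟩⟩
  obtain ⟨g, hg, hi⟩ := D.nt i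
  exact ⟨g, hg, hi, fun h => hi ((Rt.R_le_YY i).trans h)⟩

theorem card_eq [Finite M] (i j : ι) : Nat.card (M ⧸ Ax j) = Nat.card (R i) := by
  obtain ⟨g, hg, hi⟩ := D.nt i
  rw [← (D.spec hg hi).2.1, D.card_quot hg j]

/-- **THEOREM EXACT WITH RADICAL**, abstract form. -/
theorem exact [Finite M] (i : ι) (u : M) : ∃ v : M, (∀ l, l ≠ i → v ∈ Ax l) ∧ v + u ∈ Ax i := by
  obtain ⟨g, hg, hi⟩ := D.nt i
  have h1 : Adj H Ax R (Ax i) g := fun h => hi ((Rt.R_le_YY i).trans h)
  have h2 := D.adj_symm (Rt.isAx Ax i) hg h1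
  -- a conjugate of some `R j` in `YY g`, not contained in `Ax i`
  have h3 : ∃ (h : H) (j : ι), h • Ax j = g ∧ ¬ h • R j ≤ Ax i := by
    by_contra hcon
    push Not at hcon
    apply h2
    unfold YY
    rw [AddSubgroup.closure_le]
    rintro m ⟨h, j, hg, y, hy, rfl⟩
    exact hcon h j hg (AddSubgroup.smul_mem_pointwise_smul _ _ _ hy)
  obtain ⟨h, j, hgj, hj⟩ := h3
  have h4 : ¬ R j ≤ h⁻¹ • Ax i := by
    intro h5
    apply hj
    intro m hm
    rw [mem_smul] at hm
    have h6 := h5 hm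
    rwa [mem_smul, inv_inv, smul_inv_smul] at h6
  obtain ⟨-, -, h5, -⟩ := D.spec ((Rt.isAx Ax i).smul h⁻¹) h4
  obtain ⟨r, hr, hru⟩ := h5 (h⁻¹ • u)
  refine ⟨h • r, fun l hl => ?_, ?_⟩
  · have h6 : h • r ∈ YY H Ax R g := AddSubgroup.subset_closure ⟨h, j, hgj, r, hr, rfl⟩
    by_contra h7
    have h8 : Adj H Ax R g (Ax l) := fun h => h7 (h h6)
    have h9 := D.CC_adj (i := i) ⟨hg, Or.inl hi⟩ (Rt.isAx Ax l) h8
    exact hl (D.CC_disj (D.CC_self l) h9)
  · rw [mem_smul, inv_inv, smul_add, smul_inv_smul] at hru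
    exact hru

/-- **(TI)** a centre is contained in an axis or is a complement of it. -/
theorem ti [Finite M] {g : AddSubgroup M} (hg : IsAx (H := H) Ax g) (x : H) (i : ι) (hx : ¬ x • R i ≤ g) :
    (∀ m ∈ x • R i, m ∈ g → m = 0) ∧ ∀ u : M, ∃ r ∈ x • R i, r + u ∈ g := by
  have h4 : ¬ R i ≤ x⁻¹ • g := by
    intro h5
    apply hx
    intro m hm
    rw [mem_smul] at hm
    have h6 := h5 hm
    rwa [mem_smul, inv_inv, smul_inv_smul] at h6
  obtain ⟨-, -, h5, h6⟩ := D.spec (hg.smul x⁻¹) h4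
  constructor
  · intro m hm hmg
    rw [mem_smul] at hm
    have h7 := h6 _ hm (by rw [mem_smul, inv_inv, smul_inv_smul]; exact hmg)
    rwa [smul_eq_zero_iff_eq] at h7
  · intro u
    obtain ⟨r, hr, hru⟩ := h5 (x⁻¹ • u)
    rw [mem_smul, inv_inv, smul_add, smul_inv_smul] at hru
    exact ⟨x • r, AddSubgroup.smul_mem_pointwise_smul _ _ _ hr, hru⟩

/-- different `Ax i` are in different components -/
theorem not_reach [Finite M] {i j : ι}
    (h : Relation.ReflTransGen (fun g g' => IsAx (H := H) Ax g' ∧ Adj H Ax R g g') (Ax i) (Ax j)) : i = j := by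
  have h1 : ∀ g, Relation.ReflTransGen (fun g g' => IsAx (H := H) Ax g' ∧ Adj H Ax R g g') (Ax i) g →
      CC H Ax R i g := by
    intro g hg
    induction hg with
    | refl => exact D.CC_self i
    | tail _ hbc ih => exact D.CC_adj ih hbc.1 hbc.2
  exact D.CC_disj (h1 _ h) (D.CC_self j)

end Ex

end Cfsg.Agent.Omega.NOThreeL.RSplit.Root
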