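import Cfsg.Agent.Omega.NOThreeL.RBig.Trans
import Cfsg.Agent.Omega.NOThreeL.RSplit.Root

/-!
# NO-3L, box R, `q > 2`: (F'), (P), (M), (2) of #19602 for root groups

`axSys` : root groups `Rt T Ax R` with `2 < |R i|` are an axis system (`RBig.Trans.AxSys`);
`sit` : with a vector `z` fixed by a Sylow 2-subgroup, `H = N C_H(z)`, `N = ⟨T i ^ H⟩`, not fixed by `N`, the situation
`RBig.Trans.Sit`: `Sit.inf`, `Sit.orbit`, `Sit.mem`, `Sit.transU`, `Sit.mem_all`, `Sit.F'`.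
-/

set_option autoImplicit false

namespace Cfsg.Agent.Omega.NOThreeL.RSplit.TransRt

open Cfsg.Agent.Omega.NOThreeL.ThmAx (IsAx TT YY Adj mem_smul YY_smul_eq IsAx.smul)
open Cfsg.Agent.Omega.NOThreeL.RSplit.Root Cfsg.Agent.Omega.NOThreeL.RBig.Trans
open scoped Pointwise

variable {H M : Type*} [Group H] [AddCommGroup M] [DistribMulAction H M]
variable {ι : Type*} {T : ι → Subgroup H} {Ax R : ι → AddSubgroup M}

/-- the set of axes -/
def Axs (H : Type*) [Group H] {M : Type*} [AddCommGroup M] [DistribMulAction H M] {ι : Type*}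
    (Ax : ι → AddSubgroup M) : Set (AddSubgroup M) := {g | IsAx (H := H) Ax g}

theorem exists_big [Finite M] (i : ι) (h : 2 < Nat.card (R i)) (r : M) : ∃ c ∈ R i, c ≠ 0 ∧ c ≠ r := by
  by_contra hcon
  push Not at hcon
  have h1 : ((R i : AddSubgroup M) : Set M) ⊆ {0, r} := fun c hc => by
    by_cases h0 : c = 0
    · exact Or.inl h0
    · exact Or.inr (hcon c hc h0)
  have h2 : Nat.card (R i) ≤ ({0, r} : Set M).ncard := by
    rw [← SetLike.coe_sort_coe, Nat.card_coe_set_eq]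
    exact Set.ncard_le_ncard h1 (Set.toFinite _)
  have h3 : ({0, r} : Set M).ncard ≤ 2 := by
    classical
    exact (Set.ncard_insert_le _ _).trans (by rw [Set.ncard_singleton])
  omega

theorem conj_TT (x : H) {g : AddSubgroup M} {t : H} (ht : t ∈ TT T Ax g) : x * t * x⁻¹ ∈ TT T Ax (x • g) := by
  induction ht using Subgroup.closure_induction with
  | mem t ht =>
    obtain ⟨h, i, hg, s, hs, rfl⟩ := ht
    refine Subgroup.subset_closure ⟨x * h, i, by rw [mul_smul, hg], s, hs, by group⟩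
  | one => rw [mul_one, mul_inv_cancel]; exact one_mem _
  | mul a b _ _ ha hb =>
    have e : x * (a * b) * x⁻¹ = (x * a * x⁻¹) * (x * b * x⁻¹) := by group
    rw [e]
    exact mul_mem ha hb
  | inv a _ ha =>
    have e : x * a⁻¹ * x⁻¹ = (x * a * x⁻¹)⁻¹ := by group
    rw [e]
    exact inv_mem ha

/-- Root groups are an axis system. -/
theorem axSys [Finite M] (D : Rt T Ax R) (big : ∀ i, 2 < Nat.card (R i)) :
    AxSys (Axs H Ax) (TT T Ax) (YY H Ax R) where
  char2 := D.char2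
  inv := fun x _ hg => IsAx.smul hg x
  conjT := fun x _ _ _ ht => conj_TT x ht
  conjY := fun x g _ => YY_smul_eq x g
  le := fun _ _ => D.YY_le
  fix := fun _ _ _ ht _ hu => D.TT_fix ht hu
  quad := fun _ _ t ht u => by
    have h := D.TT_quad ht u
    have e : t • u - u = t • u + u := by
      rw [sub_eq_add_neg, neg_eq_of_add_eq_zero_left (D.char2 u)]
    rwa [e] at h
  full := fun _ _ _ hu _ hy => D.TT_full hu hy
  symm := fun _ hg _ hg' h => D.adj_symm hg hg' h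
  big := by
    rintro _ ⟨h, i, rfl⟩ r
    obtain ⟨c, hc, hc0, hcr⟩ := exists_big i (big i) (h⁻¹ • r)
    refine ⟨h • c, ?_, fun h0 => hc0 ?_, fun h0 => hcr ?_⟩
    · rw [YY_smul_eq]
      exact AddSubgroup.smul_mem_pointwise_smul _ _ _ (Rt.R_le_YY i hc)
    · rw [smul_eq_zero_iff_eq] at h0
      exact h0
    · rw [← h0, inv_smul_smul]
  trans := fun _ hg _ hg' => D.exists_smul hg hg'

/-- `N = ⟨x T_i x⁻¹⟩` -/
theorem conj_mem_NN {x t : H} {i : ι} (ht : t ∈ T i) : x * t * x⁻¹ ∈ NN (Axs H Ax) (TT T Ax) :=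
  (le_iSup₂_of_le (x • Ax i) ⟨x, i, rfl⟩ le_rfl : TT T Ax (x • Ax i) ≤ NN (Axs H Ax) (TT T Ax))
    (Subgroup.subset_closure ⟨x, i, rfl, t, ht, rfl⟩)

/-- The situation of a vector. -/
theorem sit [Finite M] (D : Rt T Ax R) (big : ∀ i, 2 < Nat.card (R i)) {z : M}
    (syl : ∃ S : Sylow 2 H, ∀ s ∈ S, s • z = z) (gen : ∀ h : H, ∃ n ∈ NN (Axs H Ax) (TT T Ax), (n⁻¹ * h) • z = z)
    (ne : ∃ (x : H) (i : ι), z ∉ x • Ax i) : Sit (Axs H Ax) (TT T Ax) (YY H Ax R) z where
  toAxSys := axSys D big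
  syl := syl
  gen := gen
  ne := by
    obtain ⟨x, i, h⟩ := ne
    exact ⟨_, ⟨x, i, rfl⟩, h⟩

end Cfsg.Agent.Omega.NOThreeL.RSplit.TransRt
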