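import Cfsg.Agent.Omega.NOThreeL.RA.End
import Cfsg.Agent.Omega.NOThreeL.DataLow

/-!
# NO-3L, box R, case (A), `q > 2`, split (#19602, helper797; repairs of helper602 / helper761), (7) END, group level

`V = zl S P`, `U = zl S H`, `C = CZ S`, `RR S P H = [U, V]` (`= R`), `WW S H = ⟨V_{P₁}^c : P₁ ≤ H, c ∈ C⟩`.

* `EndC S P H U₁ z₀` : the common data; `EndC.false_of` : `W ∩ U₁ ≤ R` is impossible;
* `EndC.W_comm` : `W` commutes with all `V^k`, `k ∈ N_H(R)`;
* `EndC.falseA` : (7)(a), MANY AXES;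
* `EndB` : the data of (7)(b), ONE AXIS (with (Q) = `RA.End.QP`); **`EndB.false`**.
-/

set_option autoImplicit false

namespace Cfsg.Agent.Omega.NOThreeL.RSplit.EndB

open Subgroup Cfsg Cfsg.Agent.ZN Cfsg.Agent.Omega.MinPar Cfsg.Agent.Omega.Frame Cfsg.Agent.Omega.FrameNOFF
open Cfsg.Agent.Omega.Node.NO3L Cfsg.Agent.Omega.NOThreeL.Basic
open Cfsg.Agent.Omega.NoFF.Basic (V conj_conj mem_conj conj_le_iff conj_le_centralizer comm_symm comm_mono
  Z_le_V V_le conj_V_mul)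
open Cfsg.Agent.Omega.NOThreeL.Pair (conj_eq_of_mem conj_le_normalizer zl_abel)
open Cfsg.Agent.Omega.NOThreeL.RA.End (QP zl_mono zl_le_of_cent exists_mul_of_mem_sup le_normalizer_centralizer)
open Cfsg.Agent.MinSimple.VModule (zl_le le_normalizer_zl zc_le_zl zc_le zl_le_zc mem_zc
  normalizer_le_normalizer_zc o2_isPGroup le_normalizer_o2 le_o2 o2_le)
open scoped Pointwise commutatorElement

universe u

variable {G : Type u} [Group G]

/-- `R = [U, V]` -/
def RR (S P H : Subgroup G) : Subgroup G := ⁅zl S H, zl S P⁆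

/-- `W = ⟨V_{P₁}^c⟩` -/
def WW (S H : Subgroup G) : Subgroup G := ⨆ P₁ : {P₁ : Subgroup G // IsParS S P₁ ∧ P₁ ≤ H}, V (zl S P₁.1) (CZ S)

theorem le_WW {S H P₁ : Subgroup G} (h : IsParS S P₁) (hH : P₁ ≤ H) {c : G} (hc : c ∈ CZ S) :
    MulAut.conj c • zl S P₁ ≤ WW S H :=
  (Z_le_V (Z := zl S P₁) hc).trans
    (le_iSup (fun P₁ : {P₁ : Subgroup G // IsParS S P₁ ∧ P₁ ≤ H} => V (zl S P₁.1) (CZ S)) ⟨P₁, h, hH⟩)

theorem WW_le {S H K : Subgroup G} (h : ∀ P₁, IsParS S P₁ → P₁ ≤ H → ∀ c ∈ CZ S, MulAut.conj c • zl S P₁ ≤ K) :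
    WW S H ≤ K :=
  iSup_le fun P₁ => V_le fun c hc => h P₁.1 P₁.2.1 P₁.2.2 c hc

theorem conj_mem_WW {S H : Subgroup G} {c y : G} (hc : c ∈ CZ S) (hy : y ∈ WW S H) : c * y * c⁻¹ ∈ WW S H := by
  have h1 : WW S H ≤ MulAut.conj c⁻¹ • WW S H := WW_le fun P₁ h hH d hd => by
    have h2 := (conj_le_iff (g := c⁻¹)).2 (le_WW h hH (mul_mem hc hd))
    rwa [conj_conj, inv_mul_cancel_left] at h2
  have h2 := h1 hy
  rwa [mem_conj, inv_inv] at h2

/-- The common data of (7). -/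
structure EndC (S P H U₁ : Subgroup G) (z₀ : G) : Prop where
  par : IsParS S P
  long : IsLong S H
  ne : ¬ zl S H ≤ centralizer (zl S P : Set G)
  gen : ∀ X : Subgroup G, CZ S ≤ X → (∀ P', IsParS S P' → P' ≤ H → P' ≤ X) → H ≤ X
  U₁U : U₁ ≤ zl S H
  RU : RR S P H ≤ U₁
  HU : H ≤ normalizer (U₁ : Set G)
  /-- `Z ≤ R × F` -/
  ZF : zc S ≤ RR S P H ⊔ (zc S ⊓ centralizer (H : Set G))
  z0 : z₀ ∈ zc S
  z0R : z₀ ∈ RR S P H
  z01 : z₀ ≠ 1
  /-- points: `z₀^h ∈ R ⟹ R^h = R` -/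
  pts : ∀ h ∈ H, h * z₀ * h⁻¹ ∈ RR S P H → MulAut.conj h • RR S P H ≤ RR S P H

/-- A finite group and its conjugate. -/
theorem conj_eq_of_le [Finite G] {A : Subgroup G} {g : G} (h : MulAut.conj g • A ≤ A) : MulAut.conj g • A = A := by
  refine Subgroup.eq_of_le_of_card_ge h ?_
  have : Nat.card ↥(MulAut.conj g • A) = Nat.card ↥A := Nat.card_congr (Subgroup.equivSMul (MulAut.conj g) A).toEquiv.symm
  exact this.ge

theorem mem_norm_of_le [Finite G] {A : Subgroup G} {g : G} (h : MulAut.conj g • A ≤ A) :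
    g ∈ normalizer (A : Set G) :=
  RTransv.mem_normalizer_of_conj (conj_eq_of_le h)

theorem norm_o2 (L : Subgroup G) : normalizer (L : Set G) ≤ normalizer (o2 L : Set G) := by
  intro g hg
  refine RTransv.mem_normalizer_of_conj ?_
  rw [← Cfsg.Agent.MinSimple.CosetFam.o2_conj, conj_eq_of_mem hg]

/-- a 2-subgroup normalised by `S` lies in `S` -/
theorem le_sylow {S : Sylow 2 G} {R : Subgroup G} (hR : IsPGroup 2 R)
    (h : (S : Subgroup G) ≤ normalizer (R : Set G)) : R ≤ (S : Subgroup G) := by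
  have : Fact (Nat.Prime 2) := ⟨Nat.prime_two⟩
  have h1 : IsPGroup 2 ((S : Subgroup G) ⊔ R : Subgroup G) := S.isPGroup'.to_sup_of_normal_right' hR h
  exact le_sup_right.trans (S.is_maximal' h1 le_sup_left).le

section

variable [Finite G] {S : Sylow 2 G} {P H U₁ : Subgroup G} {z₀ : G}

theorem geoL (hc : IsCharacteristicTwoType G) (Da : DataLow (S : Subgroup G)) :
    NoFF.Lines.Geo (S : Subgroup G) (zc (S : Subgroup G)) (CZ (S : Subgroup G)) (PS (S : Subgroup G)) := by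
  have hG : (S : Subgroup G) ≠ ⊥ := by
    intro h0
    have h2 : Fact (Nat.Prime 2) := ⟨Nat.prime_two⟩
    have h1 := S.not_dvd_index
    rw [h0, index_bot] at h1
    exact h1 hc.1.two_dvd
  exact FrameNOFF.geo hc S Da.noff hG Da.low

variable (hc : IsCharacteristicTwoType G) (Da : DataLow (S : Subgroup G))

namespace EndC

variable (T : EndC (S : Subgroup G) P H U₁ z₀)
include hc T

omit [Finite G] in
theorem RR_normal_aux {A B : Subgroup G} (hA : A ≤ normalizer (B : Set G)) : ⁅A, B⁆ ≤ B :=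
  commutator_le.2 fun a ha b hb => by
    rw [commutatorElement_def]
    exact mul_mem ((mem_normalizer_iff.1 (hA ha) b).1 hb) (inv_mem hb)

theorem UV : zl (S : Subgroup G) H ≤ normalizer (zl (S : Subgroup G) P : Set G) :=
  (IsLong.zl_le_S hc T.long).trans (T.par.le.trans (le_normalizer_zl _ _))

theorem VU : zl (S : Subgroup G) P ≤ normalizer (zl (S : Subgroup G) H : Set G) :=
  (IsParS.zl_le_S hc T.par).trans (T.long.loc.le.trans (le_normalizer_zl _ _))

theorem RR_le_V : RR (S : Subgroup G) P H ≤ zl (S : Subgroup G) P := RR_normal_aux hc T (T.UV hc)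

theorem RR_le_U : RR (S : Subgroup G) P H ≤ zl (S : Subgroup G) H := T.RU.trans T.U₁U

/-- `V` centralises `R`. -/
theorem V_cent_R : zl (S : Subgroup G) P ≤ centralizer (RR (S : Subgroup G) P H : Set G) :=
  ((zl_abel hc S T.par.isLoc).1).trans (centralizer_le (T.RR_le_V hc))

omit hc in
/-- `C` normalises `R`. -/
theorem C_norm : CZ (S : Subgroup G) ≤ normalizer (RR (S : Subgroup G) P H : Set G) := by
  intro c hcC
  refine mem_norm_of_le (T.pts c (T.long.cz hcC) ?_)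
  rw [(mem_centralizer_iff.1 hcC z₀ T.z0).symm, mul_inv_cancel_right]
  exact T.z0R

/-- `W ∩ U₁ ≤ R` is impossible. -/
theorem false_of (h : ∀ y ∈ WW (S : Subgroup G) H, y ∈ U₁ → y ∈ RR (S : Subgroup G) P H) : False := by
  have hHR : H ≤ normalizer (RR (S : Subgroup G) P H : Set G) := by
    refine T.gen _ T.C_norm fun P₁ h₁ hH p₁ hp => ?_
    refine mem_norm_of_le (T.pts p₁ (hH hp) (h _ ?_ ?_))
    · have h2 := le_WW (S := (S : Subgroup G)) h₁ hH (one_mem _)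
      rw [map_one, one_smul] at h2
      exact h2 ((mem_normalizer_iff.1 (le_normalizer_zl _ _ hp) z₀).1 (zc_le_zl _ _ T.z0))
    · exact (mem_normalizer_iff.1 (T.HU (hH hp)) z₀).1 (T.RU T.z0R)
  have hF : H ≤ normalizer ((zc (S : Subgroup G) ⊓ centralizer (H : Set G) : Subgroup G) : Set G) := by
    intro g hg
    have key : ∀ g ∈ H, ∀ x ∈ zc (S : Subgroup G) ⊓ centralizer (H : Set G), g * x * g⁻¹ = x := fun g hg x hx => by
      rw [mem_centralizer_iff.1 hx.2 g hg, mul_inv_cancel_right]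
    refine mem_norm_of_le fun x hx => ?_
    rw [mem_conj] at hx
    have h1 := key g hg _ hx
    have h2 : g * (g⁻¹ * x * g) * g⁻¹ = x := by group
    rw [h2] at h1
    rw [h1]
    exact hx
  have hHX : H ≤ normalizer
      ((RR (S : Subgroup G) P H ⊔ (zc (S : Subgroup G) ⊓ centralizer (H : Set G)) : Subgroup G) : Set G) := by
    intro g hg
    refine RTransv.mem_normalizer_of_conj ?_
    rw [Subgroup.smul_sup, conj_eq_of_mem (hHR hg), conj_eq_of_mem (hF hg)]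
  have h1 : zl (S : Subgroup G) H ≤ RR (S : Subgroup G) P H ⊔ (zc (S : Subgroup G) ⊓ centralizer (H : Set G)) :=
    zl_le T.ZF hHX
  exact T.ne (h1.trans (sup_le (comm_symm (T.V_cent_R hc))
    (inf_le_left.trans ((zc_le_zl _ _).trans (zl_abel hc S T.par.isLoc).1))))

include Da in
/-- (7)(a): `V^k ≤ S` for `k ∈ N_H(R)`. -/
theorem conj_V_le_S {k : G} (hk : k ∈ H) (hkR : k ∈ normalizer (RR (S : Subgroup G) P H : Set G)) :
    MulAut.conj k • zl (S : Subgroup G) P ≤ (S : Subgroup G) := by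
  have hVS := IsParS.zl_le_S hc T.par
  have hVH : zl (S : Subgroup G) P ≤ H := hVS.trans T.long.loc.le
  -- `N`, `CR`
  have hNH : V (zl (S : Subgroup G) P) H ≤ H := V_le fun h hh => by
    have h1 := (conj_le_iff (g := h)).2 hVH
    rwa [conj_eq_of_mem (le_normalizer hh)] at h1
  have hNn : H ≤ normalizer (V (zl (S : Subgroup G) P) H : Set G) := fun h hh => by
    refine RTransv.mem_normalizer_of_conj ?_
    have := conj_V_mul (Z := zl (S : Subgroup G) P) (g := 1) hh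
    rwa [one_mul, map_one, one_smul] at this
  set CR := V (zl (S : Subgroup G) P) H ⊓ centralizer (RR (S : Subgroup G) P H : Set G) with hCR
  have hCRC : CR ≤ CZ (S : Subgroup G) := by
    intro g hg
    have h1 : RR (S : Subgroup G) P H ⊔ (zc (S : Subgroup G) ⊓ centralizer (H : Set G)) ≤
        centralizer ({g} : Set G) := by
      refine sup_le (fun x hx => ?_) (fun x hx => ?_)
      · exact mem_centralizer_singleton_iff.2 ((mem_centralizer_iff.1 hg.2 x hx))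
      · exact mem_centralizer_singleton_iff.2 ((mem_centralizer_iff.1 hx.2 g (hNH hg.1)).symm)
    refine mem_centralizer_iff.2 fun z hz => ?_
    exact mem_centralizer_singleton_iff.1 (h1 (T.ZF hz))
  have hnorm : ∀ k ∈ H, k ∈ normalizer (RR (S : Subgroup G) P H : Set G) → k ∈ normalizer (CR : Set G) := by
    intro k hk hkR
    refine RTransv.mem_normalizer_of_conj ?_
    rw [hCR, Subgroup.smul_inf, conj_eq_of_mem (hNn hk)]
    congr 1
    exact conj_eq_of_mem (le_normalizer_centralizer (A := normalizer (RR (S : Subgroup G) P H : Set G)) le_rfl hkR)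
  have hnO : ∀ k ∈ H, k ∈ normalizer (RR (S : Subgroup G) P H : Set G) → k ∈ normalizer (o2 CR : Set G) := by
    intro k hk hkR
    exact norm_o2 _ (hnorm k hk hkR)
  have hSO : (S : Subgroup G) ≤ normalizer (o2 CR : Set G) := fun s hs =>
    hnO s (T.long.loc.le hs) (T.C_norm (le_CZ S hs))
  have hOS : o2 CR ≤ (S : Subgroup G) := le_sylow (o2_isPGroup _) hSO
  have hVO : zl (S : Subgroup G) P ≤ o2 CR := by
    refine le_trans (le_inf (Da.low P T.par) (le_inf ?_ (T.V_cent_R hc))) (?_ : o2 (CZ (S : Subgroup G)) ⊓ CR ≤ o2 CR)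
    · have := Z_le_V (Z := zl (S : Subgroup G) P) (P := H) (one_mem H)
      rwa [map_one, one_smul] at this
    · refine le_o2 inf_le_right ((o2_isPGroup _).to_le inf_le_left) ?_
      intro g hg
      refine RTransv.mem_normalizer_of_conj ?_
      rw [Subgroup.smul_inf, conj_eq_of_mem (le_normalizer_o2 _ (hCRC hg)), conj_eq_of_mem (le_normalizer hg)]
  have h1 := (conj_le_iff (g := k)).2 hVO
  rw [conj_eq_of_mem (hnO k hk hkR)] at h1
  exact h1.trans hOS

include Da in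
/-- (7)(a): `W` commutes with `V^k`, `k ∈ N_H(R)`. -/
theorem W_comm {k : G} (hk : k ∈ H) (hkR : k ∈ normalizer (RR (S : Subgroup G) P H : Set G)) :
    WW (S : Subgroup G) H ≤ centralizer ((MulAut.conj k • zl (S : Subgroup G) P : Subgroup G) : Set G) := by
  have D' := geoL hc Da
  have key : ∀ k ∈ H, k ∈ normalizer (RR (S : Subgroup G) P H : Set G) → ∀ P₁, IsParS (S : Subgroup G) P₁ → P₁ ≤ H →
      zl (S : Subgroup G) P₁ ≤ centralizer ((MulAut.conj k • zl (S : Subgroup G) P : Subgroup G) : Set G) := by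
    intro k hk hkR P₁ h₁ hH
    have h2 := T.conj_V_le_S hc Da hk hkR
    have h3 : zl (S : Subgroup G) P₁ ≤ MulAut.conj k • P := by
      refine (zl_mono hH).trans ?_
      rw [← conj_eq_of_mem (le_normalizer_zl (S : Subgroup G) H hk)]
      exact conj_le_iff.2 ((IsLong.zl_le_S hc T.long).trans T.par.le)
    have h4 := D'.noff' h₁ T.par (g := 1) (h := k) (by
      rw [map_one, one_smul]
      exact h3) (by
      rw [map_one, one_smul]
      exact h2.trans h₁.le)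
    rw [map_one, one_smul] at h4
    exact h4
  refine WW_le fun P₁ h₁ hH c hcC => ?_
  have h1 := key (c⁻¹ * k) (mul_mem (inv_mem (T.long.cz hcC)) hk) (mul_mem (inv_mem (T.C_norm hcC)) hkR) P₁ h₁ hH
  have h2 := conj_le_centralizer (g := c) h1
  rwa [conj_conj, mul_inv_cancel_left] at h2

include Da in
/-- **(7)(a)**: MANY AXES. -/
theorem falseA (axR : ∀ y ∈ U₁, (∀ k ∈ H, k ∈ normalizer (RR (S : Subgroup G) P H : Set G) →
    y ∈ centralizer ((MulAut.conj k • zl (S : Subgroup G) P : Subgroup G) : Set G)) →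
    y ∈ RR (S : Subgroup G) P H) : False :=
  T.false_of hc fun y hy hyU => axR y hyU fun _ hk hkR => T.W_comm hc Da hk hkR hy

end EndC

end

/-- The data of (7)(b), ONE AXIS.  `U i`, `R i` : the components of `U₁` and of `R`; `D i` : the product of the other
components; `w ∈ P` opposite; `f ∈ F = C_Z(H)`. -/
structure EndB {ι : Type*} (S P H U₁ : Subgroup G) (z₀ f w : G) (U D R : ι → Subgroup G) : Prop
    extends EndC S P H U₁ z₀ where
  /-- `t ∈ U i`, `t ∈ D i R i ⟹ t ∈ R i` -/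
  indep : ∀ i, ∀ t ∈ U i, t ∈ D i ⊔ R i → t ∈ R i
  U_le : ∀ i, U i ≤ U₁
  le_D : ∀ i j, j ≠ i → U j ≤ D i
  RR_le : ∀ i, RR S P H ≤ D i ⊔ R i
  inter : ∀ y ∈ U₁, (∀ i, y ∈ D i ⊔ R i) → y ∈ RR S P H
  /-- `C` is transitive on the components -/
  trC : ∀ i j, ∃ c ∈ CZ S, ∀ t ∈ U i, t ∉ R i → c * t * c⁻¹ ∈ U j ∧ c * t * c⁻¹ ∉ R j
  /-- `y ∈ C(V)`, `y_i ∉ R i`: some `a ∈ C` with `1 ≠ [y, a] ∈ p`, `p ≠ R i` a point of `U i` -/
  exA : ∀ i, ∀ y ∈ U₁, y ∈ centralizer (zl S P : Set G) → y ∉ D i ⊔ R i → ∃ a ∈ CZ S, y * (a * y⁻¹ * a⁻¹) ∈ U i ∧ y * (a * y⁻¹ * a⁻¹) ∉ R i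
  /-- `N` is transitive on the full vectors of `U₁` -/
  tr : ∀ x ∈ U₁, (∀ i, x ∉ D i) → ∃ n ∈ H, x = n * z₀ * n⁻¹
  hQ : QP S P H
  hf : f ∈ zc S ⊓ centralizer (H : Set G)
  hw : w ∈ P
  /-- `V = (V ∩ U) R^w` -/
  Vw : ∀ v ∈ zl S P, ∃ a ∈ zl S H, ∃ r ∈ RR S P H, v = a * (w * r * w⁻¹)
  Vw' : ∀ v ∈ zl S P, ∃ a ∈ zl S H, ∃ r ∈ RR S P H, v = a * (w⁻¹ * r * w)
  /-- `[f, U^w] = R^w` -/
  op : ∀ r ∈ RR S P H, ∃ u ∈ zl S H, (w⁻¹ * u * w) * f * (w⁻¹ * u * w)⁻¹ = f * (w⁻¹ * r * w)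
  /-- `C_R(U^w) = 1` -/
  opR : ∀ x ∈ RR S P H, (∀ u ∈ zl S H, (w⁻¹ * u * w) * x = x * (w⁻¹ * u * w)) → x = 1

section

variable [Finite G] {S : Sylow 2 G} {P H U₁ : Subgroup G} {z₀ f w : G} {ι : Type*} {U D R : ι → Subgroup G}
variable (hc : IsCharacteristicTwoType G) (Da : DataLow (S : Subgroup G))

namespace EndB

variable (T : EndB (S : Subgroup G) P H U₁ z₀ f w U D R)
include hc Da T

/-- The lines commute. -/
theorem line_comm {P₁ : Subgroup G} (h₁ : IsParS (S : Subgroup G) P₁) :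
    zl (S : Subgroup G) P₁ ≤ centralizer (zl (S : Subgroup G) P : Set G) := by
  have D' := geoL hc Da
  have h := D'.noff' h₁ T.par (g := 1) (h := 1) (by
    rw [map_one, one_smul, one_smul]
    exact (IsParS.zl_le_S hc h₁).trans T.par.le) (by
    rw [map_one, one_smul, one_smul]
    exact (IsParS.zl_le_S hc T.par).trans h₁.le)
  rw [map_one, one_smul, one_smul] at h
  exact h

/-- `W₀ = ⟨V_{P₁}^L⟩`, `L = C_G(e) ≥ ⟨P, C⟩`, `1 ≠ e ∈ C_Z(P)`: all its elements act on `U` as elements of `V`. -/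
theorem W0 (hD : zc (S : Subgroup G) ⊓ centralizer (P : Set G) ≠ ⊥) {P₁ : Subgroup G} (h₁ : IsParS (S : Subgroup G) P₁) (hH : P₁ ≤ H) {y l : G}
    (hy : y ∈ zl (S : Subgroup G) P₁) (hl : l ∈ P ⊔ CZ (S : Subgroup G)) :
    l * y * l⁻¹ ∈ zl (S : Subgroup G) P ⊔ centralizer (zl (S : Subgroup G) H : Set G) := by
  obtain ⟨⟨e, he⟩, he1⟩ : ∃ e : ↥(zc (S : Subgroup G) ⊓ centralizer (P : Set G)), e ≠ 1 := by
    by_contra hcon
    refine hD (eq_bot_iff.2 fun x hx => ?_)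
    by_contra hx1
    exact hcon ⟨⟨x, hx⟩, fun h => hx1 (by simpa using congrArg Subtype.val h)⟩
  have he1 : e ≠ 1 := fun h => he1 (Subtype.ext h)
  have hCL : CZ (S : Subgroup G) ≤ centralizer ({e} : Set G) := centralizer_le (Set.singleton_subset_iff.2 he.1)
  have hPL : P ≤ centralizer ({e} : Set G) := fun p hp =>
    mem_centralizer_singleton_iff.2 (mem_centralizer_iff.1 he.2 p hp)
  have hL : IsLong (S : Subgroup G) (centralizer ({e} : Set G)) :=
    ⟨isLoc_centralizer S (mem_zc.1 he.1).2.2 he1 ((le_CZ S).trans hCL), hCL⟩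
  have hQ := T.hQ
  replace hl : l ∈ centralizer ({e} : Set G) := (sup_le hPL hCL) hl
  set L := centralizer ({e} : Set G) with hLdef
  have hUU : zl (S : Subgroup G) P₁ ≤ zl (S : Subgroup G) H := zl_mono hH
  -- `V ⊔ C(U)` centralises `V_{P₁}`
  have h2 : zl (S : Subgroup G) P ⊔ centralizer (zl (S : Subgroup G) H : Set G) ≤
      centralizer (zl (S : Subgroup G) P₁ : Set G) :=
    sup_le (comm_symm (T.line_comm hc Da h₁)) (centralizer_le hUU)
  have hU : zl (S : Subgroup G) L ≤ centralizer (zl (S : Subgroup G) P₁ : Set G) :=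
    (hQ _ ((hL.zl_le_o2 hc S).trans (hL.o2_le S)) (hL.cz.trans (le_normalizer_zl _ _))
      (zl_abel hc S hL.loc).1).trans h2
  have h3 : zl (S : Subgroup G) P₁ ≤ o2 L := le_o2_of_comm (Da.low P₁ h₁) hL (comm_symm hU)
  -- `W₀`
  have h4 : V (zl (S : Subgroup G) P₁) L ≤ o2 L := by
    refine V_le fun x hx => ?_
    have h5 := (conj_le_iff (g := x)).2 h3
    rwa [conj_eq_of_mem (le_normalizer_o2 _ hx)] at h5
  have h6 : L ≤ normalizer (V (zl (S : Subgroup G) P₁) L : Set G) := by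
    intro g hg
    refine RTransv.mem_normalizer_of_conj ?_
    have := conj_V_mul (Z := zl (S : Subgroup G) P₁) (g := 1) hg
    rwa [one_mul, map_one, one_smul] at this
  have D' := geoL hc Da
  have hSL : ∀ x ∈ L, MulAut.conj x • zl (S : Subgroup G) P₁ ≤ o2 L := fun x hx => by
    have h5 := (conj_le_iff (g := x)).2 h3
    rwa [conj_eq_of_mem (le_normalizer_o2 _ hx)] at h5
  have hLP : ∀ x ∈ L, o2 L ≤ MulAut.conj x • P₁ := fun x hx => by
    rw [← conj_eq_of_mem (le_normalizer_o2 L hx)]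
    exact conj_le_iff.2 ((hL.loc.o2_le S).trans h₁.le)
  have h7 : V (zl (S : Subgroup G) P₁) L ≤ centralizer (V (zl (S : Subgroup G) P₁) L : Set G) := by
    refine V_le fun x hx => comm_symm (V_le fun x' hx' => comm_symm ?_)
    exact D'.noff' h₁ h₁ ((hSL x hx).trans (hLP x' hx')) ((hSL x' hx').trans (hLP x hx))
  refine hQ _ (h4.trans (hL.o2_le S)) (hL.cz.trans h6) h7 (Z_le_V (Z := zl (S : Subgroup G) P₁) hl ?_)
  rw [mem_conj]
  simpa [mul_assoc] using hy

/-- `y ∈ W` : `y^w` acts on `U` as an element of `V`. -/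
theorem W_act (hD : zc (S : Subgroup G) ⊓ centralizer (P : Set G) ≠ ⊥) {y : G} (hy : y ∈ WW (S : Subgroup G) H) :
    w * y * w⁻¹ ∈ zl (S : Subgroup G) P ⊔ centralizer (zl (S : Subgroup G) H : Set G) := by
  have h1 : WW (S : Subgroup G) H ≤
      MulAut.conj w⁻¹ • (zl (S : Subgroup G) P ⊔ centralizer (zl (S : Subgroup G) H : Set G)) := by
    refine WW_le fun P₁ h₁ hH c hcC => fun x hx => ?_
    rw [mem_conj] at hx
    rw [mem_conj]
    have h2 := T.W0 hc Da hD h₁ hH hx (mul_mem (mem_sup_left T.hw : w ∈ P ⊔ CZ (S : Subgroup G))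
      (mem_sup_right hcC : c ∈ P ⊔ CZ (S : Subgroup G)))
    have h3 : w * c * (c⁻¹ * x * c) * (w * c)⁻¹ = w⁻¹⁻¹ * x * w⁻¹ := by group
    rwa [h3] at h2
  have h2 := h1 hy
  rwa [mem_conj, inv_inv] at h2

/-- No `y ∈ W ∩ U₁` has all components outside `R`. -/
theorem not_full (hD : zc (S : Subgroup G) ⊓ centralizer (P : Set G) ≠ ⊥) {y : G} (hy : y ∈ WW (S : Subgroup G) H) (hyU : y ∈ U₁) (hfull : ∀ i, y ∉ D i ⊔ R i) : False := by
  have hUab := (zl_abel hc S T.long.loc).1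
  have hVC := le_normalizer_centralizer (T.toEndC.VU hc)
  obtain ⟨v, hv, c, hcU, e1⟩ := exists_mul_of_mem_sup hVC (T.W_act hc Da hD hy)
  obtain ⟨a, ha, r, hr, e2⟩ := T.Vw v hv
  have hrU : r ∈ zl (S : Subgroup G) H := T.toEndC.RR_le_U hc hr
  set x := y * r⁻¹ with hx
  have hxU₁ : x ∈ U₁ := mul_mem hyU (inv_mem (T.RU hr))
  have hxU : x ∈ zl (S : Subgroup G) H := T.U₁U hxU₁
  have hwr : w * r * w⁻¹ ∈ zl (S : Subgroup G) P :=
    (mem_normalizer_iff.1 (le_normalizer_zl _ _ T.hw) r).1 (T.toEndC.RR_le_V hc hr)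
  have hwx : w * x * w⁻¹ ∈ centralizer (zl (S : Subgroup G) H : Set G) := by
    have h3 : w * x * w⁻¹ = a * ((w * r * w⁻¹) * c * (w * r * w⁻¹)⁻¹) := by
      calc w * x * w⁻¹ = (w * y * w⁻¹) * (w * r * w⁻¹)⁻¹ := by rw [hx]; group
        _ = _ := by rw [e1, e2]; group
    rw [h3]
    exact mul_mem (hUab ha) ((mem_normalizer_iff.1 (hVC hwr) c).1 hcU)
  have hxD : ∀ i, x ∉ D i := by
    intro i h
    refine hfull i ?_
    have h1 : y = x * r := by rw [hx, inv_mul_cancel_right]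
    rw [h1]
    exact mul_mem (mem_sup_left h) (T.RR_le i hr)
  obtain ⟨n, hn, hnx⟩ := T.tr x hxU₁ hxD
  -- `⟨U, U^{w⁻¹}⟩ ≤ C(x)`
  have hU'x : ∀ u ∈ zl (S : Subgroup G) H, (w⁻¹ * u * w) * x = x * (w⁻¹ * u * w) := fun u hu => by
    have h3 := mem_centralizer_iff.1 hwx u hu
    have h4 := congrArg (fun t => w⁻¹ * t * w) h3
    simpa [mul_assoc] using h4
  have hz0 : z₀ = n⁻¹ * x * n := by rw [hnx]; group
  have hC0 : ∀ g : G, g * x = x * g → n⁻¹ * g * n ∈ centralizer ({z₀} : Set G) := by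
    intro g hg
    rw [mem_centralizer_singleton_iff, hz0]
    calc n⁻¹ * g * n * (n⁻¹ * x * n) = n⁻¹ * (g * x) * n := by group
      _ = n⁻¹ * (x * g) * n := by rw [hg]
      _ = _ := by group
  set K := zl (S : Subgroup G) P ⊔ centralizer (zl (S : Subgroup G) H : Set G) with hK
  have hnH := inv_mem hn
  have hfn : n⁻¹ * f * n = f := by
    rw [mul_assoc, mem_centralizer_iff.1 T.hf.2 n hn |>.symm, inv_mul_cancel_left]
  have hcz := RA.End.Sit.cz_act hc T.hQ T.z0 T.z01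
  have hconj : ∀ v ∈ zl (S : Subgroup G) P, n⁻¹ * v * n ∈ K := by
    intro v hv
    obtain ⟨a, ha, r, hr, rfl⟩ := T.Vw' v hv
    have e3 : n⁻¹ * (a * (w⁻¹ * r * w)) * n = (n⁻¹ * a * n) * (n⁻¹ * (w⁻¹ * r * w) * n) := by group
    rw [e3]
    refine mul_mem (mem_sup_right (hUab ?_)) ?_
    · have := (mem_normalizer_iff.1 (le_normalizer_zl (S : Subgroup G) H hnH) a).1 ha
      rwa [inv_inv] at this
    · obtain ⟨u, hu, e4⟩ := T.op r hr
      set g := w⁻¹ * u * w with hg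
      have e5 : n⁻¹ * (w⁻¹ * r * w) * n = f⁻¹ * ((n⁻¹ * g * n) * f * (n⁻¹ * g * n)⁻¹) := by
        have e6 : w⁻¹ * r * w = f⁻¹ * (g * f * g⁻¹) := by rw [e4, inv_mul_cancel_left]
        have e7 : n⁻¹ * (g * f * g⁻¹) * n = (n⁻¹ * g * n) * (n⁻¹ * f * n) * (n⁻¹ * g * n)⁻¹ := by group
        calc n⁻¹ * (w⁻¹ * r * w) * n = (n⁻¹ * f * n)⁻¹ * (n⁻¹ * (g * f * g⁻¹) * n) := by rw [e6]; group
          _ = _ := by rw [e7, hfn]
      rw [e5]
      have hgC := hC0 g (hU'x u hu)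
      have hfz : f ∈ zl (S : Subgroup G) (centralizer ({z₀} : Set G)) := zc_le_zl _ _ T.hf.1
      refine mul_mem (inv_mem (hcz hfz)) (hcz ?_)
      exact (mem_normalizer_iff.1 (le_normalizer_zl _ _ hgC) f).1 hfz
  -- `R^{n⁻¹} = R`
  have hRn : MulAut.conj n⁻¹ • RR (S : Subgroup G) P H ≤ RR (S : Subgroup G) P H := by
    have h3 : MulAut.conj n⁻¹ • ⁅zl (S : Subgroup G) H, zl (S : Subgroup G) P⁆ =
        ⁅MulAut.conj n⁻¹ • zl (S : Subgroup G) H, MulAut.conj n⁻¹ • zl (S : Subgroup G) P⁆ :=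
      map_commutator _ _ _
    change MulAut.conj n⁻¹ • ⁅zl (S : Subgroup G) H, zl (S : Subgroup G) P⁆ ≤
      ⁅zl (S : Subgroup G) H, zl (S : Subgroup G) P⁆
    rw [h3, conj_eq_of_mem (le_normalizer_zl _ _ hnH), commutator_le]
    intro u hu v' hv'
    rw [mem_conj, inv_inv] at hv'
    have h4 := hconj _ hv'
    have h5 : n⁻¹ * (n * v' * n⁻¹) * n = v' := by group
    rw [h5] at h4
    obtain ⟨v₂, hv₂, c₂, hc₂, rfl⟩ := exists_mul_of_mem_sup hVC h4
    have h6 : ⁅u, v₂ * c₂⁆ = ⁅u, v₂⁆ := by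
      have h7 : c₂ * u⁻¹ = u⁻¹ * c₂ := (mem_centralizer_iff.1 hc₂ _ (inv_mem hu)).symm
      calc ⁅u, v₂ * c₂⁆ = u * v₂ * (c₂ * u⁻¹) * c₂⁻¹ * v₂⁻¹ := by rw [commutatorElement_def]; group
        _ = ⁅u, v₂⁆ := by rw [h7, commutatorElement_def]; group
    rw [h6]
    exact commutator_mem_commutator hu hv₂
  have hxR : x ∈ RR (S : Subgroup G) P H := by
    have h1 := conj_eq_of_le hRn
    have h2 : z₀ ∈ MulAut.conj n⁻¹ • RR (S : Subgroup G) P H := by
      rw [h1]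
      exact T.z0R
    rw [mem_conj, inv_inv, ← hnx] at h2
    exact h2
  have h1 := T.opR x hxR hU'x
  apply T.z01
  rw [hz0, h1, mul_one, inv_mul_cancel]

/-- `W ∩ U₁ ≤ R`. -/
theorem W_le (hD : zc (S : Subgroup G) ⊓ centralizer (P : Set G) ≠ ⊥) [Finite ι] {y : G} (hy : y ∈ WW (S : Subgroup G) H) (hyU : y ∈ U₁) : y ∈ RR (S : Subgroup G) P H := by
  classical
  have := Fintype.ofFinite ι
  refine T.inter y hyU fun i => ?_
  by_contra hcon
  have hyV : y ∈ centralizer (zl (S : Subgroup G) P : Set G) := by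
    have h0 := T.toEndC.W_comm hc Da (one_mem H) (one_mem _) hy
    rwa [map_one, one_smul] at h0
  obtain ⟨a, ha, h1, h2⟩ := T.exA i y hyU hyV hcon
  have h3 : y * (a * y⁻¹ * a⁻¹) ∈ WW (S : Subgroup G) H := mul_mem hy (conj_mem_WW ha (inv_mem hy))
  set t := y * (a * y⁻¹ * a⁻¹) with ht
  have h4 : ∀ j, ∃ t ∈ WW (S : Subgroup G) H, t ∈ U j ∧ t ∉ R j := fun j => by
    obtain ⟨c, hcC, h5⟩ := T.trC i j
    obtain ⟨h6, h7⟩ := h5 t h1 h2
    exact ⟨_, conj_mem_WW hcC h3, h6, h7⟩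
  have key : ∀ s : Finset ι, ∃ t ∈ WW (S : Subgroup G) H, t ∈ U₁ ∧ ∀ j ∈ s, t ∉ D j ⊔ R j := by
    intro s
    induction s using Finset.induction_on with
    | empty => exact ⟨1, one_mem _, one_mem _, by simp⟩
    | insert j s hjs ih =>
      obtain ⟨t, h5, h6, h7⟩ := ih
      by_cases h8 : t ∈ D j ⊔ R j
      · obtain ⟨t', h9, h10, h11⟩ := h4 j
        refine ⟨t * t', mul_mem h5 h9, mul_mem h6 (T.U_le j h10), ?_⟩
        intro l hl
        by_cases hlj : l = j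
        · subst hlj
          intro h12
          refine h11 (T.indep l t' h10 ?_)
          have h13 := mul_mem (inv_mem h8) h12
          rwa [inv_mul_cancel_left] at h13
        · intro h12
          refine h7 l ((Finset.mem_insert.1 hl).resolve_left hlj) ?_
          have h13 : t' ∈ D l ⊔ R l := mem_sup_left (T.le_D l j (Ne.symm hlj) h10)
          have h14 := mul_mem h12 (inv_mem h13)
          rwa [mul_inv_cancel_right] at h14
      · refine ⟨t, h5, h6, fun l hl => ?_⟩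
        rcases Finset.mem_insert.1 hl with rfl | hl
        · exact h8
        · exact h7 l hl
  obtain ⟨t', h5, h6, h7⟩ := key Finset.univ
  exact T.not_full hc Da hD h5 h6 fun j => h7 j (Finset.mem_univ j)

/-- **(7)(b)**: ONE AXIS. -/
theorem «false» (hD : zc (S : Subgroup G) ⊓ centralizer (P : Set G) ≠ ⊥) [Finite ι] : False :=
  T.toEndC.false_of hc fun _ hy hyU => T.W_le hc Da hD hy hyU

end EndB

end

end Cfsg.Agent.Omega.NOThreeL.RSplit.EndB
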