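import Cfsg.Agent.Omega.NOThreeL.RSplit.QuadFv

/-!
# NO-3L, box R, `q > 2`, split (#19602 (7)): END, the module level over 683's `Fv`

`D : Fv T Ax R z Z` : `M = (⊕ U_i) ⊕ I`, `U_i = Uc i`, `z₀ = ∑ z i`.

* `exists_perm` : `H` permutes the components; `smul_R` : `x z₀ ∈ ∑ R_i` implies that `x` permutes the `R_i`;
* `Dc i` : the sum of the other components; `indep`, `inter`;
* `exists_sep` : ONE AXIS, `u ∈ U_i ∩ Ax i`, `u ∉ R i` : some `x ∈ C_H(z₀) ∩ C_H(I)` with `x u - u ∈ U_i - R i`;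
* `mem_of_many` : MANY AXES.
-/

set_option autoImplicit false
set_option linter.unusedSectionVars false

namespace Cfsg.Agent.Omega.NOThreeL.RSplit.EndFv

open scoped Pointwise
open Cfsg.Agent.Omega.NOThreeL.ThmAx (Full IsAx TT YY Adj mem_smul smul_eq_of YY_smul YY_smul_eq adj_smul IsAx.smul)
open Cfsg.Agent.Omega.NOThreeL.RSplit.Root (Rt Ex)
open Cfsg.Agent.Omega.NOThreeL.RSplit.Hull (Comp hull mem_of_fix)
open Cfsg.Agent.Omega.NOThreeL.RSplit.FrameOf
open Cfsg.Agent.Omega.NOThreeL.RSplit.ManyAx (Many eq_of_sub many_or mem_of_mem_axes)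
open Cfsg.Agent.Omega.NOThreeL.RSplit.QuadFv
open Cfsg.Agent.Omega.NOThreeL.RSplit.Five
open Cfsg.Agent.Omega.NOThreeL.RBig.Pts (OneAx Mv Frame)
open Cfsg.Agent.Omega.NOThreeL.RBig.Trans (AxSys Cp NC UC NN)
open Cfsg.Agent.Omega.NOThreeL.RSplit.TransRt (Axs)

variable {H M : Type*} [Group H] [AddCommGroup M] [DistribMulAction H M]
variable {ι : Type*}

theorem exists_sum [Fintype ι] {B : ι → AddSubgroup M} {m : M} (hm : m ∈ ⨆ i, B i) :
    ∃ f : ι → M, (∀ i, f i ∈ B i) ∧ m = ∑ i, f i := by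
  classical
  let X : AddSubgroup M :=
    { carrier := {y | ∃ f : ι → M, (∀ i, f i ∈ B i) ∧ y = ∑ i, f i}
      zero_mem' := ⟨fun _ => 0, fun _ => zero_mem _, by simp⟩
      add_mem' := by
        rintro _ _ ⟨f, hf, rfl⟩ ⟨f', hf', rfl⟩
        exact ⟨fun i => f i + f' i, fun i => add_mem (hf i) (hf' i), Finset.sum_add_distrib.symm⟩
      neg_mem' := by
        rintro _ ⟨f, hf, rfl⟩
        exact ⟨fun i => - f i, fun i => neg_mem (hf i), (Finset.sum_neg_distrib _).symm⟩ }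
  have hX : (⨆ i, B i) ≤ X := iSup_le fun i m hm => by
    refine ⟨fun j => if j = i then m else 0, fun j => ?_, ?_⟩
    · by_cases h : j = i
      · subst h
        simpa using hm
      · simp only [if_neg h]
        exact zero_mem _
    · rw [Finset.sum_ite_eq' Finset.univ i (fun _ => m), if_pos (Finset.mem_univ i)]
  exact hX hm

theorem sum_mem_iSup [Fintype ι] {B : ι → AddSubgroup M} {f : ι → M} (hf : ∀ i, f i ∈ B i) :
    ∑ i, f i ∈ ⨆ i, B i :=
  sum_mem fun i _ => AddSubgroup.mem_iSup_of_mem i (hf i)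

section

variable [Fintype ι] [Finite H] [Finite M] {T : ι → Subgroup H} {Ax R : ι → AddSubgroup M} {z : ι → M} {Z : Set M}
  (D : Fv T Ax R z Z)
include D

theorem uniq {f f' : ι → M} (hf : ∀ i, f i ∈ Uc H Ax R i) (hf' : ∀ i, f' i ∈ Uc H Ax R i)
    (h : ∑ i, f i = ∑ i, f' i) (i : ι) : f i = f' i := by
  have h1 := (D.uniq (f := fun i => f i - f' i) (fun i => sub_mem (hf i) (hf' i)) (w := 0) (zero_mem _) (by
    rw [Finset.sum_sub_distrib, h, sub_self, add_zero])).1 i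
  exact sub_eq_zero.1 h1

/-- `H` permutes the components. -/
theorem exists_perm (x : H) : ∃ σ : Equiv.Perm ι, ∀ i, x • Uc H Ax R i = Uc H Ax R (σ i) ∧
    ∀ g, g ∈ Cpt H Ax R (σ i) ↔ x⁻¹ • g ∈ Cpt H Ax R i := by
  choose σ hσ using smul_cpt D x
  have hinj : Function.Injective σ := by
    intro i j hij
    refine uc_inj D ?_
    have h1 := (hσ i).1
    rw [hij, ← (hσ j).1] at h1
    exact smul_left_cancel x h1
  exact ⟨Equiv.ofBijective σ (Finite.injective_iff_bijective.1 hinj), hσ⟩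

/-- the components of `x • ∑ f i` -/
theorem smul_sum {x : H} {σ : Equiv.Perm ι} (hσ : ∀ i, x • Uc H Ax R i = Uc H Ax R (σ i)) {f : ι → M}
    (hf : ∀ i, f i ∈ Uc H Ax R i) : x • ∑ i, f i = ∑ i, x • f (σ.symm i) ∧
      ∀ i, x • f (σ.symm i) ∈ Uc H Ax R i := by
  constructor
  · rw [Finset.smul_sum]
    exact (Equiv.sum_comp σ.symm (fun i => x • f i)).symm
  · intro i
    have h1 := hσ (σ.symm i)
    rw [Equiv.apply_symm_apply] at h1
    rw [← h1]
    exact AddSubgroup.smul_mem_pointwise_smul _ _ _ (hf _)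

theorem zU (i : ι) : z i ∈ Uc H Ax R i := D.R_le_Uc i (D.zR i)

/-- `x • z₀ ∈ ∑ R_i` implies that `x` permutes the `R_i`. -/
theorem smul_R {x : H} (hx : x • ∑ i, z i ∈ ⨆ i, R i) (i : ι) : ∃ j, x • R i = R j := by
  obtain ⟨σ, hσ⟩ := exists_perm D x
  obtain ⟨h1, h2⟩ := smul_sum D (fun i => (hσ i).1) (zU D)
  obtain ⟨f, hf, h3⟩ := exists_sum hx
  rw [h1] at h3
  have h4 := uniq D h2 (fun i => D.R_le_Uc i (hf i)) h3 (σ i)
  rw [Equiv.symm_apply_apply] at h4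
  refine ⟨σ i, ?_⟩
  have h5 : x • Ax i ∈ Cpt H Ax R (σ i) := by
    rw [(hσ i).2, inv_smul_smul]
    exact Fv.self_mem i
  have h6 : (1 : H) • Ax (σ i) ∈ Cpt H Ax R (σ i) := by
    rw [one_smul]
    exact Fv.self_mem _
  have h7 := (D.comp (σ i)).root_eq h5 h6 (x := x • z i) (AddSubgroup.smul_mem_pointwise_smul _ _ _ (D.zR i))
    (by rw [one_smul, h4]; exact hf _) (fun h => D.z0 i ((smul_eq_zero_iff_eq x).1 h))
  rwa [one_smul] at h7

theorem smul_iSup_R {x : H} (hx : x • ∑ i, z i ∈ ⨆ i, R i) {m : M} (hm : m ∈ ⨆ i, R i) : x • m ∈ ⨆ i, R i := by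
  obtain ⟨f, hf, rfl⟩ := exists_sum hm
  rw [Finset.smul_sum]
  refine sum_mem fun i _ => ?_
  obtain ⟨j, hj⟩ := smul_R D hx i
  refine AddSubgroup.mem_iSup_of_mem j ?_
  rw [← hj]
  exact AddSubgroup.smul_mem_pointwise_smul _ _ _ (hf i)

theorem smul_iSup_Uc (x : H) {m : M} (hm : m ∈ ⨆ i, Uc H Ax R i) : x • m ∈ ⨆ i, Uc H Ax R i := by
  obtain ⟨f, hf, rfl⟩ := exists_sum hm
  rw [Finset.smul_sum]
  refine sum_mem fun i _ => ?_
  obtain ⟨j, hj⟩ := D.smul_Uc x i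
  refine AddSubgroup.mem_iSup_of_mem j ?_
  rw [← hj]
  exact AddSubgroup.smul_mem_pointwise_smul _ _ _ (hf i)

/-- `s` maps `Ax i` to `Ax j`: it maps `U_i` to `U_j`. -/
theorem smul_Uc_of {s : H} {i j : ι} (hs : s • Ax i = Ax j) : s • Uc H Ax R i = Uc H Ax R j := by
  obtain ⟨l, h1, h2⟩ := smul_cpt D s i
  have hlj : l = j := by
    refine eq_of_mem_Cpt D.toEx ((h2 _).2 ?_)
    rw [← hs, inv_smul_smul]
    exact Fv.self_mem i
  rw [h1, hlj]

end

/-! ### The sum of the other components -/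

section

variable (H) in
/-- the sum of the other components -/
def Dc [Fintype ι] (Ax R : ι → AddSubgroup M) (i : ι) : AddSubgroup M where
  carrier := {m | ∃ f : ι → M, (∀ j, f j ∈ Uc H Ax R j) ∧ f i = 0 ∧ m = ∑ j, f j}
  zero_mem' := ⟨fun _ => 0, fun _ => zero_mem _, rfl, by simp⟩
  add_mem' := by
    rintro _ _ ⟨f, hf, h0, rfl⟩ ⟨f', hf', h0', rfl⟩
    exact ⟨fun i => f i + f' i, fun i => add_mem (hf i) (hf' i), by simp only [h0, h0', add_zero],
      Finset.sum_add_distrib.symm⟩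
  neg_mem' := by
    rintro _ ⟨f, hf, h0, rfl⟩
    exact ⟨fun i => - f i, fun i => neg_mem (hf i), by simp only [h0, neg_zero], (Finset.sum_neg_distrib _).symm⟩

variable [Fintype ι] [Finite H] [Finite M] {T : ι → Subgroup H} {Ax R : ι → AddSubgroup M} {z : ι → M} {Z : Set M}

omit [Finite H] [Finite M] in
theorem Uc_le_Dc {i j : ι} (hij : j ≠ i) : Uc H Ax R j ≤ Dc H Ax R i := by
  classical
  intro m hm
  refine ⟨fun l => if l = j then m else 0, fun l => ?_, by simp [hij.symm], ?_⟩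
  · by_cases h : l = j
    · subst h
      simpa using hm
    · simp only [if_neg h]
      exact zero_mem _
  · rw [Finset.sum_ite_eq' Finset.univ j (fun _ => m), if_pos (Finset.mem_univ j)]

omit [Finite H] [Finite M] in
theorem mem_Dc_sup {i : ι} {f : ι → M} (hf : ∀ j, f j ∈ Uc H Ax R j) (h : f i ∈ R i) :
    ∑ j, f j ∈ Dc H Ax R i ⊔ R i := by
  classical
  rw [← Finset.add_sum_erase Finset.univ f (Finset.mem_univ i), add_comm]
  refine AddSubgroup.add_mem_sup (sum_mem fun j hj => ?_) h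
  exact Uc_le_Dc (Finset.ne_of_mem_erase hj) (hf j)

variable (D : Fv T Ax R z Z)
include D

theorem of_mem_Dc_sup {i : ι} {f : ι → M} (hf : ∀ j, f j ∈ Uc H Ax R j) (h : ∑ j, f j ∈ Dc H Ax R i ⊔ R i) :
    f i ∈ R i := by
  classical
  obtain ⟨_, ⟨f', hf', h0, rfl⟩, r, hr, h1⟩ := AddSubgroup.mem_sup.1 h
  have h2 := uniq D hf (f' := fun j => f' j + if j = i then r else 0) (fun j => add_mem (hf' j) (by
    by_cases hj : j = i
    · subst hj
      simpa using D.R_le_Uc j hr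
    · simp only [if_neg hj]
      exact zero_mem _)) (by
    rw [Finset.sum_add_distrib, Finset.sum_ite_eq' Finset.univ i (fun _ => r), if_pos (Finset.mem_univ i), h1]) i
  rw [h2]
  simpa [h0] using hr

theorem of_mem_Dc {i : ι} {f : ι → M} (hf : ∀ j, f j ∈ Uc H Ax R j) (h : ∑ j, f j ∈ Dc H Ax R i) : f i = 0 := by
  obtain ⟨f', hf', h0, h1⟩ := h
  rw [uniq D hf hf' h1 i, h0]

/-- `indep` -/
theorem indep {i : ι} {m : M} (hm : m ∈ Uc H Ax R i) (h : m ∈ Dc H Ax R i ⊔ R i) : m ∈ R i := by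
  classical
  have h1 : ∑ j, (if j = i then m else 0) = m := by
    rw [Finset.sum_ite_eq' Finset.univ i (fun _ => m), if_pos (Finset.mem_univ i)]
  have h2 := of_mem_Dc_sup D (i := i) (f := fun j => if j = i then m else 0) (fun j => by
    by_cases hj : j = i
    · subst hj
      simpa using hm
    · simp only [if_neg hj]
      exact zero_mem _) (by rw [h1]; exact h)
  simpa using h2

/-- `inter` -/
theorem inter {m : M} (hm : m ∈ ⨆ i, Uc H Ax R i) (h : ∀ i, m ∈ Dc H Ax R i ⊔ R i) : m ∈ ⨆ i, R i := by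
  obtain ⟨f, hf, rfl⟩ := exists_sum hm
  exact sum_mem_iSup fun i => of_mem_Dc_sup D hf (h i)

theorem iSup_R_le (i : ι) : (⨆ j, R j) ≤ Dc H Ax R i ⊔ R i := by
  refine iSup_le fun j => ?_
  by_cases hj : j = i
  · subst hj
    exact le_sup_right
  · exact ((D.R_le_Uc j).trans (Uc_le_Dc hj)).trans le_sup_left

theorem iSup_R_le_Uc : (⨆ j, R j) ≤ ⨆ i, Uc H Ax R i :=
  iSup_mono fun j => D.R_le_Uc j

end

/-! ### ONE AXIS -/

section

variable [Fintype ι] [Finite H] [Finite M] {T : ι → Subgroup H} {Ax R : ι → AddSubgroup M} {z : ι → M} {Z : Set M}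
  (D : Fv T Ax R z Z)
include D

/-- some `u ∈ U_i` is not in `Ax i` -/
theorem exists_not_mem (i : ι) : ∃ u ∈ Uc H Ax R i, u ∉ Ax i := by
  by_contra hcon
  push Not at hcon
  have hR : ∀ j, R j ≠ ⊥ := fun j => (D.comp j).rne j
  -- `Ax i = M`
  have h1 : ∀ m : M, m ∈ Ax i := by
    intro m
    obtain ⟨f, hf, w, hw, rfl⟩ := D.dec m
    refine add_mem (sum_mem fun j _ => ?_) (hw _ (Rt.isAx Ax i))
    by_cases hj : j = i
    · subst hj
      exact hcon _ (hf j)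
    · exact D.Uc_le (Ne.symm hj) (Fv.self_mem i) (hf j)
  obtain ⟨g, hg, hne⟩ := (D.comp i).sep (z i) (zU D i) (D.z0 i)
  obtain ⟨c, j, rfl⟩ := D.axSys.mem_A hg
  -- `Ax j = M` for all `j`
  obtain ⟨y, hy⟩ := D.trans i j
  apply hne
  rw [mem_smul, ← hy, mem_smul]
  exact h1 _

/-- ONE AXIS: separation. -/
theorem exists_sep (free : ∀ i, ∀ t ∈ T i, ∀ u : M, u ∉ Ax i → t • u = u → ∀ m : M, t • m = m) {i : ι}
    (one : OneAx (Ptt H Ax R (Cpt H Ax R i) (Uc H Ax R i)) (Vv T Ax R (Cpt H Ax R i) (Uc H Ax R i)))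
    {u : M} (hu : u ∈ Uc H Ax R i) (huA : u ∈ Ax i) (huR : u ∉ R i) :
    ∃ x : H, (∀ j, j ≠ i → ∀ v ∈ Uc H Ax R j, x • v = v) ∧ (∀ w ∈ Ic H Ax, x • w = w) ∧ (∀ r ∈ R i, x • r = r) ∧
      x • u - u ∈ Uc H Ax R i ∧ x • u - u ∉ R i := by
  have F := frame (D.comp i) ⟨_, Fv.self_mem i⟩ rfl free
  have hi1 : (1 : H) • Ax i ∈ Cpt H Ax R i := by
    rw [one_smul]
    exact Fv.self_mem i
  set e : AddSubgroup ↥(Uc H Ax R i) := ((1 : H) • R i).addSubgroupOf (Uc H Ax R i) with hedef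
  have he : e ∈ Ptt H Ax R (Cpt H Ax R i) (Uc H Ax R i) := ⟨1, i, hi1, rfl⟩
  -- `VV e` fixes `u`
  have hfix : ∀ v ∈ Vv T Ax R (Cpt H Ax R i) (Uc H Ax R i) e, v • (⟨u, hu⟩ : ↥(Uc H Ax R i)) = ⟨u, hu⟩ := by
    rcases F.dich one he ⟨u, hu⟩ with h1 | h1
    · exact h1
    · exfalso
      obtain ⟨w, hw, hwA⟩ := exists_not_mem D i
      have h0 : z i ≠ 0 := D.z0 i
      obtain ⟨t, ht, htw⟩ := D.full i w hwA _ (D.zR i)
      have h3 : (1 : H) * t * (1 : H)⁻¹ ∈ St H (Cpt H Ax R i) (Uc H Ax R i) :=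
        st_of_mem (D.comp i) (gen_mem (N := Nc T Ax R i) le_rfl hi1 ht)
      have h4 := h1.2 (act _ _ ⟨_, h3⟩) (Subgroup.subset_closure ⟨⟨_, h3⟩, 1, i, hi1, rfl, t, ht, rfl, rfl⟩) (by
        apply Subtype.ext
        rw [act_smul]
        change ((1 : H) * t * (1 : H)⁻¹) • u = u
        rw [one_mul, inv_one, mul_one]
        exact D.fix i t ht u huA)
      have h5 : act (Cpt H Ax R i) (Uc H Ax R i) ⟨_, h3⟩ • (⟨w, hw⟩ : ↥(Uc H Ax R i)) = ⟨w, hw⟩ := by
        rw [h4, one_smul]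
      have h6 := congrArg Subtype.val h5
      rw [act_smul] at h6
      change ((1 : H) * t * (1 : H)⁻¹) • w = w at h6
      rw [one_mul, inv_one, mul_one, htw] at h6
      exact h0 (left_eq_add.1 h6.symm)
  obtain ⟨p, hp, hpe, v, hv, hvu⟩ : ∃ p ∈ Ptt H Ax R (Cpt H Ax R i) (Uc H Ax R i),
      ¬ Mv (Vv T Ax R (Cpt H Ax R i) (Uc H Ax R i)) p e ∧
        ∃ v ∈ Vv T Ax R (Cpt H Ax R i) (Uc H Ax R i) p, v • (⟨u, hu⟩ : ↥(Uc H Ax R i)) ≠ ⟨u, hu⟩ := by
    by_contra hcon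
    push Not at hcon
    have h1 := F.inter one he hcon
    apply huR
    have h2 : u ∈ (1 : H) • R i := h1
    rwa [one_smul] at h2
  have hpne : p ≠ e := by
    rintro rfl
    exact hvu (hfix v hv)
  -- a generator
  obtain ⟨a, ha, hau⟩ : ∃ a ∈ Gn T Ax R (Cpt H Ax R i) (Uc H Ax R i) p, a • (⟨u, hu⟩ : ↥(Uc H Ax R i)) ≠ ⟨u, hu⟩ := by
    by_contra hcon
    push Not at hcon
    refine hvu (Subgroup.closure_induction (p := fun v _ => v • (⟨u, hu⟩ : ↥(Uc H Ax R i)) = ⟨u, hu⟩) hcon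
      (one_smul _ _) (fun a b _ _ ha hb => by rw [mul_smul, hb, ha])
      (fun a _ ha => by rw [inv_smul_eq_iff, ha]) hv)
  have haV : a ∈ Vv T Ax R (Cpt H Ax R i) (Uc H Ax R i) p := Subgroup.subset_closure ha
  have hap : a • (⟨u, hu⟩ : ↥(Uc H Ax R i)) - ⟨u, hu⟩ ∈ p := (vv_spec (D.comp i) haV).2 _
  obtain ⟨x, c, l, hc, hcp, t, ht, hx, rfl⟩ := ha
  have hTT : (x : H) ∈ TT T Ax (c • Ax l) := Subgroup.subset_closure ⟨c, l, rfl, t, ht, hx⟩
  obtain ⟨h1, h2⟩ := D.hfix i _ hc _ hTT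
  refine ⟨x, h1, h2, fun r hr => ?_, sub_mem (x.2.2.1 u hu) hu, fun hR => ?_⟩
  · have hre : (⟨r, D.R_le_Uc i hr⟩ : ↥(Uc H Ax R i)) ∈ e := by
      change r ∈ (1 : H) • R i
      rwa [one_smul]
    have h3 := RBig.Pts.not_mv hpe haV hre
    exact congrArg Subtype.val h3
  · have h3 : act (Cpt H Ax R i) (Uc H Ax R i) x • (⟨u, hu⟩ : ↥(Uc H Ax R i)) - ⟨u, hu⟩ ∈ e := by
      change (x : H) • u - u ∈ (1 : H) • R i
      rwa [one_smul]
    have h4 := F.disjoint one hp he hpne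
    have h5 : act (Cpt H Ax R i) (Uc H Ax R i) x • (⟨u, hu⟩ : ↥(Uc H Ax R i)) - ⟨u, hu⟩ ∈ p ⊓ e := ⟨hap, h3⟩
    rw [h4, AddSubgroup.mem_bot, sub_eq_zero] at h5
    exact hau h5

/-! ### MANY AXES -/

/-- `N_j`, `j ≠ i`, fixes the axes of `c_i`. -/
theorem Nc_smul {i j : ι} (hij : j ≠ i) {n : H} (hn : n ∈ Nc T Ax R j) {g : AddSubgroup M} (hg : g ∈ Cpt H Ax R i) :
    n • g = g := by
  have h1 : Nc T Ax R j ≤ MulAction.stabilizer H g := by
    refine iSup₂_le fun g' hg' t ht => ?_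
    rw [MulAction.mem_stabilizer_iff]
    refine D.axSys.smul_eq (D.axSys.mem_A hg') ?_ ht
    refine D.axSys.le_of_not_mem (D.axSys.mem_A hg') (D.axSys.mem_A hg) ?_
    rw [D.Cpt_eq hg']
    exact D.not_mem hij.symm hg
  exact MulAction.mem_stabilizer_iff.1 (h1 hn)

/-- 602's REPAIR 1: an axis over `R i` is of the form `k • Ax l` with `k` permuting the `R_j`. -/
theorem exists_norm {c : H} {i l : ι} (hc : c • Ax l ∈ Cpt H Ax R i) (hR : c • R l = R i) :
    ∃ k : H, k • Ax l = c • Ax l ∧ k • ∑ j, z j ∈ ⨆ j, R j := by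
  classical
  obtain ⟨σ, hσ⟩ := exists_perm D c
  obtain ⟨h1, h2⟩ := smul_sum D (fun i => (hσ i).1) (zU D)
  have hil : σ l = i := by
    refine eq_of_mem_Cpt D.toEx (j := i) ?_
    have h3 : c • Ax l ∈ Cpt H Ax R (σ l) := by
      rw [(hσ l).2, inv_smul_smul]
      exact Fv.self_mem l
    by_contra hne
    have : σ l ≠ i := by
      rintro rfl
      exact hne (Fv.self_mem _)
    exact D.not_mem this h3 hc
  have hli : σ.symm i = l := by rw [← hil, Equiv.symm_apply_apply]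
  have hne0 : ∀ j, c • z (σ.symm j) ≠ 0 := fun j h => D.z0 _ ((smul_eq_zero_iff_eq c).1 h)
  have key : ∀ s : Finset ι, i ∉ s → ∃ n : H, (∀ g ∈ Cpt H Ax R i, n • g = g) ∧
      n • (c • ∑ j, z j) = ∑ j, if j ∈ s then z j else c • z (σ.symm j) := by
    intro s
    induction s using Finset.induction_on with
    | empty => exact fun _ => ⟨1, fun g _ => one_smul _ _, by rw [one_smul, h1]; simp⟩
    | insert j s hj ih =>
      intro his
      rw [Finset.mem_insert, not_or] at his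
      obtain ⟨n, hn, e⟩ := ih his.2
      obtain ⟨m, hm, hmj⟩ := (D.comp j).tr (c • z (σ.symm j)) (h2 j) (hne0 j) (z j) (zU D j) (D.z0 j)
      refine ⟨m * n, fun g hg => by rw [mul_smul, hn g hg, Nc_smul D (Ne.symm his.1) hm hg], ?_⟩
      rw [mul_smul, e, Finset.smul_sum]
      refine Finset.sum_congr rfl fun a _ => ?_
      by_cases h4 : a = j
      · subst h4
        rw [if_neg hj, if_pos (Finset.mem_insert_self _ _), hmj]
      · by_cases h5 : a ∈ s
        · rw [if_pos h5, if_pos (Finset.mem_insert_of_mem h5)]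
          exact (D.Nc_fix hm).1 a h4 _ (zU D a)
        · rw [if_neg h5, if_neg (fun h6 => h5 ((Finset.mem_insert.1 h6).resolve_left h4))]
          exact (D.Nc_fix hm).1 a h4 _ (h2 a)
  obtain ⟨n, hn, e⟩ := key (Finset.univ.erase i) (Finset.notMem_erase i _)
  refine ⟨n * c, by rw [mul_smul, hn _ hc], ?_⟩
  rw [mul_smul, e]
  refine sum_mem fun j _ => ?_
  by_cases hj : j = i
  · subst hj
    rw [if_neg (Finset.notMem_erase j _), hli]
    refine AddSubgroup.mem_iSup_of_mem j ?_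
    rw [← hR]
    exact AddSubgroup.smul_mem_pointwise_smul _ _ _ (D.zR l)
  · rw [if_pos (Finset.mem_erase.2 ⟨hj, Finset.mem_univ j⟩)]
    exact AddSubgroup.mem_iSup_of_mem j (D.zR j)

/-- **MANY AXES**: a vector of `⊕ U_i` in all the axes `k • Ax l`, `k` permuting the `R_j`, lies in `∑ R_i`. -/
theorem mem_of_many (free : ∀ i, ∀ t ∈ T i, ∀ u : M, u ∉ Ax i → t • u = u → ∀ m : M, t • m = m)
    (many : ∀ i, Many T Ax R (Cpt H Ax R i) (Uc H Ax R i)) {m : M} (hm : m ∈ ⨆ i, Uc H Ax R i)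
    (h : ∀ k : H, k • ∑ j, z j ∈ ⨆ j, R j → ∀ l, m ∈ k • Ax l) : m ∈ ⨆ i, R i := by
  classical
  obtain ⟨f, hf, rfl⟩ := exists_sum hm
  refine sum_mem_iSup fun i => ?_
  have hi1 : (1 : H) • Ax i ∈ Cpt H Ax R i := by
    rw [one_smul]
    exact Fv.self_mem i
  have h1 := mem_of_mem_axes (D.comp i) rfl free (many i) hi1 (hf i) (fun c l hc hcR => by
    rw [one_smul] at hcR
    obtain ⟨k, hk, hk'⟩ := exists_norm D hc hcR
    have h2 := h k hk' l
    rw [hk, ← Finset.add_sum_erase Finset.univ f (Finset.mem_univ i)] at h2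
    refine ((c • Ax l).add_mem_cancel_right (sum_mem fun j hj => ?_)).1 h2
    exact D.Uc_le (Finset.ne_of_mem_erase hj).symm hc (hf j))
  rwa [one_smul] at h1

end

end Cfsg.Agent.Omega.NOThreeL.RSplit.EndFv
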