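import Cfsg.Agent.Omega.NOThreeL.RSplit.Root

/-!
# NO-3L, box R, `q > 2`, split (helper797 #19602 (5)): hulls and points, abstract

`Comp T Ax R A N U` : `A` = the axes of one component, `N` a group fixing `A` and transitive on `U - 0`, `U` contains
all centres `x • R i` with axis in `A`; `ti` = 797's `Ex.ti`.

* `hull A U x` : the elements of `U` in all axes (in `A`) containing `x`;
* `Comp.mem_iff_of_mem_hull` : `y ∈ hull x`, `y ≠ 0` lies in the same axes as `x`;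
* **`Comp.hull_eq`** : `hull x = c • R i` for every centre `c • R i` (axis in `A`) containing `x`;
* `Comp.root_eq` : two centres with a common vector `≠ 0` are equal; `Comp.exists_root` : every vector of `U` is in one;
* `five` : 884's (5); `Comp.mem_root`, **`mem_root_sum`** : the components of `z` are in the `R i`.
-/

set_option autoImplicit false

namespace Cfsg.Agent.Omega.NOThreeL.RSplit.Hull

open scoped Pointwise
open Cfsg.Agent.Omega.NOThreeL.ThmAx (Full IsAx TT YY Adj mem_smul smul_eq_of YY_smul YY_smul_eq adj_smul IsAx.smul)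
open Cfsg.Agent.Omega.NOThreeL.RSplit.Root (Rt)

variable {H M : Type*} [Group H] [AddCommGroup M] [DistribMulAction H M]

/-- One component. -/
structure Comp {ι : Type*} (T : ι → Subgroup H) (Ax R : ι → AddSubgroup M) (A : Set (AddSubgroup M))
    (N : Subgroup H) (U : AddSubgroup M) : Prop extends Rt T Ax R where
  ti : ∀ {g : AddSubgroup M}, IsAx (H := H) Ax g → ∀ (x : H) (i : ι), ¬ x • R i ≤ g →
    (∀ m ∈ x • R i, m ∈ g → m = 0) ∧ ∀ u : M, ∃ r ∈ x • R i, r + u ∈ g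
  isax : ∀ g ∈ A, IsAx (H := H) Ax g
  inv : ∀ n ∈ N, ∀ g ∈ A, n • g ∈ A
  root : ∀ (x : H) (i : ι), x • Ax i ∈ A → x • R i ≤ U
  uinv : ∀ n ∈ N, ∀ u ∈ U, n • u ∈ U
  tr : ∀ x ∈ U, x ≠ 0 → ∀ y ∈ U, y ≠ 0 → ∃ n ∈ N, n • x = y
  sep : ∀ x ∈ U, x ≠ 0 → ∃ g ∈ A, x ∉ g
  rne : ∀ i, R i ≠ ⊥

/-- The elements of `U` which lie in all axes containing `x`. -/
def hull (A : Set (AddSubgroup M)) (U : AddSubgroup M) (x : M) : AddSubgroup M where
  carrier := {y | y ∈ U ∧ ∀ g ∈ A, x ∈ g → y ∈ g}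
  zero_mem' := ⟨U.zero_mem, fun g _ _ => g.zero_mem⟩
  add_mem' := fun {a b} ha hb => ⟨U.add_mem ha.1 hb.1, fun g hg hx => g.add_mem (ha.2 g hg hx) (hb.2 g hg hx)⟩
  neg_mem' := fun {a} ha => ⟨U.neg_mem ha.1, fun g hg hx => g.neg_mem (ha.2 g hg hx)⟩

theorem mem_hull {A : Set (AddSubgroup M)} {U : AddSubgroup M} {x y : M} :
    y ∈ hull A U x ↔ y ∈ U ∧ ∀ g ∈ A, x ∈ g → y ∈ g := Iff.rfl

/-- 884's (5) -/
theorem five {ι : Type*} {T : ι → Subgroup H} {Ax R : ι → AddSubgroup M} (D : Rt T Ax R) [Finite M]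
    {g : AddSubgroup M} (hg : IsAx (H := H) Ax g) {z : M}
    (two : ∀ i, ∀ a ∈ T i, ∀ b : H, b • z = z → (∀ u : M, b • b • u = u) →
      ∃ n : ℕ, ∀ u : M, ((b * a) ^ (2 ^ n)) • u = u) (hzg : z ∈ g) (i : ι) : R i ≤ g := by
  by_contra hcon
  obtain ⟨r, hr, hrg⟩ := Set.not_subset.mp hcon
  have h1 : Adj H Ax R (Ax i) g := fun h => hcon ((Rt.R_le_YY i).trans h)
  obtain ⟨u, hu, hui⟩ := Set.not_subset.mp (D.adj_symm (Rt.isAx Ax i) hg h1)
  obtain ⟨b, hb, hbr⟩ := D.TT_full hrg hu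
  obtain ⟨a, ha, hau⟩ := D.full i u hui r hr
  have hbz : b • z = z := D.TT_fix hb hzg
  obtain ⟨n, hn⟩ := two i a ha b hbz (D.TT_invol hb)
  have hbu : b • u = u := D.TT_fix hb (D.YY_le hu)
  have har : a • r = r := D.fix i a ha r (D.le i i hr)
  set k : H := b * a with hk
  have e1 : k • r = r + u := by rw [hk, mul_smul, har, hbr]
  have e2 : k • u = r := by
    rw [hk, mul_smul, hau, smul_add, hbu, hbr, ← add_assoc, add_comm u r, add_assoc, D.char2, add_zero]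
  have e3 : k • (r + u) = u := by
    rw [smul_add, e1, e2, add_comm r u, add_assoc, D.char2, add_zero]
  have h3 : (k ^ 3) • r = r := by
    rw [pow_succ, pow_succ, pow_one, mul_smul, mul_smul, e1, e3, e2]
  have h4 : MulAction.period k r ∣ 3 := MulAction.pow_smul_eq_iff_period_dvd.mp h3
  have h5 : MulAction.period k r ∣ 2 ^ n := MulAction.pow_smul_eq_iff_period_dvd.mp (hn r)
  have h6 : MulAction.period k r ∣ 1 := by
    have h7 : Nat.Coprime 3 (2 ^ n) := Nat.Coprime.pow_right n (by decide)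
    have h8 := Nat.dvd_gcd h4 h5
    rwa [h7] at h8
  have h7 : (k ^ 1) • r = r := MulAction.pow_smul_eq_iff_period_dvd.mpr h6
  rw [pow_one, e1] at h7
  have h8 : u = 0 := by simpa using h7
  exact hui (h8 ▸ (Ax i).zero_mem)

/-- A vector fixed by `TT g` lies in `g`. -/
theorem mem_of_fix {ι : Type*} {T : ι → Subgroup H} {Ax R : ι → AddSubgroup M} (D : Rt T Ax R)
    (hR : ∀ i, R i ≠ ⊥) {g : AddSubgroup M} (hg : IsAx (H := H) Ax g) {u : M}
    (h : ∀ t ∈ TT T Ax g, t • u = u) : u ∈ g := by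
  by_contra hug
  obtain ⟨x, i, rfl⟩ := hg
  obtain ⟨r, hr, hr0⟩ := (AddSubgroup.bot_or_exists_ne_zero (R i)).resolve_left (hR i)
  have h1 : x • r ∈ YY H Ax R (x • Ax i) := AddSubgroup.subset_closure ⟨x, i, rfl, r, hr, rfl⟩
  obtain ⟨t, ht, htu⟩ := D.TT_full hug h1
  rw [h t ht] at htu
  have h2 : x • r = 0 := left_eq_add.1 htu
  exact hr0 ((smul_eq_zero_iff_eq x).1 h2)

namespace Comp

variable {ι : Type*} {T : ι → Subgroup H} {Ax R : ι → AddSubgroup M} {A : Set (AddSubgroup M)}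
  {N : Subgroup H} {U : AddSubgroup M} (C : Comp T Ax R A N U)
include C

theorem card_axes {n : H} (hn : n ∈ N) (x : M) :
    {g | g ∈ A ∧ n • x ∈ g}.ncard = {g | g ∈ A ∧ x ∈ g}.ncard := by
  have h1 : {g | g ∈ A ∧ n • x ∈ g} = (fun g : AddSubgroup M => n • g) '' {g | g ∈ A ∧ x ∈ g} := by
    ext g
    constructor
    · rintro ⟨hg, hx⟩
      refine ⟨n⁻¹ • g, ⟨C.inv n⁻¹ (inv_mem hn) g hg, ?_⟩, smul_inv_smul n g⟩
      rw [mem_smul, inv_inv]
      exact hx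
    · rintro ⟨g', ⟨hg', hx⟩, rfl⟩
      exact ⟨C.inv n hn g' hg', AddSubgroup.smul_mem_pointwise_smul _ _ _ hx⟩
  rw [h1, Set.ncard_image_of_injective _ (MulAction.injective n)]

variable [Finite M]

/-- A vector `y ≠ 0` of the hull of `x` lies in the same axes as `x`. -/
theorem mem_iff_of_mem_hull {x y : M} (hx : x ∈ U) (hx0 : x ≠ 0) (hy : y ∈ hull A U x) (hy0 : y ≠ 0)
    {g : AddSubgroup M} (hg : g ∈ A) : y ∈ g ↔ x ∈ g := by
  obtain ⟨n, hn, hnx⟩ := C.tr x hx hx0 y hy.1 hy0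
  have h1 : {g | g ∈ A ∧ x ∈ g} ⊆ {g | g ∈ A ∧ y ∈ g} := fun g hg => ⟨hg.1, hy.2 g hg.1 hg.2⟩
  have h2 := C.card_axes hn x
  rw [hnx] at h2
  have h3 := Set.eq_of_subset_of_ncard_le h1 h2.le (Set.toFinite _)
  constructor
  · intro hyg
    have h4 : g ∈ {g | g ∈ A ∧ y ∈ g} := ⟨hg, hyg⟩
    rw [← h3] at h4
    exact h4.2
  · exact fun hxg => hy.2 g hg hxg

omit [Finite M] in
theorem root_le_hull {c : H} {i : ι} (hc : c • Ax i ∈ A) {x : M} (hx : x ∈ c • R i) (hx0 : x ≠ 0) :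
    c • R i ≤ hull A U x := by
  intro y hy
  refine ⟨C.root c i hc hy, fun g hg hxg => ?_⟩
  by_contra hyg
  have h1 : ¬ c • R i ≤ g := fun h => hyg (h hy)
  exact hx0 ((C.ti (C.isax g hg) c i h1).1 x hx hxg)

/-- **The hull of `x` is the centre containing `x`.** -/
theorem hull_eq {c : H} {i : ι} (hc : c • Ax i ∈ A) {x : M} (hx : x ∈ c • R i) (hx0 : x ≠ 0) :
    hull A U x = c • R i := by
  refine le_antisymm ?_ (C.root_le_hull hc hx hx0)
  intro y hy
  have hxU : x ∈ U := C.root c i hc hx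
  obtain ⟨g, hg, hxg⟩ := C.sep x hxU hx0
  have h1 : ¬ c • R i ≤ g := fun h => hxg (h hx)
  obtain ⟨r, hr, hry⟩ := (C.ti (C.isax g hg) c i h1).2 y
  have h2 : r + y ∈ hull A U x := add_mem (C.root_le_hull hc hx hx0 hr) hy
  by_cases h0 : r + y = 0
  · have h3 : y = -r := (neg_eq_of_add_eq_zero_right h0).symm
    rw [h3]
    exact neg_mem hr
  · exact absurd ((C.mem_iff_of_mem_hull hxU hx0 h2 h0 hg).1 hry) hxg

/-- Two centres with a common non-zero vector are equal. -/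
theorem root_eq {c d : H} {i j : ι} (hc : c • Ax i ∈ A) (hd : d • Ax j ∈ A) {x : M} (hx : x ∈ c • R i)
    (hx' : x ∈ d • R j) (hx0 : x ≠ 0) : c • R i = d • R j := by
  rw [← C.hull_eq hc hx hx0, C.hull_eq hd hx' hx0]

omit [Finite M] in
/-- Every vector of `U` lies in a centre. -/
theorem exists_root {c : H} {i : ι} (hc : c • Ax i ∈ A) {x : M} (hx : x ∈ U) :
    ∃ n ∈ N, (n * c) • Ax i ∈ A ∧ x ∈ (n * c) • R i := by
  by_cases hx0 : x = 0
  · exact ⟨1, one_mem _, by rwa [one_mul], by rw [hx0]; exact zero_mem _⟩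
  · obtain ⟨r, hr, hr0⟩ := (AddSubgroup.bot_or_exists_ne_zero (R i)).resolve_left (C.rne i)
    have h1 : c • r ∈ c • R i := AddSubgroup.smul_mem_pointwise_smul _ _ _ hr
    have h2 : c • r ≠ 0 := fun h => hr0 ((smul_eq_zero_iff_eq c).1 h)
    obtain ⟨n, hn, hnx⟩ := C.tr _ (C.root c i hc h1) h2 x hx hx0
    refine ⟨n, hn, ?_, ?_⟩
    · rw [mul_smul]
      exact C.inv n hn _ hc
    · rw [mul_smul, ← hnx]
      exact AddSubgroup.smul_mem_pointwise_smul _ _ _ h1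

/-- All centres have the same order. -/
theorem card_root {c d : H} {i j : ι} (hc : c • Ax i ∈ A) (hd : d • Ax j ∈ A) :
    Nat.card ↥(c • R i) = Nat.card ↥(d • R j) := by
  obtain ⟨r, hr, hr0⟩ := (AddSubgroup.bot_or_exists_ne_zero (R j)).resolve_left (C.rne j)
  have h1 : d • r ∈ d • R j := AddSubgroup.smul_mem_pointwise_smul _ _ _ hr
  have h2 : d • r ≠ 0 := fun h => hr0 ((smul_eq_zero_iff_eq d).1 h)
  obtain ⟨n, hn, hnc, hx⟩ := C.exists_root hc (C.root d j hd h1)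
  rw [C.root_eq hd hnc h1 hx h2, mul_smul]
  exact Nat.card_congr ⟨fun m => ⟨n • (m : M), AddSubgroup.smul_mem_pointwise_smul _ _ _ m.2⟩,
    fun m => ⟨n⁻¹ • (m : M), mem_smul.mp m.2⟩, fun m => by ext; simp, fun m => by ext; simp⟩

/-- If all axes containing `u` contain `R i`, then `u ∈ R i`. -/
theorem mem_root {i : ι} (hi : Ax i ∈ A) {u : M} (hu : u ∈ U) (h : ∀ g ∈ A, u ∈ g → R i ≤ g) : u ∈ R i := by
  by_cases hu0 : u = 0
  · rw [hu0]
    exact zero_mem _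
  obtain ⟨r, hr, hr0⟩ := (AddSubgroup.bot_or_exists_ne_zero (R i)).resolve_left (C.rne i)
  have h1 : (1 : H) • Ax i ∈ A := by rwa [one_smul]
  have hr1 : r ∈ (1 : H) • R i := by rwa [one_smul]
  have hrU : r ∈ U := C.root 1 i h1 hr1
  have h2 : r ∈ hull A U u := ⟨hrU, fun g hg hug => h g hg hug hr⟩
  have h3 : u ∈ hull A U r := ⟨hu, fun g hg hrg => (C.mem_iff_of_mem_hull hu hu0 h2 hr0 hg).1 hrg⟩
  rw [C.hull_eq h1 hr1 hr0, one_smul] at h3
  exact h3

end Comp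

/-- **The components of `z` lie in the `R i`.** -/
theorem mem_root_sum {ι : Type*} [Fintype ι] [Finite M] {T : ι → Subgroup H} {Ax R : ι → AddSubgroup M}
    {A : ι → Set (AddSubgroup M)} {N : ι → Subgroup H} {U : ι → AddSubgroup M} {I : AddSubgroup M}
    (C : ∀ i, Comp T Ax R (A i) (N i) (U i)) (hi : ∀ i, Ax i ∈ A i)
    (hfix : ∀ i, ∀ g ∈ A i, ∀ t ∈ TT T Ax g, (∀ j, j ≠ i → ∀ u ∈ U j, t • u = u) ∧ ∀ u ∈ I, t • u = u)
    {f : ι → M} (hf : ∀ i, f i ∈ U i) {w z : M} (hw : w ∈ I) (hz : z = ∑ i, f i + w)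
    (two : ∀ i, ∀ a ∈ T i, ∀ b : H, b • z = z → (∀ u : M, b • b • u = u) →
      ∃ n : ℕ, ∀ u : M, ((b * a) ^ (2 ^ n)) • u = u) (i : ι) : f i ∈ R i := by
  classical
  refine (C i).mem_root (hi i) (hf i) fun g hg hfg => ?_
  have hax := (C i).isax g hg
  refine five (C i).toRt hax two ?_ i
  rw [hz, ← Finset.add_sum_erase Finset.univ f (Finset.mem_univ i)]
  refine add_mem (add_mem hfg (g.sum_mem fun j hj => ?_)) ?_
  · rw [Finset.mem_erase] at hj
    exact mem_of_fix (C i).toRt (C i).rne hax fun t ht => (hfix i g hg t ht).1 j hj.1 _ (hf j)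
  · exact mem_of_fix (C i).toRt (C i).rne hax fun t ht => (hfix i g hg t ht).2 _ hw

end Cfsg.Agent.Omega.NOThreeL.RSplit.Hull
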