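import Cfsg.Agent.Omega.NOThreeL.RSplit.TransRt
import Cfsg.Agent.Omega.NOThreeL.RSplit.Hull

/-!
# NO-3L, box R, `q > 2`, split (helper797 #19602 (5)): `H` minimal, the decomposition `U = (⊕ U_i) ⊕ I`, abstract

`Fv T Ax R z Z` : root groups with THEOREM EXACT (`Ex`), a full vector `∑ z i` with the situation `Sit` (616's
transitivity), and a set `Z` of vectors generating `M` under `H`, each in all axes or with its own situation and with
`two` (`V ≤ O₂(C_H(u))`).  With `c_i` = the component of `Ax i`, `U_i = UC (Ax i)`, `N_i = NC (Ax i)`, `I` = the vectors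
in all axes:

* `Fv.comp` : 877's `Comp`; `Fv.cover` : every axis is in some `c_i`; `Fv.hfix` : `TT g`, `g ∈ c_i`, centralises the other
  `U_j` and `I`; `Fv.uniq` : the sum `U_1 + .. + U_k + I` is direct; `Fv.span` : it is everything;
* `Fv.zmem` : `Z ⊆ (∑ R_i) + I`; `Fv.zfix` : the two parts of `u ∈ Z` are fixed by every `s` which fixes `u` and
  normalises `∑ R_i`;
* `Fv.fuse` : the vectors `∑ f i`, `0 ≠ f i ∈ U_i`, are conjugate under `N`.
-/

set_option autoImplicit false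
set_option linter.unusedSectionVars false

namespace Cfsg.Agent.Omega.NOThreeL.RSplit.Five

open scoped Pointwise
open Cfsg.Agent.Omega.NOThreeL.ThmAx (Full IsAx TT YY Adj mem_smul smul_eq_of YY_smul YY_smul_eq adj_smul IsAx.smul)
open Cfsg.Agent.Omega.NOThreeL.RSplit.Root (Rt Ex)
open Cfsg.Agent.Omega.NOThreeL.RSplit.Hull (Comp hull mem_of_fix mem_root_sum)
open Cfsg.Agent.Omega.NOThreeL.RBig.Trans (AxSys Sit Cp NC UC NN Walk)
open Cfsg.Agent.Omega.NOThreeL.RSplit.TransRt (Axs)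

variable {H M : Type*} [Group H] [AddCommGroup M] [DistribMulAction H M]
variable {ι : Type*}

section defs

variable (T : ι → Subgroup H) (Ax R : ι → AddSubgroup M)

variable (H) in
/-- the component of `Ax i` -/
def Cpt (i : ι) : Set (AddSubgroup M) := Cp (Axs H Ax) (YY H Ax R) (Ax i)

/-- its group -/
def Nc (i : ι) : Subgroup H := NC (Axs H Ax) (TT T Ax) (YY H Ax R) (Ax i)

variable (H) in
/-- its commutator -/
def Uc (i : ι) : AddSubgroup M := UC (Axs H Ax) (YY H Ax R) (Ax i)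

variable (H) in
/-- the vectors in all axes -/
def Ic : AddSubgroup M where
  carrier := {m | ∀ g, IsAx (H := H) Ax g → m ∈ g}
  zero_mem' := fun g _ => g.zero_mem
  add_mem' := fun ha hb g hg => g.add_mem (ha g hg) (hb g hg)
  neg_mem' := fun ha g hg => g.neg_mem (ha g hg)

end defs

/-- The hypotheses of #19602 (5). -/
structure Fv [Fintype ι] (T : ι → Subgroup H) (Ax R : ι → AddSubgroup M) (z : ι → M) (Z : Set M) : Prop
    extends Ex T Ax R where
  zR : ∀ i, z i ∈ R i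
  z0 : ∀ i, z i ≠ 0
  sit : Sit (Axs H Ax) (TT T Ax) (YY H Ax R) (∑ i, z i)
  one : ∀ u ∈ Z, u ∈ Ic H Ax ∨ Sit (Axs H Ax) (TT T Ax) (YY H Ax R) u
  gen : AddSubgroup.closure {m : M | ∃ (h : H), ∃ u ∈ Z, m = h • u} = ⊤
  two : ∀ u ∈ Z, u ∉ Ic H Ax → ∀ i, ∀ a ∈ T i, ∀ b : H, b • u = u → (∀ m : M, b • b • m = m) →
      ∃ n : ℕ, ∀ m : M, ((b * a) ^ (2 ^ n)) • m = m

/-- a walk is a chain of adjacencies -/
theorem reach_of_walk {Ax R : ι → AddSubgroup M} {n : ℕ} {K g : AddSubgroup M}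
    (h : Walk (Axs H Ax) (YY H Ax R) n K g) :
    Relation.ReflTransGen (fun g g' => IsAx (H := H) Ax g' ∧ Adj H Ax R g g') K g := by
  induction h with
  | zero => exact Relation.ReflTransGen.refl
  | step _ hg' ha ih => exact Relation.ReflTransGen.tail ih ⟨hg', ha⟩

theorem eq_of_mem_Cpt [Fintype ι] [Finite M] {T : ι → Subgroup H} {Ax R : ι → AddSubgroup M} (E : Ex T Ax R)
    {i j : ι} (h : Ax j ∈ Cpt H Ax R i) : i = j := by
  obtain ⟨n, hn⟩ := h
  exact E.not_reach (reach_of_walk hn)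

namespace Fv

variable [Fintype ι] [Finite H] [Finite M] {T : ι → Subgroup H} {Ax R : ι → AddSubgroup M} {z : ι → M} {Z : Set M}
  (D : Fv T Ax R z Z)
include D

omit [Finite H] in
theorem axSys : AxSys (Axs H Ax) (TT T Ax) (YY H Ax R) := TransRt.axSys D.toRt D.big

omit [Finite H] in
theorem Cpt_eq {i : ι} {g : AddSubgroup M} (hg : g ∈ Cpt H Ax R i) : Cp (Axs H Ax) (YY H Ax R) g = Cpt H Ax R i :=
  D.axSys.Cp_eq hg

omit [Finite H] in
/-- different components -/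
theorem not_mem {i j : ι} (hij : i ≠ j) {g : AddSubgroup M} (hg : g ∈ Cpt H Ax R i) : g ∉ Cpt H Ax R j := by
  intro h
  refine hij.symm (eq_of_mem_Cpt D.toEx (i := j) (j := i) ?_)
  rw [← D.Cpt_eq h, D.Cpt_eq hg]
  exact AxSys.self_mem (Rt.isAx Ax i)

omit [Finite H] in
theorem Uc_le {i j : ι} (hij : i ≠ j) {g : AddSubgroup M} (hg : g ∈ Cpt H Ax R i) : Uc H Ax R j ≤ g :=
  D.axSys.UC_le (D.axSys.mem_A hg) (D.not_mem hij hg)

omit [Finite H] in
theorem Uc_inv {i : ι} {n : H} (hn : n ∈ Nc T Ax R i) {u : M} (hu : u ∈ Uc H Ax R i) : n • u ∈ Uc H Ax R i := by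
  have h1 := add_mem (D.axSys.NC_quad hn u) hu
  rwa [D.axSys.add_add_self] at h1

/-- **877's `Comp`.** -/
theorem comp (i : ι) : Comp T Ax R (Cpt H Ax R i) (Nc T Ax R i) (Uc H Ax R i) where
  toRt := D.toRt
  ti := fun hg x i hx => D.toEx.ti hg x i hx
  isax := fun _ hg => D.axSys.mem_A hg
  inv := fun n hn g hg => by
    have h1 := D.axSys.NN_Cp (D.axSys.mem_A hg) (D.axSys.NC_le_NN hn)
    rw [D.Cpt_eq hg] at h1
    exact h1
  root := fun x j hx y hy => by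
    have h1 : y ∈ YY H Ax R (x • Ax j) := by
      rw [YY_smul_eq]
      obtain ⟨r, hr, rfl⟩ := hy
      exact AddSubgroup.smul_mem_pointwise_smul _ _ _ (Rt.R_le_YY j hr)
    exact AxSys.YY_le_UC hx h1
  uinv := fun _ hn _ hu => D.Uc_inv hn hu
  tr := fun x hx hx0 y hy hy0 => D.sit.transU (Rt.isAx Ax i) hx hx0 hy hy0
  sep := fun x hx hx0 => by
    by_contra hcon
    push Not at hcon
    exact hx0 (D.sit.inf (Rt.isAx Ax i) hx hcon)
  rne := fun j h => by
    have h1 := D.big j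
    rw [h, AddSubgroup.card_bot] at h1
    omega

omit [Finite H] [Finite M] in
theorem R_le_Uc (i : ι) : R i ≤ Uc H Ax R i := (Rt.R_le_YY i).trans (AxSys.YY_le_UC (AxSys.self_mem (Rt.isAx Ax i)))

omit [Finite H] [Finite M] D in
theorem self_mem (i : ι) : Ax i ∈ Cpt H Ax R i := AxSys.self_mem (Rt.isAx Ax i)

/-- **Every axis is in some `c_i`.** -/
theorem cover {g : AddSubgroup M} (hg : IsAx (H := H) Ax g) : ∃ i, g ∈ Cpt H Ax R i := by
  classical
  obtain ⟨h, i, rfl⟩ := hg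
  obtain ⟨n, hn, hc⟩ := D.sit.gen h
  obtain ⟨c, hc'⟩ : ∃ c, c = n⁻¹ * h := ⟨_, rfl⟩
  rw [← hc'] at hc
  have e : h = n * c := by rw [hc', mul_inv_cancel_left]
  -- `c` fixes `z₀`
  have key : ∃ j, c • Ax i ∈ Cpt H Ax R j := by
    by_contra hcon
    push Not at hcon
    -- a member of `c c_i` not containing `c z_i`
    obtain ⟨g, hg, hzg⟩ := (D.comp i).sep (z i) (D.R_le_Uc i (D.zR i)) (D.z0 i)
    have h1 : c • g ∈ Cp (Axs H Ax) (YY H Ax R) (c • Ax i) := by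
      rw [D.axSys.smul_Cp]
      rw [Set.mem_ofPred_eq, inv_smul_smul]
      exact hg
    have hgA := D.axSys.mem_A h1
    have h2 : ∀ j, c • g ∉ Cpt H Ax R j := fun j hj => by
      apply hcon j
      rw [← D.Cpt_eq hj, D.axSys.Cp_eq h1]
      exact AxSys.self_mem (IsAx.smul (Rt.isAx Ax i) c)
    have h3 : ∀ j, z j ∈ c • g := fun j =>
      D.axSys.UC_le hgA (h2 j) (D.R_le_Uc j (D.zR j))
    have h4 : ∀ j, j ≠ i → c • z j ∈ c • g := fun j hj =>
      AddSubgroup.smul_mem_pointwise_smul _ _ _ (D.Uc_le hj.symm hg (D.R_le_Uc j (D.zR j)))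
    have h5 : c • z i ∈ c • g := by
      have h6 : c • ∑ j, z j ∈ c • g := by
        rw [hc]
        exact (c • g).sum_mem fun j _ => h3 j
      rw [← Finset.add_sum_erase Finset.univ z (Finset.mem_univ i), smul_add, Finset.smul_sum] at h6
      exact ((c • g).add_mem_cancel_right ((c • g).sum_mem fun j hj => h4 j (Finset.ne_of_mem_erase hj))).1 h6
    rw [mem_smul, inv_smul_smul] at h5
    exact hzg h5
  obtain ⟨j, hj⟩ := key
  refine ⟨j, ?_⟩
  have h1 := D.axSys.NN_Cp (D.axSys.mem_A hj) hn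
  rw [D.Cpt_eq hj] at h1
  rwa [e, mul_smul]

omit [Finite H] in
/-- the root groups of `c_i` centralise the other `U_j` and `I` -/
theorem hfix (i : ι) : ∀ g ∈ Cpt H Ax R i, ∀ t ∈ TT T Ax g,
    (∀ j, j ≠ i → ∀ u ∈ Uc H Ax R j, t • u = u) ∧ ∀ u ∈ Ic H Ax, t • u = u := by
  intro g hg t ht
  have hgA := D.axSys.mem_A hg
  exact ⟨fun j hj u hu => D.axSys.fix g hgA t ht u (D.Uc_le hj.symm hg hu),
    fun u hu => D.axSys.fix g hgA t ht u (hu g hgA)⟩

omit [Finite H] in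
/-- `N_i` centralises the other `U_j` and `I` -/
theorem Nc_fix {i : ι} {n : H} (hn : n ∈ Nc T Ax R i) :
    (∀ j, j ≠ i → ∀ u ∈ Uc H Ax R j, n • u = u) ∧ ∀ u ∈ Ic H Ax, n • u = u := by
  constructor
  · intro j hj u hu
    exact D.axSys.NC_fix (fun g hg => D.Uc_le hj.symm hg hu) hn
  · intro u hu
    exact D.axSys.NC_fix (fun g hg => hu g (D.axSys.mem_A hg)) hn

/-- **The sum `U_1 + .. + U_k + I` is direct.** -/
theorem uniq {f : ι → M} (hf : ∀ i, f i ∈ Uc H Ax R i) {w : M} (hw : w ∈ Ic H Ax) (h : ∑ i, f i + w = 0) :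
    (∀ i, f i = 0) ∧ w = 0 := by
  classical
  have key : ∀ i, f i = 0 := by
    intro i
    by_contra h0
    obtain ⟨g, hg, hfg⟩ := (D.comp i).sep (f i) (hf i) h0
    apply hfg
    have h1 : ∑ i, f i + w ∈ g := by rw [h]; exact g.zero_mem
    rw [← Finset.add_sum_erase Finset.univ f (Finset.mem_univ i), add_assoc] at h1
    refine (g.add_mem_cancel_right (g.add_mem (g.sum_mem fun j hj => ?_) (hw g (D.axSys.mem_A hg)))).1 h1
    exact D.Uc_le (Finset.ne_of_mem_erase hj).symm hg (hf j)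
  refine ⟨key, ?_⟩
  rwa [Finset.sum_eq_zero fun i _ => key i, zero_add] at h

/-- every `y ∈ [M, N]` is a sum of elements of the `U_i` -/
theorem exists_of_mem {y : M} (hy : y ∈ ⨆ g ∈ Axs H Ax, YY H Ax R g) :
    ∃ f : ι → M, (∀ i, f i ∈ Uc H Ax R i) ∧ y = ∑ i, f i := by
  classical
  let X : AddSubgroup M :=
    { carrier := {y | ∃ f : ι → M, (∀ i, f i ∈ Uc H Ax R i) ∧ y = ∑ i, f i}
      zero_mem' := ⟨fun _ => 0, fun _ => zero_mem _, by simp⟩
      add_mem' := by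
        rintro _ _ ⟨f, hf, rfl⟩ ⟨f', hf', rfl⟩
        exact ⟨fun i => f i + f' i, fun i => add_mem (hf i) (hf' i), Finset.sum_add_distrib.symm⟩
      neg_mem' := by
        rintro _ ⟨f, hf, rfl⟩
        exact ⟨fun i => - f i, fun i => neg_mem (hf i), (Finset.sum_neg_distrib _).symm⟩ }
  have hX : (⨆ g ∈ Axs H Ax, YY H Ax R g) ≤ X := by
    refine iSup₂_le fun g hg y hy => ?_
    obtain ⟨i, hi⟩ := D.cover hg
    refine ⟨fun j => if j = i then y else 0, fun j => ?_, ?_⟩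
    · by_cases h : j = i
      · subst h
        simp only [if_true]
        exact AxSys.YY_le_UC hi hy
      · simp only [if_neg h]
        exact zero_mem _
    · rw [Finset.sum_ite_eq' Finset.univ i (fun _ => y), if_pos (Finset.mem_univ i)]
  exact hX hy

/-- `Z ⊆ [M, N] + I` -/
theorem zall {u : M} (hu : u ∈ Z) : ∃ f : ι → M, (∀ i, f i ∈ Uc H Ax R i) ∧ ∃ w ∈ Ic H Ax, u = ∑ i, f i + w := by
  rcases D.one u hu with h | h
  · exact ⟨fun _ => 0, fun _ => zero_mem _, u, h, by simp⟩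
  · obtain ⟨y, hy, h1⟩ := h.mem_all
    obtain ⟨f, hf, rfl⟩ := D.exists_of_mem hy
    refine ⟨f, hf, u + ∑ i, f i, h1, ?_⟩
    rw [add_comm u, ← add_assoc, D.char2, zero_add]

/-- `h • U_i = U_j` for some `j` -/
theorem smul_Uc (h : H) (i : ι) : ∃ j, h • Uc H Ax R i = Uc H Ax R j := by
  obtain ⟨j, hj⟩ := D.cover (IsAx.smul (Rt.isAx Ax i) h)
  refine ⟨j, ?_⟩
  have key : ∀ (h : H) (i j : ι), h • Ax i ∈ Cpt H Ax R j → h • Uc H Ax R i ≤ Uc H Ax R j := by
    intro h i j hj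
    have h1 : Uc H Ax R i ≤ h⁻¹ • Uc H Ax R j := by
      refine iSup₂_le fun g hg y hy => ?_
      rw [mem_smul, inv_inv]
      have h2 : h • g ∈ Cpt H Ax R j := by
        rw [← D.Cpt_eq hj, D.axSys.smul_Cp]
        rw [Set.mem_ofPred_eq, inv_smul_smul]
        exact hg
      refine AxSys.YY_le_UC h2 ?_
      rw [YY_smul_eq]
      exact AddSubgroup.smul_mem_pointwise_smul _ _ _ hy
    intro y hy
    rw [mem_smul] at hy
    have h2 := h1 hy
    rwa [mem_smul, inv_inv, smul_inv_smul] at h2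
  refine le_antisymm (key h i j hj) ?_
  have h3 : h⁻¹ • Ax j ∈ Cpt H Ax R i := by
    have h4 : Ax j ∈ Cp (Axs H Ax) (YY H Ax R) (h • Ax i) := by
      rw [D.Cpt_eq hj]
      exact self_mem j
    rw [D.axSys.smul_Cp] at h4
    exact h4
  have h5 := key h⁻¹ j i h3
  intro y hy
  rw [mem_smul]
  exact h5 (AddSubgroup.smul_mem_pointwise_smul _ _ _ hy)

omit [Fintype ι] [Finite H] [Finite M] D in
theorem Ic_smul {h : H} {w : M} (hw : w ∈ Ic H Ax) : h • w ∈ Ic H Ax := fun g hg => by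
  have h1 := hw (h⁻¹ • g) (IsAx.smul hg h⁻¹)
  rwa [mem_smul, inv_inv] at h1

/-- **`M = U_1 + .. + U_k + I`.** -/
theorem span : (⨆ i, Uc H Ax R i) ⊔ Ic H Ax = ⊤ := by
  rw [eq_top_iff, ← D.gen, AddSubgroup.closure_le]
  rintro _ ⟨h, u, hu, rfl⟩
  obtain ⟨f, hf, w, hw, rfl⟩ := D.zall hu
  rw [smul_add, Finset.smul_sum]
  refine add_mem (sum_mem fun i _ => ?_) (AddSubgroup.mem_sup_right (Ic_smul hw))
  obtain ⟨j, hj⟩ := D.smul_Uc h i
  refine AddSubgroup.mem_sup_left (AddSubgroup.mem_iSup_of_mem j ?_)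
  rw [← hj]
  exact AddSubgroup.smul_mem_pointwise_smul _ _ _ (hf i)

/-- every vector -/
theorem dec (m : M) : ∃ f : ι → M, (∀ i, f i ∈ Uc H Ax R i) ∧ ∃ w ∈ Ic H Ax, m = ∑ i, f i + w := by
  have h1 : m ∈ (⨆ i, Uc H Ax R i) ⊔ Ic H Ax := by rw [D.span]; trivial
  obtain ⟨y, hy, w, hw, rfl⟩ := AddSubgroup.mem_sup.1 h1
  have h2 : (⨆ i, Uc H Ax R i) ≤ ⨆ g ∈ Axs H Ax, YY H Ax R g := iSup_le fun i => iSup₂_le fun g hg =>
    le_iSup₂_of_le g (D.axSys.mem_A hg) le_rfl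
  obtain ⟨f, hf, rfl⟩ := D.exists_of_mem (h2 hy)
  exact ⟨f, hf, w, hw, rfl⟩

/-- **`Z ⊆ (∑ R_i) + I`** -/
theorem zmem {u : M} (hu : u ∈ Z) : ∃ f : ι → M, (∀ i, f i ∈ R i) ∧ ∃ w ∈ Ic H Ax, u = ∑ i, f i + w := by
  by_cases h : u ∈ Ic H Ax
  · exact ⟨fun _ => 0, fun _ => zero_mem _, u, h, by simp⟩
  obtain ⟨f, hf, w, hw, e⟩ := D.zall hu
  exact ⟨f, mem_root_sum D.comp self_mem D.hfix hf hw e (D.two u hu h), w, hw, e⟩

/-- if `u ∉ I` then some component is not zero -/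
theorem exists_ne {u : M} (hu : u ∉ Ic H Ax) {f : ι → M} {w : M} (hw : w ∈ Ic H Ax)
    (e : u = ∑ i, f i + w) : ∃ i, f i ≠ 0 := by
  by_contra hcon
  push Not at hcon
  rw [Finset.sum_eq_zero fun i _ => hcon i, zero_add] at e
  exact hu (e ▸ hw)

/-- **The two parts of `u ∈ Z` are fixed by what fixes `u` and normalises `∑ R_i`.** -/
theorem zfix {f : ι → M} (hf : ∀ i, f i ∈ R i) {w : M} (hw : w ∈ Ic H Ax) {s : H}
    (hs : s • (∑ i, f i + w) = ∑ i, f i + w) (hR : ∀ i, s • R i ≤ ⨆ j, R j) :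
    s • ∑ i, f i = ∑ i, f i ∧ s • w = w := by
  classical
  have h1 : s • ∑ i, f i ∈ ⨆ j, R j := by
    rw [Finset.smul_sum]
    exact sum_mem fun i _ => hR i (AddSubgroup.smul_mem_pointwise_smul _ _ _ (hf i))
  have h2 : ∑ i, f i ∈ ⨆ j, R j := sum_mem fun i _ => AddSubgroup.mem_iSup_of_mem i (hf i)
  have h3 : s • ∑ i, f i - ∑ i, f i ∈ ⨆ g ∈ Axs H Ax, YY H Ax R g := by
    refine (iSup_le fun i => ?_ : (⨆ j, R j) ≤ _) (sub_mem h1 h2)
    exact (Rt.R_le_YY i).trans (le_iSup₂_of_le (Ax i) (Rt.isAx Ax i) le_rfl)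
  obtain ⟨f', hf', e'⟩ := D.exists_of_mem h3
  have h4 : ∑ i, f' i + (s • w - w) = 0 := by
    rw [← e']
    rw [smul_add] at hs
    have : s • ∑ i, f i - ∑ i, f i + (s • w - w) = (s • ∑ i, f i + s • w) - (∑ i, f i + w) := by abel
    rw [this, hs, sub_self]
  obtain ⟨h5, h6⟩ := D.uniq hf' (sub_mem (Ic_smul hw) hw) h4
  refine ⟨?_, sub_eq_zero.1 h6⟩
  rw [← sub_eq_zero, e']
  exact Finset.sum_eq_zero fun i _ => h5 i

/-- **`N_1 × .. × N_k` fuses the vectors all of whose components are `≠ 0`.** -/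
theorem fuse {f f' : ι → M} (hf : ∀ i, f i ∈ Uc H Ax R i) (hf0 : ∀ i, f i ≠ 0) (hf' : ∀ i, f' i ∈ Uc H Ax R i)
    (hf0' : ∀ i, f' i ≠ 0) : ∃ n ∈ NN (Axs H Ax) (TT T Ax), n • ∑ i, f i = ∑ i, f' i := by
  classical
  have key : ∀ s : Finset ι, ∃ n ∈ NN (Axs H Ax) (TT T Ax), n • ∑ i, f i = ∑ i, if i ∈ s then f' i else f i := by
    intro s
    induction s using Finset.induction_on with
    | empty => exact ⟨1, one_mem _, by simp⟩
    | insert j s hj ih =>
      obtain ⟨n, hn, e⟩ := ih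
      obtain ⟨m, hm, hmj⟩ := (D.comp j).tr (f j) (hf j) (hf0 j) (f' j) (hf' j) (hf0' j)
      refine ⟨m * n, mul_mem (D.axSys.NC_le_NN hm) hn, ?_⟩
      rw [mul_smul, e, Finset.smul_sum]
      refine Finset.sum_congr rfl fun i _ => ?_
      by_cases h1 : i = j
      · subst h1
        rw [if_neg hj, if_pos (Finset.mem_insert_self _ _), hmj]
      · by_cases h2 : i ∈ s
        · rw [if_pos h2, if_pos (Finset.mem_insert_of_mem h2)]
          exact (D.Nc_fix hm).1 i h1 _ (hf' i)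
        · rw [if_neg h2, if_neg (fun h3 => h2 ((Finset.mem_insert.1 h3).resolve_left h1))]
          exact (D.Nc_fix hm).1 i h1 _ (hf i)
  obtain ⟨n, hn, e⟩ := key Finset.univ
  exact ⟨n, hn, by simpa using e⟩

end Fv

end Cfsg.Agent.Omega.NOThreeL.RSplit.Five
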