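import Cfsg.Agent.Omega.NOThreeL.RSplit.Three
import Cfsg.Agent.Omega.NOThreeL.RSplit.Five
import Cfsg.Agent.Omega.NOThreeL.RBig.BigZ

/-!
# NO-3L, box R ∩ (A), `q > 2`, `V_P` split (#19602, helper797): (5), (6) at group level

`h : Hyp M V₀`, `E : MinA S P H`; `Z = zc S`, `Z₀ = Z ∩ V₀`, `F_H = C_Z(H)`, `E = C_Z(P)`.

* `Hyp.le_o2_cent` (#) : `z ∈ Z - F_H` implies `V ≤ O₂(C_H(z))`;
* `Hyp.fv` : the instance of `Five.Fv` for every `1 ≠ z₀ ∈ Z₀`;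
* **`Hyp.zdec`** (5) : `Z ≤ Z₀ F_H`; `Hyp.mem_Ic_iff` : `C_U(N) = F_H`; `Hyp.EF` : `C_Z(P) ∩ C_Z(H) = 1`;
* **`Hyp.card_Z0`** (6) : `|Z₀| = 2` unless `D = C_Z(P) = 1`;
* `Hyp.exists_ef` : then `Z = ⟨e, f⟩`, `D = ⟨e⟩`, `F_H = ⟨f⟩`, `Z₀ = ⟨e f⟩`; `Hyp.cent_z0` : `C_H(z₀) = C_G(Z)`.
-/

set_option autoImplicit false
set_option linter.unusedSectionVars false

namespace Cfsg.Agent.Omega.NOThreeL.RSplit

open Subgroup Cfsg Cfsg.Agent.Omega.MinPar
open Cfsg.Agent.ZN (zc zl o2)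
open Cfsg.Agent.Omega.Frame Cfsg.Agent.Omega.FrameNOFF
open Cfsg.Agent.Omega.Node.NO3L Cfsg.Agent.Omega.NOThreeL.Basic
open Cfsg.Agent.Omega.NoFF.Basic (conj_conj mem_conj conj_le_iff conj_le_centralizer comm_symm comm_mono)
open Cfsg.Agent.Omega.NOThreeL.Pair (conj_eq_of_mem conj_le_normalizer zl_abel)
open Cfsg.Agent.MinSimple.VModule (zl_le zc_le_zl le_normalizer_zl zc_le o2_isPGroup le_normalizer_o2 le_o2
  normalizer_le_normalizer_zc mem_zc)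
open Cfsg.Agent.Omega.NOThreeL.RTools (NN isLong)
open Cfsg.Agent.Omega.FFThm (Off NatK ActsSL)
open Cfsg.Agent.Omega.NOThreeL.ThmAx (Full IsAx TT YY mem_smul IsAx.smul YY_smul_eq)
open Cfsg.Agent.Omega.NOThreeL.RSplit.TransRt (Axs)
open Cfsg.Agent.Omega.NOThreeL.RSplit.Five (Cpt Nc Uc Ic Fv)
open scoped Pointwise

universe u

variable {G : Type u} [Group G] {F : Type} [Field F] {k : ℕ}

namespace Hyp

variable [Finite G] {S : Sylow 2 G} {P H D V₀ : Subgroup G}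
variable {M : NatK F (S : Subgroup G) P (zl (S : Subgroup G) P) D k} (h : Hyp M V₀)

/-- the vectors of `Z` -/
def Zv (E : PairA (S : Subgroup G) P H) : Set (h.nrm E).Mod := {m | (h.nrm E).val m ∈ zc (S : Subgroup G)}

include h

theorem SH (E : PairA (S : Subgroup G) P H) : (S : Subgroup G) ≤ H := E.long.loc.le

/-- (#) -/
theorem le_o2_cent (E : MinA (S : Subgroup G) P H) {z : G} (hz : z ∈ zc (S : Subgroup G))
    (hzH : z ∉ centralizer (H : Set G)) :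
    zl (S : Subgroup G) P ≤ o2 (H ⊓ centralizer ({z} : Set G)) := by
  have hC : CZ (S : Subgroup G) ≤ H ⊓ centralizer ({z} : Set G) :=
    le_inf E.long.cz (centralizer_le (Set.singleton_subset_iff.2 hz))
  have hl : IsLong (S : Subgroup G) (H ⊓ centralizer ({z} : Set G)) :=
    ⟨E.long.loc.of_le S ((le_CZ S).trans hC) inf_le_left, hC⟩
  refine le_o2_of_comm (h.data.low P h.par) hl (E.min _ hl inf_le_left fun he => hzH ?_)
  rw [mem_centralizer_iff]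
  intro x hx
  have h1 : x ∈ H ⊓ centralizer ({z} : Set G) := by rw [he]; exact hx
  exact (mem_centralizer_iff.1 h1.2 z rfl).symm

/-- `E ∩ F = 1` -/
theorem EF (E : PairA (S : Subgroup G) P H) {x : G} (hx : x ∈ zc (S : Subgroup G))
    (hP : x ∈ centralizer (P : Set G)) (hH : x ∈ centralizer (H : Set G)) : x = 1 := by
  by_contra h1
  have hL : IsLong (S : Subgroup G) (centralizer ({x} : Set G)) := isLong S hx h1
  have h2 : P ≤ centralizer ({x} : Set G) := fun p hp => by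
    rw [mem_centralizer_singleton_iff]
    exact mem_centralizer_iff.1 hP p hp
  have h3 : H ≤ centralizer ({x} : Set G) := fun p hp => by
    rw [mem_centralizer_singleton_iff]
    exact mem_centralizer_iff.1 hH p hp
  have h4 : zl (S : Subgroup G) P ≤ zl (S : Subgroup G) (centralizer ({x} : Set G)) :=
    zl_le (zc_le_zl _ _) (h2.trans (le_normalizer_zl _ _))
  have h5 : zl (S : Subgroup G) H ≤ zl (S : Subgroup G) (centralizer ({x} : Set G)) :=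
    zl_le (zc_le_zl _ _) (h3.trans (le_normalizer_zl _ _))
  exact E.ne (h4.trans ((zl_abel h.hc S hL.loc).1.trans (centralizer_le h5)))

/-- `Z ≤ Z₀ E` -/
theorem zE : zc (S : Subgroup G) ≤ (zc (S : Subgroup G) ⊓ V₀) ⊔ (zc (S : Subgroup G) ⊓ centralizer (P : Set G)) := by
  intro z hz
  obtain ⟨w, hw, d, hd, rfl⟩ := h.exists_mul (zc_le_zl _ _ hz)
  have hdz := h.D_le_zc hd
  have hwz : w ∈ zc (S : Subgroup G) := by
    have := mul_mem hz (inv_mem hdz)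
    rwa [mul_inv_cancel_right] at this
  exact mul_mem (mem_sup_left ⟨hwz, hw⟩) (mem_sup_right ⟨hdz, h.D_le_cent hd⟩)

/-- `C_Z(P) = D` -/
theorem cent_P : zc (S : Subgroup G) ⊓ centralizer (P : Set G) = D := by
  refine le_antisymm ?_ (le_inf h.D_le_zc h.D_le_cent)
  intro z hz
  obtain ⟨w, hw, d, hd, rfl⟩ := h.exists_mul (zc_le_zl _ _ hz.1)
  have hwP : w ∈ centralizer (P : Set G) := by
    have : w * d * d⁻¹ ∈ centralizer (P : Set G) := mul_mem hz.2 (inv_mem (h.D_le_cent hd))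
    rwa [mul_inv_cancel_right] at this
  have hw1 : w = 1 := by
    refine h.inj hw (one_mem _) ?_
    rw [RStr.e_one M]
    have key : ∀ i, M.e w i 0 = 0 ∧ M.e w i 1 = 0 := by
      intro i
      obtain ⟨g, hg, hA⟩ := M.lift fun _ => Lib.SL2Mat.up 1
      have h1 := hA.1 w (h.V0V hw) i
      rw [mem_centralizer_iff.1 hwP g hg, mul_inv_cancel_right, RAOne.ap_up'] at h1
      have h2 := congrFun h1 0
      obtain ⟨g', hg', hA'⟩ := M.lift fun _ => Lib.SL2Mat.lo 1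
      have h3 := hA'.1 w (h.V0V hw) i
      rw [mem_centralizer_iff.1 hwP g' hg', mul_inv_cancel_right, RAOne.ap_lo'] at h3
      have h4 := congrFun h3 1
      simp at h2 h4
      exact ⟨h4, h2⟩
    funext i l
    fin_cases l
    · exact (key i).1
    · exact (key i).2
  rw [hw1, one_mul]
  exact hd

theorem nP : ∀ g ∈ P ⊓ normalizer ((S : Subgroup G) : Set G), ∀ x ∈ zc (S : Subgroup G) ⊓ V₀,
    g * x * g⁻¹ ∈ zc (S : Subgroup G) ⊓ V₀ := fun _ hg x hx =>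
  ⟨(mem_normalizer_iff.1 (normalizer_le_normalizer_zc _ hg.2) x).1 hx.1, h.conV0 hg.1 hx.2⟩

theorem e_ne {z : G} (hz : z ∈ zc (S : Subgroup G)) (hV : z ∈ V₀) (h1 : z ≠ 1) (i : Fin k) :
    M.e z i 0 ≠ 0 ∧ M.e z i 1 = 0 := by
  have h2 : M.e z i 1 = 0 := by
    obtain ⟨t, ht, hb⟩ := M.unip fun _ => 1
    have h3 := hb.1 z (h.V0V hV) i
    rw [(mem_zc.1 hz).2.1 t ht, mul_inv_cancel_right, RAOne.ap_up'] at h3
    have h4 := congrFun h3 0
    simpa using h4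
  have h3 : M.e z i ≠ 0 := by
    intro h4
    apply h1
    refine h.inj hV (one_mem _) ?_
    rw [RStr.e_one M]
    funext j
    obtain ⟨s, hs, h5⟩ := M.trans i j
    have h6 := (h5 z (h.V0V hV)).2 h4
    rwa [(mem_zc.1 hz).2.1 s hs, mul_inv_cancel_right] at h6
  refine ⟨fun h4 => h3 ?_, h2⟩
  funext l
  fin_cases l
  · exact h4
  · exact h2

variable [CharP F 2]

theorem fuseP : ∀ x ∈ zc (S : Subgroup G) ⊓ V₀, ∀ y ∈ zc (S : Subgroup G) ⊓ V₀, x ≠ 1 → y ≠ 1 →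
    ∃ g ∈ P, g * x * g⁻¹ = y := fun _ hx _ hy hx1 hy1 =>
  h.exists_conj hy.2 (h.e_ne hy.1 hy.2 hy1) hx.2 (h.e_ne hx.1 hx.2 hx1)

/-- vectors of `Z` in all axes are centralised by `H` -/
theorem cent_of_Ic (E : MinA (S : Subgroup G) P H) {z : G} (hz : z ∈ zc (S : Subgroup G))
    (hI : (h.nrm E.toPairA).of z (zc_le_zl _ _ hz) ∈ Ic H (h.Ax E.toPairA)) : z ∈ centralizer (H : Set G) := by
  have hA := TransRt.axSys (h.rt E.toPairA) (h.big' E.toPairA)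
  rw [mem_centralizer_iff]
  intro x hx
  obtain ⟨n, hn, c, hcc, rfl⟩ := h.exists_nc E hx
  obtain ⟨hnH, n', hn', h1⟩ := h.exists_NN E.toPairA hn
  have h2 := hA.fixed_iff.1 (fun g hg => hI g hg) n' hn'
  have h3 := Nrm.ext_iff.1 ((h1 _).trans h2)
  rw [Nrm.val_smul, Nrm.val_of] at h3
  have h4 : n * z = z * n := mul_inv_eq_iff_eq_mul.1 h3
  rw [mul_assoc, ← mem_centralizer_iff.1 hcc z hz, ← mul_assoc, h4, mul_assoc]

/-- vectors centralised by `H` are in all axes -/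
theorem Ic_of_cent (E : PairA (S : Subgroup G) P H) {m : (h.nrm E).Mod}
    (hm : (h.nrm E).val m ∈ centralizer (H : Set G)) : m ∈ Ic H (h.Ax E) := by
  rintro _ ⟨x, i, rfl⟩
  rw [Nrm.smul_ad, Nrm.mem_ad, mem_conj]
  have h1 : (x : G)⁻¹ * (h.nrm E).val m * x = (h.nrm E).val m := by
    rw [mul_assoc, ← mem_centralizer_iff.1 hm x x.2, inv_mul_cancel_left]
  rw [h1, mem_centralizer_iff]
  exact fun v hv => mem_centralizer_iff.1 hm v (h.VH E hv.2.1)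

/-- `U` is generated by the conjugates of `Z` -/
theorem gen (E : PairA (S : Subgroup G) P H) :
    AddSubgroup.closure {m : (h.nrm E).Mod | ∃ (x : H), ∃ u ∈ h.Zv E, m = x • u} = ⊤ := by
  set X := AddSubgroup.closure {m : (h.nrm E).Mod | ∃ (x : H), ∃ u ∈ h.Zv E, m = x • u} with hX
  have hXs : ∀ (x : H), ∀ m ∈ X, x • m ∈ X := by
    intro x m hm
    induction hm using AddSubgroup.closure_induction with
    | mem m hm =>
      obtain ⟨y, u, hu, rfl⟩ := hm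
      exact AddSubgroup.subset_closure ⟨x * y, u, hu, (mul_smul _ _ _).symm⟩
    | zero => rw [smul_zero]; exact zero_mem _
    | add a b _ _ ha hb => rw [smul_add]; exact add_mem ha hb
    | neg a _ ha => rw [smul_neg]; exact neg_mem ha
  let X' : Subgroup G :=
    { carrier := {x | ∃ hx : x ∈ zl (S : Subgroup G) H, (h.nrm E).of x hx ∈ X}
      one_mem' := ⟨one_mem _, X.zero_mem⟩
      mul_mem' := by
        rintro a b ⟨ha, ha'⟩ ⟨hb, hb'⟩
        exact ⟨mul_mem ha hb, X.add_mem ha' hb'⟩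
      inv_mem' := by
        rintro a ⟨ha, ha'⟩
        exact ⟨inv_mem ha, X.neg_mem ha'⟩ }
  have h1 : zl (S : Subgroup G) H ≤ X' := by
    refine zl_le (fun z hz => ⟨zc_le_zl _ _ hz, AddSubgroup.subset_closure ⟨1, _, hz, (one_smul _ _).symm⟩⟩) ?_
    have key : ∀ g ∈ H, ∀ x ∈ X', g * x * g⁻¹ ∈ X' := by
      rintro g hg x ⟨hx, hx'⟩
      exact ⟨(mem_normalizer_iff.1 (le_normalizer_zl _ _ hg) x).1 hx, hXs ⟨g, hg⟩ _ hx'⟩
    intro g hg
    rw [mem_normalizer_iff]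
    refine fun x => ⟨key g hg x, fun hx => ?_⟩
    have := key g⁻¹ (inv_mem hg) _ hx
    have e : g⁻¹ * (g * x * g⁻¹) * g⁻¹⁻¹ = x := by group
    rwa [e] at this
  rw [eq_top_iff]
  intro m _
  obtain ⟨_, h2⟩ := h1 (Nrm.val_mem _ m)
  exact h2

/-- `V ≤ O₂(C_H(z))` in the module -/
theorem two (E : MinA (S : Subgroup G) P H) : ∀ u ∈ h.Zv E.toPairA, u ∉ Ic H (h.Ax E.toPairA) → ∀ i,
    ∀ a ∈ TH M V₀ H i, ∀ b : H, b • u = u → (∀ m : (h.nrm E.toPairA).Mod, b • b • m = m) →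
      ∃ n : ℕ, ∀ m : (h.nrm E.toPairA).Mod, ((b * a) ^ (2 ^ n)) • m = m := by
  intro u hu huI i a ha b hbu hbb
  set z : G := (h.nrm E.toPairA).val u with hz
  have hzH : z ∉ centralizer (H : Set G) := fun h1 => huI (h.Ic_of_cent E.toPairA h1)
  have h1 := h.le_o2_cent E hu hzH
  set K : Subgroup G := H ⊓ centralizer ({z} : Set G) with hK
  have hbK : (b : G) ∈ K := by
    refine mem_inf.2 ⟨b.2, mem_centralizer_singleton_iff.2 ?_⟩
    have h2 := Nrm.ext_iff.1 hbu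
    rw [Nrm.val_smul] at h2
    exact mul_inv_eq_iff_eq_mul.1 h2
  have haO : (a : G) ∈ o2 K := h1 (mem_subgroupOf.1 ha).2.1
  -- `c = b⁻¹ a b a`
  have hcO : ((b⁻¹ * a * b * a : H) : G) ∈ o2 K := by
    refine mul_mem ?_ haO
    have h2 := (mem_normalizer_iff.1 (le_normalizer_o2 K (inv_mem hbK)) (a : G)).1 haO
    rwa [inv_inv] at h2
  obtain ⟨n, hn⟩ := (o2_isPGroup K) ⟨_, hcO⟩
  obtain ⟨c, hc⟩ : ∃ c : H, c = b⁻¹ * a * b * a := ⟨_, rfl⟩
  have hn' : c ^ (2 ^ n) = 1 := by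
    refine Subtype.ext ?_
    have h3 : ((b⁻¹ * a * b * a : H) : G) ^ (2 ^ n) = 1 := congrArg (Subtype.val : o2 K → G) hn
    rw [hc]
    exact h3
  refine ⟨n + 1, fun m => ?_⟩
  have e : (b * a) ^ (2 ^ (n + 1)) = (b * b * c) ^ (2 ^ n) := by
    rw [pow_succ', pow_mul, pow_two, hc]
    congr 1
    group
  rw [e]
  have key : ∀ (l : ℕ) (m : (h.nrm E.toPairA).Mod), ((b * b * c) ^ l) • m = (c ^ l) • m := by
    intro l
    induction l with
    | zero => intro m; rw [pow_zero, pow_zero]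
    | succ l ih =>
      intro m
      rw [pow_succ', pow_succ', mul_smul, mul_smul, ih, mul_smul c, mul_smul b b, hbb]
  rw [key, hn', one_smul]

/-- **The instance of `Five.Fv`.** -/
theorem fv (E : MinA (S : Subgroup G) P H) {z₀ : G} (hz : z₀ ∈ zc (S : Subgroup G)) (hV : z₀ ∈ V₀) (h1 : z₀ ≠ 1) :
    ∃ f : Fin k → (h.nrm E.toPairA).Mod, ∑ i, f i = (h.nrm E.toPairA).of z₀ (zc_le_zl _ _ hz) ∧
      Fv (TH M V₀ H) (h.Ax E.toPairA) (h.R E.toPairA) f (h.Zv E.toPairA) := by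
  have hEx := h.ex E.toPairA
  have hfull := h.full_of E.toPairA hV (zc_le_zl _ _ hz) (h.e_z0 E.toPairA hV hz h1)
  have hfull' := hfull
  obtain ⟨f, hf, he⟩ := hfull
  have hsit : ∀ z, ∀ hz : z ∈ zc (S : Subgroup G),
      (h.nrm E.toPairA).of z (zc_le_zl _ _ hz) ∉ Ic H (h.Ax E.toPairA) →
      RBig.Trans.Sit (Axs H (h.Ax E.toPairA)) (TT (TH M V₀ H) (h.Ax E.toPairA)) (YY H (h.Ax E.toPairA) (h.R E.toPairA))
        ((h.nrm E.toPairA).of z (zc_le_zl _ _ hz)) := by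
    intro z hz hI
    refine h.sit E hz ?_
    by_contra hcon
    push Not at hcon
    apply hI
    rintro _ ⟨x, i, rfl⟩
    exact hcon x i
  refine ⟨f, he.symm, { toEx := hEx, zR := fun i => (hf i).1, z0 := fun i => (hf i).2, sit := ?_, one := ?_, gen := ?_, two := ?_ }⟩
  · rw [← he]
    refine hsit z₀ hz fun hI => ?_
    obtain ⟨g, hg, hi⟩ := hEx.nt ⟨0, h.kpos⟩
    exact hi (hEx.six hg hfull' (hI g hg) _)
  · intro u hu
    by_cases hI : u ∈ Ic H (h.Ax E.toPairA)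
    · exact Or.inl hI
    · exact Or.inr (hsit _ hu hI)
  · exact h.gen E.toPairA
  · exact h.two E

/-- `∑ R_i` is in `V₀` -/
theorem R_le (E : PairA (S : Subgroup G) P H) : (⨆ i, h.R E i) ≤ (h.nrm E).ad V₀ :=
  iSup_le fun _ _ hm => hm.1.1

theorem smul_R (E : PairA (S : Subgroup G) P H) {s : G} (hs : s ∈ (S : Subgroup G)) (i : Fin k) :
    (⟨s, h.SH E hs⟩ : H) • h.R E i ≤ ⨆ j, h.R E j := by
  rw [Nrm.smul_ad]
  change (h.nrm E).ad (MulAut.conj s • rr M V₀ i) ≤ _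
  rw [h.conj_rr hs]
  exact le_iSup (h.R E) _

/-- the `H`-fixed part -/
theorem exists_dec (E : MinA (S : Subgroup G) P H) {z : G} (hz : z ∈ zc (S : Subgroup G)) :
    ∃ f : Fin k → (h.nrm E.toPairA).Mod, (∀ i, f i ∈ h.R E.toPairA i) ∧ ∃ y, ∃ hy : y ∈ zc (S : Subgroup G),
      y ∈ centralizer (H : Set G) ∧ (h.nrm E.toPairA).val (∑ i, f i) ∈ zc (S : Subgroup G) ⊓ V₀ ∧
        z = (h.nrm E.toPairA).val (∑ i, f i) * y ∧
        (h.nrm E.toPairA).of y (zc_le_zl _ _ hy) ∈ Ic H (h.Ax E.toPairA) := by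
  obtain ⟨z₀, h0, hz0, h1⟩ := h.exists_z0
  obtain ⟨f₀, -, D'⟩ := h.fv E hz0 h0 h1
  obtain ⟨f, hf, w, hw, he⟩ := D'.zmem (u := (h.nrm E.toPairA).of z (zc_le_zl _ _ hz)) hz
  have hfix : ∀ s ∈ (S : Subgroup G), s * (h.nrm E.toPairA).val (∑ i, f i) * s⁻¹ = (h.nrm E.toPairA).val (∑ i, f i) ∧
      s * (h.nrm E.toPairA).val w * s⁻¹ = (h.nrm E.toPairA).val w := by
    intro s hs
    obtain ⟨h2, h3⟩ := D'.zfix hf hw (s := ⟨s, h.SH E.toPairA hs⟩) (by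
      rw [← he]
      refine Nrm.ext ?_
      rw [Nrm.val_smul, Nrm.val_of]
      change s * z * s⁻¹ = z
      rw [(mem_zc.1 hz).2.1 s hs, mul_inv_cancel_right]) fun i => h.smul_R E.toPairA hs i
    exact ⟨Nrm.ext_iff.1 h2, Nrm.ext_iff.1 h3⟩
  have hzc : ∀ x, x ∈ zl (S : Subgroup G) H → (∀ s ∈ (S : Subgroup G), s * x * s⁻¹ = x) → x ∈ zc (S : Subgroup G) := by
    intro x hx hs
    refine mem_zc.2 ⟨h.US E.toPairA hx, fun s hs' => mul_inv_eq_iff_eq_mul.1 (hs s hs'), ?_⟩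
    rw [pow_two]
    exact h.sqU E.toPairA hx
  have hwz := hzc _ (Nrm.val_mem _ w) fun s hs => (hfix s hs).2
  have hfz := hzc _ (Nrm.val_mem _ (∑ i, f i)) fun s hs => (hfix s hs).1
  refine ⟨f, hf, (h.nrm E.toPairA).val w, hwz, h.cent_of_Ic E hwz hw, ⟨hfz, ?_⟩, ?_, hw⟩
  · exact h.R_le E.toPairA (sum_mem fun i _ => AddSubgroup.mem_iSup_of_mem i (hf i))
  · have h2 := Nrm.ext_iff.1 he
    rwa [Nrm.val_of, Nrm.val_add] at h2

/-- **(5)** `Z ≤ Z₀ F_H` -/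
theorem zdec (E : MinA (S : Subgroup G) P H) :
    zc (S : Subgroup G) ≤ (zc (S : Subgroup G) ⊓ V₀) ⊔ (zc (S : Subgroup G) ⊓ centralizer (H : Set G)) := by
  intro z hz
  obtain ⟨f, -, y, hy, hyH, hx, rfl, -⟩ := h.exists_dec E hz
  exact mul_mem (mem_sup_left hx) (mem_sup_right ⟨hy, hyH⟩)

/-- `Z₀ ∩ F_H = 1` -/
theorem Z0_F (E : MinA (S : Subgroup G) P H) {x : G} (hx : x ∈ zc (S : Subgroup G)) (hV : x ∈ V₀)
    (hH : x ∈ centralizer (H : Set G)) : x = 1 := by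
  by_contra h1
  have hfull := h.full_of E.toPairA hV (zc_le_zl _ _ hx) (h.e_z0 E.toPairA hV hx h1)
  obtain ⟨g, hg, hi⟩ := (h.ex E.toPairA).nt ⟨0, h.kpos⟩
  have h2 := h.Ic_of_cent E.toPairA (m := (h.nrm E.toPairA).of x (zc_le_zl _ _ hx)) hH
  exact hi ((h.ex E.toPairA).six hg hfull (h2 g hg) _)

/-- **`C_U(N) = F_H`** -/
theorem mem_Ic_iff (E : MinA (S : Subgroup G) P H) {m : (h.nrm E.toPairA).Mod} :
    m ∈ Ic H (h.Ax E.toPairA) ↔ (h.nrm E.toPairA).val m ∈ zc (S : Subgroup G) ⊓ centralizer (H : Set G) := by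
  refine ⟨fun hm => ?_, fun hm => h.Ic_of_cent E.toPairA hm.2⟩
  obtain ⟨z₀, h0, hz0, h1⟩ := h.exists_z0
  obtain ⟨f₀, -, D'⟩ := h.fv E hz0 h0 h1
  set FF : AddSubgroup (h.nrm E.toPairA).Mod :=
    (h.nrm E.toPairA).ad (zc (S : Subgroup G) ⊓ centralizer (H : Set G)) with hFF
  have h2 : (⊤ : AddSubgroup (h.nrm E.toPairA).Mod) ≤ (⨆ i, Uc H (h.Ax E.toPairA) (h.R E.toPairA) i) ⊔ FF := by
    rw [← h.gen E.toPairA, AddSubgroup.closure_le]
    rintro _ ⟨x, u, hu, rfl⟩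
    obtain ⟨f, hf, y, hy, hyH, hx, e, hyI⟩ := h.exists_dec E hu
    have e' : u = ∑ i, f i + (h.nrm E.toPairA).of y (zc_le_zl _ _ hy) := Nrm.ext e
    rw [e', smul_add, Finset.smul_sum]
    refine add_mem (sum_mem fun i _ => ?_) (AddSubgroup.mem_sup_right ?_)
    · obtain ⟨j, hj⟩ := D'.smul_Uc x i
      refine AddSubgroup.mem_sup_left (AddSubgroup.mem_iSup_of_mem j ?_)
      rw [← hj]
      exact AddSubgroup.smul_mem_pointwise_smul _ _ _ (D'.R_le_Uc i (hf i))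
    · rw [Nrm.mem_ad, Nrm.val_smul, Nrm.val_of]
      rw [mem_centralizer_iff.1 hyH x x.2, mul_inv_cancel_right]
      exact ⟨hy, hyH⟩
  obtain ⟨y, hy, w, hw, e⟩ := AddSubgroup.mem_sup.1 (h2 (AddSubgroup.mem_top m))
  have hwI : w ∈ Ic H (h.Ax E.toPairA) := h.Ic_of_cent E.toPairA hw.2
  have h3 : (⨆ i, Uc H (h.Ax E.toPairA) (h.R E.toPairA) i) ≤
      ⨆ g ∈ Axs H (h.Ax E.toPairA), YY H (h.Ax E.toPairA) (h.R E.toPairA) g :=
    iSup_le fun i => iSup₂_le fun g hg => le_iSup₂_of_le g (D'.axSys.mem_A hg) le_rfl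
  obtain ⟨f, hf, rfl⟩ := D'.exists_of_mem (h3 hy)
  have h4 := D'.uniq hf (sub_mem hwI hm) (by rw [← e]; abel)
  have h5 : m = w := (sub_eq_zero.1 h4.2).symm
  rw [h5]
  exact hw

theorem fuseH (E : MinA (S : Subgroup G) P H) : ∀ x ∈ zc (S : Subgroup G) ⊓ V₀, ∀ y ∈ zc (S : Subgroup G) ⊓ V₀,
    x ≠ 1 → y ≠ 1 → ∃ g ∈ H, g * x * g⁻¹ = y := by
  intro x hx y hy hx1 hy1
  obtain ⟨f, hf, D'⟩ := h.fv E hx.1 hx.2 hx1
  obtain ⟨f', hf', D''⟩ := h.fv E hy.1 hy.2 hy1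
  obtain ⟨n, hn, e⟩ := D'.fuse (fun i => D'.R_le_Uc i (D'.zR i)) D'.z0 (fun i => D''.R_le_Uc i (D''.zR i)) D''.z0
  rw [hf, hf'] at e
  exact ⟨n, n.2, Nrm.ext_iff.1 e⟩

theorem nH (E : MinA (S : Subgroup G) P H) : ∀ g ∈ H ⊓ normalizer ((S : Subgroup G) : Set G),
    ∀ x ∈ zc (S : Subgroup G) ⊓ V₀, g * x * g⁻¹ ∈ zc (S : Subgroup G) ⊓ V₀ := by
  intro g hg x hx
  by_cases hx1 : x = 1
  · rw [hx1, mul_one, mul_inv_cancel]
    exact one_mem _
  have hgx : g * x * g⁻¹ ∈ zc (S : Subgroup G) := (mem_normalizer_iff.1 (normalizer_le_normalizer_zc _ hg.2) x).1 hx.1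
  refine ⟨hgx, ?_⟩
  obtain ⟨f, hf, D'⟩ := h.fv E hx.1 hx.2 hx1
  obtain ⟨f', hf', y, hy, hyH, hx', e, hyI⟩ := h.exists_dec E hgx
  -- `g x g⁻¹` is in the sum of the `U_i`
  have h1 : (⟨g, hg.1⟩ : H) • ∑ i, f i ∈ ⨆ g ∈ Axs H (h.Ax E.toPairA), YY H (h.Ax E.toPairA) (h.R E.toPairA) g := by
    rw [Finset.smul_sum]
    refine sum_mem fun i _ => ?_
    obtain ⟨j, hj⟩ := D'.smul_Uc (⟨g, hg.1⟩ : H) i
    have h2 : (⟨g, hg.1⟩ : H) • f i ∈ Uc H (h.Ax E.toPairA) (h.R E.toPairA) j := by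
      rw [← hj]
      exact AddSubgroup.smul_mem_pointwise_smul _ _ _ (D'.R_le_Uc i (D'.zR i))
    exact (iSup₂_le fun g hg => le_iSup₂_of_le g (D'.axSys.mem_A hg) le_rfl :
      Uc H (h.Ax E.toPairA) (h.R E.toPairA) j ≤ _) h2
  obtain ⟨f'', hf'', e''⟩ := D'.exists_of_mem h1
  have e1 : ∑ i, f'' i = ∑ i, f' i + (h.nrm E.toPairA).of y (zc_le_zl _ _ hy) := by
    rw [← e'', hf]
    exact Nrm.ext e
  have h4 := D'.uniq (f := fun i => f' i - f'' i) (fun i => sub_mem (D'.R_le_Uc i (hf' i)) (hf'' i)) hyI (by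
    rw [Finset.sum_sub_distrib, e1]
    abel)
  have h5 : y = 1 := Nrm.eq_zero_iff.1 h4.2
  rw [e, h5, mul_one]
  exact hx'.2

/-- **(6)** `|Z₀| > 2` implies `Z ≤ V₀` -/
theorem zc_le_V0 (E : MinA (S : Subgroup G) P H) (h2 : 2 < Nat.card (zc (S : Subgroup G) ⊓ V₀ : Subgroup G)) :
    zc (S : Subgroup G) ≤ V₀ :=
  (RBig.BigZ.main S h.SP (h.SH E.toPairA) inf_le_left h2 h.zE (h.zdec E) (fun _ hx hP hH => h.EF E.toPairA hx hP hH)
    h.fuseP (h.fuseH E) h.nP (h.nH E)).trans inf_le_right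

/-- **(6)** `|Z₀| = 2` unless `D = 1` -/
theorem card_Z0 (E : MinA (S : Subgroup G) P H) (hD : D ≠ ⊥) :
    Nat.card (zc (S : Subgroup G) ⊓ V₀ : Subgroup G) = 2 := by
  have h1 : Nat.card (zc (S : Subgroup G) ⊓ V₀ : Subgroup G) ≤ 2 := by
    by_contra hcon
    have h2 := h.zc_le_V0 E (by omega)
    apply hD
    rw [eq_bot_iff, ← h.disj]
    exact le_inf (h.D_le_zc.trans h2) le_rfl
  obtain ⟨z₀, h0, hz0, h2⟩ := h.exists_z0
  have h3 : 1 < Nat.card (zc (S : Subgroup G) ⊓ V₀ : Subgroup G) := by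
    rw [Subgroup.one_lt_card_iff_ne_bot]
    intro h4
    have h5 : z₀ ∈ zc (S : Subgroup G) ⊓ V₀ := ⟨hz0, h0⟩
    rw [h4, mem_bot] at h5
    exact h2 h5
  omega

/-- the elements of `Z₀` -/
theorem eq_or (E : MinA (S : Subgroup G) P H) (hD : D ≠ ⊥) {z₀ x : G} (hz : z₀ ∈ zc (S : Subgroup G)) (hV : z₀ ∈ V₀)
    (h1 : z₀ ≠ 1) (hx : x ∈ zc (S : Subgroup G)) (hxV : x ∈ V₀) : x = 1 ∨ x = z₀ := by
  by_contra hcon
  push Not at hcon
  have h2 := h.card_Z0 E hD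
  have h3 : ({1, z₀, x} : Set G) ⊆ ((zc (S : Subgroup G) ⊓ V₀ : Subgroup G) : Set G) := by
    rintro y (rfl | rfl | rfl)
    · exact one_mem _
    · exact ⟨hz, hV⟩
    · exact ⟨hx, hxV⟩
  have h4 := Set.ncard_le_ncard h3 (Set.toFinite _)
  have h5 : ((zc (S : Subgroup G) ⊓ V₀ : Subgroup G) : Set G).ncard = 2 := h2
  have h6 : ({1, z₀, x} : Set G).ncard = 3 := Set.ncard_eq_three.2 ⟨1, z₀, x, h1.symm, hcon.1.symm, hcon.2.symm, rfl⟩
  omega

/-- `C_H(z₀) = C_G(Z)` -/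
theorem cent_z0 (E : MinA (S : Subgroup G) P H) (hD : D ≠ ⊥) {z₀ : G} (hz : z₀ ∈ zc (S : Subgroup G)) (hV : z₀ ∈ V₀)
    (h1 : z₀ ≠ 1) : H ⊓ centralizer ({z₀} : Set G) = CZ (S : Subgroup G) := by
  refine le_antisymm ?_ (le_inf E.long.cz (centralizer_le (Set.singleton_subset_iff.2 hz)))
  intro x hx
  rw [mem_centralizer_iff]
  intro z hz'
  obtain ⟨f, -, y, hy, hyH, hx', rfl, -⟩ := h.exists_dec E hz'
  have h2 : x * (h.nrm E.toPairA).val (∑ i, f i) = (h.nrm E.toPairA).val (∑ i, f i) * x := by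
    rcases h.eq_or E hD hz hV h1 hx'.1 hx'.2 with h3 | h3
    · rw [h3, mul_one, one_mul]
    · rw [h3]
      exact (mem_centralizer_iff.1 hx.2 z₀ rfl).symm
  rw [mul_assoc, ← mem_centralizer_iff.1 hyH x hx.1, ← mul_assoc, ← h2, mul_assoc]

/-- **`Z = ⟨e, f⟩`, `E = ⟨e⟩`, `F_H = ⟨f⟩`, `Z₀ = ⟨e f⟩`.** -/
theorem exists_ef (E : MinA (S : Subgroup G) P H) (hD : D ≠ ⊥) : ∃ e f z₀ : G, e ≠ 1 ∧ f ≠ 1 ∧ e ≠ f ∧ z₀ ≠ 1 ∧
    z₀ = e * f ∧ z₀ ∈ V₀ ∧ z₀ ∈ zc (S : Subgroup G) ∧ e ∈ zc (S : Subgroup G) ∧ f ∈ zc (S : Subgroup G) ∧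
    (∀ x, x ∈ zc (S : Subgroup G) ↔ x = 1 ∨ x = e ∨ x = f ∨ x = z₀) ∧
    (∀ x, x ∈ zc (S : Subgroup G) ∧ x ∈ V₀ ↔ x = 1 ∨ x = z₀) ∧
    (∀ x, x ∈ D ↔ x = 1 ∨ x = e) ∧
    (∀ x, x ∈ zc (S : Subgroup G) ∧ x ∈ centralizer (P : Set G) ↔ x = 1 ∨ x = e) ∧
    (∀ x, x ∈ zc (S : Subgroup G) ∧ x ∈ centralizer (H : Set G) ↔ x = 1 ∨ x = f) := by
  obtain ⟨z₀, h0, hz, h1⟩ := h.exists_z0
  have hcomm : ∀ x ∈ zc (S : Subgroup G), ∀ y ∈ zc (S : Subgroup G), x * y = y * x :=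
    MinSimple.VModule.zc_comm _
  have hsq : ∀ x ∈ zc (S : Subgroup G), x * x = 1 := fun x hx => by
    have := (mem_zc.1 hx).2.2
    rwa [pow_two] at this
  -- every `x ∈ Z` is `1` or `z₀` times an element of `D`, resp. `F_H`
  have hd1 : ∀ x ∈ zc (S : Subgroup G), x ∈ D ∨ z₀ * x ∈ D := by
    intro x hx
    obtain ⟨w, hw, d, hd, rfl⟩ := h.exists_mul (zc_le_zl _ _ hx)
    have hdz := h.D_le_zc hd
    have hwz : w ∈ zc (S : Subgroup G) := by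
      have := mul_mem hx (inv_mem hdz)
      rwa [mul_inv_cancel_right] at this
    rcases h.eq_or E hD hz h0 h1 hwz hw with h3 | h3
    · left; rw [h3, one_mul]; exact hd
    · right; rw [h3, ← mul_assoc, hsq _ hz, one_mul]; exact hd
  have hf1 : ∀ x ∈ zc (S : Subgroup G), x ∈ centralizer (H : Set G) ∨ z₀ * x ∈ centralizer (H : Set G) := by
    intro x hx
    obtain ⟨f, -, y, hy, hyH, hx', e, -⟩ := h.exists_dec E hx
    rcases h.eq_or E hD hz h0 h1 hx'.1 hx'.2 with h3 | h3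
    · left; rw [e, h3, one_mul]; exact hyH
    · right; rw [e, h3, ← mul_assoc, hsq _ hz, one_mul]; exact hyH
  obtain ⟨⟨e, heD⟩, he⟩ := Subgroup.ne_bot_iff_exists_ne_one.1 hD
  have he1 : e ≠ 1 := fun h2 => he (Subtype.ext h2)
  have hez := h.D_le_zc heD
  have heP := h.D_le_cent heD
  have heV : ∀ x ∈ D, x ∈ V₀ → x = 1 := fun x hx hxV => by
    have : x ∈ V₀ ⊓ D := ⟨hxV, hx⟩
    rwa [h.disj, mem_bot] at this
  have hDH : ∀ x ∈ D, x ∈ centralizer (H : Set G) → x = 1 := fun x hx hxH =>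
    h.EF E.toPairA (h.D_le_zc hx) (h.D_le_cent hx) hxH
  set f := z₀ * e with hfdef
  have hfz : f ∈ zc (S : Subgroup G) := mul_mem hz hez
  have hfH : f ∈ centralizer (H : Set G) := (hf1 e hez).resolve_left fun h2 => he1 (hDH e heD h2)
  have hef : z₀ = e * f := by
    rw [hfdef, ← mul_assoc, hcomm e hez z₀ hz, mul_assoc, hsq e hez, mul_one]
  -- `D = {1, e}`
  have hD2 : ∀ x, x ∈ D ↔ x = 1 ∨ x = e := by
    refine fun x => ⟨fun hx => ?_, ?_⟩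
    · have hxz := h.D_le_zc hx
      by_cases hx1 : x = 1
      · exact Or.inl hx1
      right
      have h2 : z₀ * x ∈ centralizer (H : Set G) := (hf1 x hxz).resolve_left fun h2 => hx1 (hDH x hx h2)
      have h3 : (z₀ * x) * (z₀ * e)⁻¹ = x * e⁻¹ := by
        rw [hcomm z₀ hz x hxz, hcomm z₀ hz e hez]; group
      have h4 : x * e⁻¹ = 1 := hDH _ (mul_mem hx (inv_mem heD)) (by rw [← h3]; exact mul_mem h2 (inv_mem hfH))
      exact mul_inv_eq_one.1 h4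
    · rintro (rfl | rfl)
      · exact one_mem _
      · exact heD
  have hZ0f : ∀ x, x ∈ zc (S : Subgroup G) ∧ x ∈ centralizer (H : Set G) ↔ x = 1 ∨ x = f := by
    refine fun x => ⟨fun hx => ?_, ?_⟩
    · rcases hd1 x hx.1 with h2 | h2
      · exact Or.inl (hDH x h2 hx.2)
      · rcases (hD2 _).1 h2 with h3 | h3
        · have h4 : x = z₀ := by
            have h5 := congrArg (fun t => z₀ * t) h3
            simp only [mul_one] at h5
            rwa [← mul_assoc, hsq _ hz, one_mul] at h5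
          exact Or.inl (h.Z0_F E hx.1 (h4 ▸ h0) hx.2)
        · right
          have h5 : z₀ * (z₀ * x) = z₀ * e := by rw [h3]
          rwa [← mul_assoc, hsq _ hz, one_mul] at h5
    · rintro (rfl | rfl)
      · exact ⟨one_mem _, one_mem _⟩
      · exact ⟨hfz, hfH⟩
  have hf0 : f ≠ 1 := fun h2 => by
    have h3 : z₀ = e⁻¹ := eq_inv_of_mul_eq_one_left h2
    exact h1 (heV z₀ (h3 ▸ inv_mem heD) h0)
  refine ⟨e, f, z₀, he1, hf0, fun h2 => he1 (hDH e heD (h2 ▸ hfH)), h1, hef, h0, hz, hez, hfz, ?_, ?_, hD2, ?_, hZ0f⟩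
  · refine fun x => ⟨fun hx => ?_, ?_⟩
    · rcases hd1 x hx with h2 | h2
      · rcases (hD2 x).1 h2 with h3 | h3
        · exact Or.inl h3
        · exact Or.inr (Or.inl h3)
      · rcases (hD2 _).1 h2 with h3 | h3
        · right; right; right
          have h5 := congrArg (fun t => z₀ * t) h3
          simp only [mul_one] at h5
          rwa [← mul_assoc, hsq _ hz, one_mul] at h5
        · right; right; left
          have h5 : z₀ * (z₀ * x) = z₀ * e := by rw [h3]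
          rwa [← mul_assoc, hsq _ hz, one_mul] at h5
    · rintro (rfl | rfl | rfl | rfl)
      · exact one_mem _
      · exact hez
      · exact hfz
      · exact hz
  · refine fun x => ⟨fun hx => h.eq_or E hD hz h0 h1 hx.1 hx.2, ?_⟩
    rintro (rfl | rfl)
    · exact ⟨one_mem _, one_mem _⟩
    · exact ⟨hz, h0⟩
  · intro x
    rw [← hD2, ← h.cent_P, mem_inf]

end Hyp

end Cfsg.Agent.Omega.NOThreeL.RSplit
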