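import Cfsg.Agent.Omega.NOThreeL.RSplit.Three

/-!
# NO-3L, box R ∩ (A), `q > 2`, `V_P` split (#19602): the hypothesis `free`

`Hyp.free` : an element of `N_i` which fixes an element of `U = zl S H` outside `C_U(N_i)` is trivial on `U`; so it is
the hypothesis `free` of RSplit/FrameOf.lean, ManyAx.lean, QuadAll.lean, QuadFv.lean for the instance `Hyp.rt`.
`Hyp.free_ad` : group form.
-/

set_option autoImplicit false
set_option linter.unusedSectionVars false

namespace Cfsg.Agent.Omega.NOThreeL.RSplit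

open Subgroup Cfsg Cfsg.Agent.Omega.MinPar
open Cfsg.Agent.ZN (zc zl o2)
open Cfsg.Agent.Omega.Node.NO3L Cfsg.Agent.Omega.NOThreeL.Basic
open Cfsg.Agent.Omega.FFThm (Off NatK ActsSL)
open scoped Pointwise

universe u

variable {G : Type u} [Group G] {F : Type} [Field F] {k : ℕ}

namespace Hyp

variable [Finite G] {S : Sylow 2 G} {P H D V₀ : Subgroup G}
variable {M : NatK F (S : Subgroup G) P (zl (S : Subgroup G) P) D k} (h : Hyp M V₀)
include h

variable [CharP F 2] (E : PairA (S : Subgroup G) P H)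
include E

/-- if `v ∈ N_i` commutes with `u ∈ U - C(N_i)`, then `v ∈ C(U)` -/
theorem free_ad {i : Fin k} {v u : G} (hv : v ∈ nn M V₀ i) (hu : u ∈ zl (S : Subgroup G) H)
    (huc : u ∉ centralizer (nn M V₀ i : Set G)) (hvu : v * u = u * v) :
    ∀ m ∈ zl (S : Subgroup G) H, v * m = m * v := by
  obtain ⟨β, hβ, -⟩ := h.exists_beta E
  have h0 : β u i ≠ 0 := fun h1 => huc ((h.mem_cent_iff E hβ hu).2 h1)
  have h1 : v * u * v⁻¹ * u⁻¹ = 1 := by rw [hvu]; group
  have h2 : M.e v i 1 = 0 := by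
    have h3 := (h.cm_aux E hβ hu hv).2
    rw [h1, RStr.e_one M] at h3
    have h4 := congrFun (congrFun h3 i) 0
    rw [Pi.single_eq_same] at h4
    have h5 : β u i * M.e v i 1 = 0 := h4.symm
    exact (mul_eq_zero.1 h5).resolve_left h0
  intro m hm
  obtain ⟨h3, h4⟩ := h.cm_aux E hβ hm hv
  have h5 : v * m * v⁻¹ * m⁻¹ = 1 := by
    refine h.inj h3.1 (one_mem _) ?_
    rw [h4, RStr.e_one M, h2, mul_zero]
    funext j l
    by_cases hj : j = i
    · subst hj
      rw [Pi.single_eq_same]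
      fin_cases l <;> rfl
    · rw [Pi.single_eq_of_ne hj]
      rfl
  exact commutatorElement_eq_one_iff_mul_comm.1 h5

/-- **The hypothesis `free`** for the instance `Hyp.rt`. -/
theorem free : ∀ i, ∀ t ∈ TH M V₀ H i, ∀ u : (h.nrm E).Mod, u ∉ h.Ax E i → t • u = u →
    ∀ m : (h.nrm E).Mod, t • m = m := by
  intro i t ht u hu htu m
  have hv : (t : G) ∈ nn M V₀ i := mem_subgroupOf.1 ht
  have h1 : (t : G) * (h.nrm E).val u = (h.nrm E).val u * (t : G) := by
    have h2 := congrArg (h.nrm E).val htu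
    rw [Nrm.val_smul, mul_inv_eq_iff_eq_mul] at h2
    exact h2
  have h3 := h.free_ad E hv (Nrm.val_mem _ u) (fun h4 => hu (Nrm.mem_ad.2 h4)) h1 _ (Nrm.val_mem _ m)
  refine Nrm.ext ?_
  rw [Nrm.val_smul, h3, mul_inv_cancel_right]

/-- the same for all conjugates -/
theorem free_conj (y : H) : ∀ i, ∀ t ∈ MulAut.conj y • TH M V₀ H i, ∀ u : (h.nrm E).Mod, u ∉ y • h.Ax E i →
    t • u = u → ∀ m : (h.nrm E).Mod, t • m = m := by
  intro i t ht u hu htu m
  rw [Cfsg.Agent.Omega.NoFF.Basic.mem_conj] at ht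
  have h1 := h.free E i _ ht (y⁻¹ • u) (fun h2 => hu (by
    rw [AddSubgroup.mem_smul_pointwise_iff_exists]
    exact ⟨_, h2, smul_inv_smul y u⟩)) (by
      rw [← mul_smul, mul_inv_cancel_right, mul_smul, htu]) (y⁻¹ • m)
  rw [← mul_smul, mul_inv_cancel_right, mul_smul] at h1
  exact MulAction.injective _ h1

end Hyp

end Cfsg.Agent.Omega.NOThreeL.RSplit
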