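import Cfsg.Agent.Omega.NOThreeL.RSplit.Three
import Cfsg.Agent.Omega.NOThreeL.RSplit.EndB
import Cfsg.Agent.Omega.NOThreeL.RBig.AxRInst

/-!
# NO-3L, box R ∩ (A), `q > 2`, split (#19602, helper797): the opposite element, fields of `EndB`

`h : Hyp M V₀`, `E : PairA S P H`.

* `Hyp.mem_RR` : `[U, V] = {r ∈ V₀ | M.e r i 1 = 0}` `= R_1 × .. × R_k`;
* `Hyp.exists_upper` : `U` induces all upper unitriangular matrices;
* `Hyp.cent_bot` : `C_Z(P) ∩ C_Z(H) = 1`;
* **`Hyp.exists_opp`** : `w ∈ P` with the fields `Vw`, `Vw'`, `op`, `opR` of `EndB`.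
-/

set_option autoImplicit false
set_option linter.unusedSectionVars false

namespace Cfsg.Agent.Omega.NOThreeL.RSplit

open Subgroup Cfsg Cfsg.Agent.Omega.MinPar
open Cfsg.Agent.ZN (zc zl o2)
open Cfsg.Agent.Omega.Frame Cfsg.Agent.Omega.FrameNOFF
open Cfsg.Agent.Omega.Node.NO3L Cfsg.Agent.Omega.NOThreeL.Basic
open Cfsg.Agent.Omega.NoFF.Basic (conj_conj mem_conj conj_le_iff conj_le_centralizer comm_symm comm_mono)
open Cfsg.Agent.Omega.NOThreeL.Pair (conj_eq_of_mem conj_le_normalizer zl_abel)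
open Cfsg.Agent.MinSimple.VModule (zl_le zc_le_zl le_normalizer_zl zc_le o2_isPGroup le_normalizer_o2 le_o2
  normalizer_le_normalizer_zc mem_zc)
open Cfsg.Agent.Omega.NOThreeL.RTools (isLong)
open Cfsg.Agent.Omega.FFThm (Off NatK ActsSL)
open Cfsg.Agent.Omega.NatPair (ap ap_mul ap_one ap_inv_ap exists_ap)
open Cfsg.Agent.Lib.SL2Mat
open Cfsg.Agent.Omega.NOThreeL.RAOne (ap_up' ap_lo')
open Cfsg.Agent.Omega.NOThreeL.RSplit.EndB (RR)
open scoped Pointwise commutatorElement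

universe u

variable {G : Type u} [Group G] {F : Type} [Field F] {k : ℕ}

namespace Hyp

variable [Finite G] {S : Sylow 2 G} {P H D V₀ : Subgroup G}
variable {M : NatK F (S : Subgroup G) P (zl (S : Subgroup G) P) D k} (h : Hyp M V₀)
include h

/-- `{v ∈ V₀ | M.e v i 1 = 0}` -/
def ln (M : NatK F (S : Subgroup G) P (zl (S : Subgroup G) P) D k) (h : Hyp M V₀) : Subgroup G where
  carrier := {v | v ∈ V₀ ∧ ∀ i, M.e v i 1 = 0}
  one_mem' := ⟨one_mem _, fun i => by rw [RStr.e_one M]; rfl⟩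
  mul_mem' := by
    rintro a b ⟨ha, ha'⟩ ⟨hb, hb'⟩
    refine ⟨mul_mem ha hb, fun i => ?_⟩
    rw [M.mul a (h.V0V ha) b (h.V0V hb), Pi.add_apply, Pi.add_apply, ha', hb', add_zero]
  inv_mem' := by
    rintro a ⟨ha, ha'⟩
    refine ⟨inv_mem ha, fun i => ?_⟩
    rw [RStr.e_inv M (h.V0V ha), Pi.neg_apply, Pi.neg_apply, ha', neg_zero]

omit h in
theorem mem_ln (h : Hyp M V₀) {v : G} : v ∈ ln M h ↔ v ∈ V₀ ∧ ∀ i, M.e v i 1 = 0 := Iff.rfl

theorem ln_le : ln M h ≤ ⨆ i, rr M V₀ i := by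
  classical
  have key : ∀ s : Finset (Fin k), ∀ w ∈ V₀, (∀ i, M.e w i 1 = 0) → (∀ j, j ∉ s → M.e w j = 0) →
      w ∈ ⨆ i, rr M V₀ i := by
    intro s
    induction s using Finset.induction_on with
    | empty =>
      intro w hw _ h0
      have : w = 1 := h.inj hw (one_mem _) (by
        rw [RStr.e_one M]
        funext j
        exact h0 j (Finset.notMem_empty j))
      rw [this]
      exact one_mem _
    | insert i s his ih =>
      intro w hw hl h0
      obtain ⟨v, hv, he⟩ := h.exists_rr i (M.e w i 0)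
      have h1 : w * v⁻¹ ∈ ⨆ i, rr M V₀ i := by
        refine ih _ (mul_mem hw (inv_mem hv.1.1)) (fun j => ?_) fun j hj => ?_
        · rw [M.mul _ (h.V0V hw) _ (inv_mem hv.1.2.1), RStr.e_inv M hv.1.2.1, he, Pi.add_apply, Pi.neg_apply,
            Pi.add_apply, Pi.neg_apply, hl]
          by_cases hji : j = i
          · rw [hji, Pi.single_eq_same]
            simp
          · rw [Pi.single_eq_of_ne hji]
            simp
        · rw [M.mul _ (h.V0V hw) _ (inv_mem hv.1.2.1), RStr.e_inv M hv.1.2.1, he, Pi.add_apply, Pi.neg_apply]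
          by_cases hji : j = i
          · rw [hji, Pi.single_eq_same]
            funext l
            fin_cases l
            · change M.e w i 0 + -(M.e w i 0) = 0
              rw [add_neg_cancel]
            · change M.e w i 1 + -0 = 0
              rw [hl, neg_zero, add_zero]
          · rw [Pi.single_eq_of_ne hji, neg_zero, add_zero]
            exact h0 j (by rw [Finset.mem_insert]; tauto)
      have h2 := mul_mem h1 ((le_iSup (rr M V₀) i) hv)
      rwa [inv_mul_cancel_right] at h2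
  intro w hw
  exact key Finset.univ w hw.1 hw.2 fun j hj => absurd (Finset.mem_univ j) hj

variable [CharP F 2] (E : PairA (S : Subgroup G) P H)
include E

/-- **`[U, V] = R_1 × .. × R_k`** -/
theorem mem_RR {r : G} : r ∈ RR (S : Subgroup G) P H ↔ r ∈ V₀ ∧ ∀ i, M.e r i 1 = 0 := by
  constructor
  · intro hr
    have h1 : RR (S : Subgroup G) P H ≤ ln M h := by
      refine commutator_le.2 fun u hu v hv => ?_
      obtain ⟨β, hβ, -⟩ := h.exists_beta E
      obtain ⟨w, hw, d, hd, rfl⟩ := h.exists_mul hv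
      have hud : u * d * u⁻¹ = d := by
        rw [mem_centralizer_iff.1 (h.D_le_cent hd) u (h.UP E hu), mul_inv_cancel_right]
      have e1 : ⁅u, w * d⁆ = (u * w * u⁻¹) * w⁻¹ := by
        rw [commutatorElement_def]
        calc u * (w * d) * u⁻¹ * (w * d)⁻¹ = (u * w * u⁻¹) * (u * d * u⁻¹) * d⁻¹ * w⁻¹ := by group
          _ = _ := by rw [hud, mul_inv_cancel_right]
      rw [e1]
      have h2 := h.conV0 (h.UP E hu) hw
      refine ⟨mul_mem h2 (inv_mem hw), fun i => ?_⟩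
      rw [M.mul _ (h.V0V h2) _ (inv_mem (h.V0V hw)), RStr.e_inv M (h.V0V hw), Pi.add_apply, Pi.add_apply,
        hβ u hu w (h.V0V hw)]
      change M.e w i 1 + -(M.e w i 1) = 0
      rw [add_neg_cancel]
    exact h1 hr
  · rintro hr
    have h1 : (⨆ i, rr M V₀ i) ≤ RR (S : Subgroup G) P H := by
      refine iSup_le fun i r hr => ?_
      obtain ⟨u, hu, huc⟩ := h.exists_u E i
      obtain ⟨v, hv, rfl⟩ := h.exists_cm E hu huc hr
      have h2 : ⁅u, v⁆ ∈ RR (S : Subgroup G) P H := commutator_mem_commutator hu hv.2.1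
      have h3 := inv_mem h2
      rw [commutatorElement_def] at h3
      have e : (u * v * u⁻¹ * v⁻¹)⁻¹ = v * u * v⁻¹ * u⁻¹ := by group
      rwa [e] at h3
    exact h1 (h.ln_le hr)

/-- `U` induces all upper unitriangular matrices. -/
theorem exists_upper (b : Fin k → F) : ∃ u ∈ zl (S : Subgroup G) H, ∀ v ∈ zl (S : Subgroup G) P, ∀ i,
    M.e (u * v * u⁻¹) i = ![M.e v i 0 + b i * M.e v i 1, M.e v i 1] := by
  have hF := h.finite_F
  have hs : RBig.AxRInst.Spl S P H D V₀ M := ⟨h.hc, h.data, E, h.kpos, h.V0V, h.PV0, h.disj, h.sup, h.DV,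
    fun z hz h0 h1 => h.three h0 hz h1⟩
  obtain ⟨u, hu, hb⟩ := hs.ind h.big b
  exact ⟨u, hu, fun v hv i => by rw [hb v hv i, ap_up']⟩

omit [CharP F 2] in
/-- `C_Z(P) ∩ C_Z(H) = 1` -/
theorem cent_bot {z : G} (hz : z ∈ zc (S : Subgroup G)) (hP : z ∈ centralizer (P : Set G))
    (hH : z ∈ centralizer (H : Set G)) : z = 1 := by
  by_contra h1
  have hL : IsLong (S : Subgroup G) (centralizer ({z} : Set G)) := isLong S hz h1
  have h2 : P ≤ centralizer ({z} : Set G) := fun g hg =>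
    mem_centralizer_singleton_iff.2 (mem_centralizer_iff.1 hP g hg)
  have h3 : H ≤ centralizer ({z} : Set G) := fun g hg =>
    mem_centralizer_singleton_iff.2 (mem_centralizer_iff.1 hH g hg)
  have h4 := (zl_abel h.hc S hL.loc).1
  exact E.ne ((RA.End.zl_mono h2).trans (h4.trans (centralizer_le (RA.End.zl_mono h3))))

omit E in
/-- an opposite element -/
theorem exists_w : ∃ w ∈ P, (∀ v ∈ zl (S : Subgroup G) P, ∀ i, M.e (w * v * w⁻¹) i = ![M.e v i 1, M.e v i 0]) ∧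
    ∀ v ∈ zl (S : Subgroup G) P, ∀ i, M.e (w⁻¹ * v * w) i = ![M.e v i 1, M.e v i 0] := by
  obtain ⟨w, hw, hA⟩ := M.lift fun _ => up 1 * lo 1 * up 1
  have h1 : ∀ v ∈ zl (S : Subgroup G) P, ∀ i, M.e (w * v * w⁻¹) i = ![M.e v i 1, M.e v i 0] := by
    intro v hv i
    rw [hA.1 v hv i, ap_mul, ap_mul, ap_up' 1 (M.e v i), ap_lo', ap_up']
    have h2 : ∀ x : F, x + x = 0 := CharTwo.add_self_eq_zero
    funext l
    fin_cases l
    · change M.e v i 0 + 1 * M.e v i 1 + 1 * (1 * (M.e v i 0 + 1 * M.e v i 1) + M.e v i 1) = M.e v i 1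
      linear_combination h2 (M.e v i 0) + h2 (M.e v i 1)
    · change 1 * (M.e v i 0 + 1 * M.e v i 1) + M.e v i 1 = M.e v i 0
      linear_combination h2 (M.e v i 1)
  refine ⟨w, hw, h1, fun v hv i => ?_⟩
  have h2 : w⁻¹ * v * w ∈ zl (S : Subgroup G) P := by
    have := conV (S := S) (P := P) (inv_mem hw) hv
    rwa [inv_inv] at this
  have h3 := h1 _ h2 i
  have e : w * (w⁻¹ * v * w) * w⁻¹ = v := by group
  rw [e] at h3
  rw [h3]
  funext l
  fin_cases l <;> rfl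

/-- `V = (V ∩ U) R^w` -/
theorem exists_decw {w v : G} (hw : w ∈ P)
    (hwv : ∀ v ∈ zl (S : Subgroup G) P, ∀ i, M.e (w * v * w⁻¹) i = ![M.e v i 1, M.e v i 0])
    (hv : v ∈ zl (S : Subgroup G) P) :
    ∃ a ∈ zl (S : Subgroup G) H, ∃ r ∈ RR (S : Subgroup G) P H, v = a * (w * r * w⁻¹) := by
  obtain ⟨v₀, hv₀, d, hd, rfl⟩ := h.exists_mul hv
  obtain ⟨r, hr, he⟩ := h.surj fun i => ![M.e v₀ i 1, 0]
  have hrR : r ∈ RR (S : Subgroup G) P H := (h.mem_RR E).2 ⟨hr, fun i => by rw [he]; rfl⟩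
  have hwr : w * r * w⁻¹ ∈ V₀ := h.conV0 hw hr
  refine ⟨v₀ * d * (w * r * w⁻¹)⁻¹, ?_, r, hrR, by group⟩
  have e1 : v₀ * d * (w * r * w⁻¹)⁻¹ = (v₀ * (w * r * w⁻¹)⁻¹) * d := by
    rw [mul_assoc v₀ d, mul_assoc v₀, h.commV (h.DV hd) (inv_mem (h.V0V hwr))]
  rw [e1]
  refine mul_mem ?_ (zc_le_zl _ _ (h.D_le_zc hd))
  have h1 : v₀ * (w * r * w⁻¹)⁻¹ ∈ RR (S : Subgroup G) P H := by
    refine (h.mem_RR E).2 ⟨mul_mem hv₀ (inv_mem hwr), fun i => ?_⟩
    rw [M.mul _ (h.V0V hv₀) _ (inv_mem (h.V0V hwr)), RStr.e_inv M (h.V0V hwr), Pi.add_apply, Pi.add_apply,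
      Pi.neg_apply, Pi.neg_apply, hwv r (h.V0V hr), he]
    change M.e v₀ i 1 + -(M.e v₀ i 1) = 0
    rw [add_neg_cancel]
  exact (h.ln_le ((h.mem_RR E).1 h1) |> fun h2 => (iSup_le fun i => h.rr_le_U E i :
    (⨆ i, rr M V₀ i) ≤ zl (S : Subgroup G) H) h2)

/-- **The opposite element**: fields `hw`, `Vw`, `Vw'`, `op`, `opR` of `EndB`. -/
theorem exists_opp {f : G} (hf : f ∈ zc (S : Subgroup G) ⊓ centralizer (H : Set G)) (hf1 : f ≠ 1) :
    ∃ w ∈ P, (∀ v ∈ zl (S : Subgroup G) P, ∃ a ∈ zl (S : Subgroup G) H, ∃ r ∈ RR (S : Subgroup G) P H,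
        v = a * (w * r * w⁻¹)) ∧
      (∀ v ∈ zl (S : Subgroup G) P, ∃ a ∈ zl (S : Subgroup G) H, ∃ r ∈ RR (S : Subgroup G) P H,
        v = a * (w⁻¹ * r * w)) ∧
      (∀ r ∈ RR (S : Subgroup G) P H, ∃ u ∈ zl (S : Subgroup G) H,
        (w⁻¹ * u * w) * f * (w⁻¹ * u * w)⁻¹ = f * (w⁻¹ * r * w)) ∧
      ∀ x ∈ RR (S : Subgroup G) P H, (∀ u ∈ zl (S : Subgroup G) H, (w⁻¹ * u * w) * x = x * (w⁻¹ * u * w)) →
        x = 1 := by
  obtain ⟨w, hw, h1, h2⟩ := h.exists_w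
  refine ⟨w, hw, fun v hv => h.exists_decw E hw h1 hv, fun v hv => ?_, fun r hr => ?_, fun x hx hux => ?_⟩
  · have h3 := h.exists_decw E (w := w⁻¹) (inv_mem hw) (fun v hv i => by rw [inv_inv]; exact h2 v hv i) hv
    simpa only [inv_inv] using h3
  · -- `f = z' d`
    obtain ⟨z', hz', d, hd, rfl⟩ := h.exists_mul (zc_le_zl _ _ hf.1)
    have hz'Z : z' ∈ zc (S : Subgroup G) := by
      have := (zc (S : Subgroup G)).mul_mem hf.1 ((zc (S : Subgroup G)).inv_mem (h.D_le_zc hd))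
      rwa [mul_inv_cancel_right] at this
    have hz'1 : z' ≠ 1 := by
      rintro rfl
      apply hf1
      rw [one_mul] at hf ⊢
      exact h.cent_bot E hf.1 (h.D_le_cent hd) hf.2
    have he := h.e_z0 E hz' hz'Z hz'1
    have hr' := (h.mem_RR E).1 hr
    obtain ⟨u, hu, hb⟩ := h.exists_upper E fun i => (M.e z' i 0)⁻¹ * M.e r i 0
    refine ⟨u, hu, ?_⟩
    have hwz : w * z' * w⁻¹ ∈ V₀ := h.conV0 hw hz'
    have key : u * (w * z' * w⁻¹) * u⁻¹ = (w * z' * w⁻¹) * r := by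
      refine h.inj (h.conV0 (h.UP E hu) hwz) (mul_mem hwz hr'.1) ?_
      rw [M.mul _ (h.V0V hwz) _ (h.V0V hr'.1)]
      funext i
      rw [hb _ (h.V0V hwz), Pi.add_apply, h1 z' (h.V0V hz')]
      funext l
      fin_cases l
      · change M.e z' i 1 + (M.e z' i 0)⁻¹ * M.e r i 0 * M.e z' i 0 = M.e z' i 1 + M.e r i 0
        rw [mul_comm _ (M.e r i 0), mul_assoc, inv_mul_cancel₀ (he i).1, mul_one]
      · change M.e z' i 0 = M.e z' i 0 + M.e r i 1
        rw [hr'.2, add_zero]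
    have hdw : w * d * w⁻¹ = d := by
      rw [mem_centralizer_iff.1 (h.D_le_cent hd) w hw, mul_inv_cancel_right]
    have hdu : u * d * u⁻¹ = d := by
      rw [mem_centralizer_iff.1 (h.D_le_cent hd) u (h.UP E hu), mul_inv_cancel_right]
    have hrd : r * d = d * r := h.commV (h.V0V hr'.1) (h.DV hd)
    calc (w⁻¹ * u * w) * (z' * d) * (w⁻¹ * u * w)⁻¹
        = w⁻¹ * (u * (w * z' * w⁻¹) * u⁻¹) * (u * (w * d * w⁻¹) * u⁻¹) * w := by group
      _ = w⁻¹ * ((w * z' * w⁻¹) * r) * d * w := by rw [key, hdw, hdu]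
      _ = w⁻¹ * (w * z' * w⁻¹) * (r * d) * w := by group
      _ = z' * (w⁻¹ * d * w) * (w⁻¹ * r * w) := by rw [hrd]; group
      _ = _ := by
        have e : w⁻¹ * d * w = d := by
          rw [mul_assoc, ← mem_centralizer_iff.1 (h.D_le_cent hd) w hw, inv_mul_cancel_left]
        rw [e]
  · have hx' := (h.mem_RR E).1 hx
    obtain ⟨u, hu, hb⟩ := h.exists_upper E fun _ => 1
    have h3 := hux u hu
    have h4 : u * (w * x * w⁻¹) * u⁻¹ = w * x * w⁻¹ := by
      have h5 := congrArg (fun t => w * t * w⁻¹ * u⁻¹) h3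
      simpa [mul_assoc] using h5
    refine h.inj hx'.1 (one_mem _) ?_
    rw [RStr.e_one M]
    funext i l
    have h5 := hb _ (h.V0V (h.conV0 hw hx'.1)) i
    rw [h4, h1 x (h.V0V hx'.1)] at h5
    have h6 := congrFun h5 0
    change M.e x i 1 = M.e x i 1 + 1 * M.e x i 0 at h6
    rw [one_mul] at h6
    fin_cases l
    · exact left_eq_add.1 h6
    · exact hx'.2 i

end Hyp

end Cfsg.Agent.Omega.NOThreeL.RSplit
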