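import Cfsg.Agent.Omega.NOThreeL.RSplit.EndFv
import Cfsg.Agent.Omega.NOThreeL.RSplit.FiveG
import Cfsg.Agent.Omega.NOThreeL.RSplit.Free
import Cfsg.Agent.Omega.NOThreeL.RSplit.Opp
import Cfsg.Agent.Omega.NOThreeL.RTransvPlug

/-!
# NO-3L, box R ∩ (A), `q > 2`, `V_P` split (#19602, helper797): (7), the instance of END

`h : Hyp M V₀`, `E : MinA S P H`, `D = C_Z(P) ≠ 1`.

* `gr A B` : the subgroup of `G` of an additive subgroup `B` of the module `U`;
* `Hyp.endC`, `Hyp.endB` : the data of `RSplit/EndB.lean`; `Hyp.qp` : (Q);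
* **`Hyp.false_of_ne`** : a contradiction.
-/

set_option autoImplicit false
set_option linter.unusedSectionVars false

namespace Cfsg.Agent.Omega.NOThreeL.RSplit

open Subgroup Cfsg Cfsg.Agent.Omega.MinPar
open Cfsg.Agent.ZN (zc zl o2)
open Cfsg.Agent.Omega.Frame Cfsg.Agent.Omega.FrameNOFF
open Cfsg.Agent.Omega.Node.NO3L Cfsg.Agent.Omega.NOThreeL.Basic
open Cfsg.Agent.Omega.NoFF.Basic (conj_conj mem_conj conj_le_iff conj_le_centralizer comm_symm comm_mono)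
open Cfsg.Agent.Omega.NOThreeL.Pair (conj_eq_of_mem conj_le_normalizer zl_abel)
open Cfsg.Agent.MinSimple.VModule (zl_le zc_le_zl le_normalizer_zl zc_le o2_isPGroup le_normalizer_o2 le_o2
  normalizer_le_normalizer_zc mem_zc)
open Cfsg.Agent.Omega.FFThm (Off NatK ActsSL)
open Cfsg.Agent.Omega.NOThreeL.ThmAx (Full IsAx TT YY mem_smul IsAx.smul YY_smul_eq)
open Cfsg.Agent.Omega.NOThreeL.RSplit.TransRt (Axs)
open Cfsg.Agent.Omega.NOThreeL.RSplit.Five (Cpt Nc Uc Ic Fv)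
open Cfsg.Agent.Omega.NOThreeL.RSplit.FrameOf (Ptt Vv)
open Cfsg.Agent.Omega.NOThreeL.RSplit.ManyAx (Many)
open Cfsg.Agent.Omega.NOThreeL.RBig.Pts (OneAx)
open Cfsg.Agent.Omega.NOThreeL.RSplit.EndFv (Dc)
open Cfsg.Agent.Omega.NOThreeL.RSplit.EndB (RR EndC EndB)
open scoped Pointwise commutatorElement

universe u

variable {G : Type u} [Group G]

/-- the subgroup of `G` of an additive subgroup of the module -/
def gr {H U : Subgroup G} (A : Nrm H U) (B : AddSubgroup A.Mod) : Subgroup G where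
  carrier := {x | ∃ m ∈ B, A.val m = x}
  one_mem' := ⟨0, zero_mem _, Nrm.val_zero⟩
  mul_mem' := by
    rintro _ _ ⟨m, hm, rfl⟩ ⟨m', hm', rfl⟩
    exact ⟨m + m', add_mem hm hm', Nrm.val_add _ _⟩
  inv_mem' := by
    rintro _ ⟨m, hm, rfl⟩
    exact ⟨-m, neg_mem hm, Nrm.val_neg _⟩

namespace gr

variable {H U : Subgroup G} {A : Nrm H U} {B C : AddSubgroup A.Mod}

theorem mem_iff {x : G} : x ∈ gr A B ↔ ∃ m ∈ B, A.val m = x := Iff.rfl

theorem val_mem {m : A.Mod} : A.val m ∈ gr A B ↔ m ∈ B := by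
  constructor
  · rintro ⟨m', hm', e⟩
    rwa [← Nrm.ext e]
  · exact fun hm => ⟨m, hm, rfl⟩

theorem le_U : gr A B ≤ U := by
  rintro _ ⟨m, -, rfl⟩
  exact Nrm.val_mem _ m

theorem mono (h : B ≤ C) : gr A B ≤ gr A C := by
  rintro _ ⟨m, hm, rfl⟩
  exact ⟨m, h hm, rfl⟩

theorem sup : gr A (B ⊔ C) = gr A B ⊔ gr A C := by
  refine le_antisymm ?_ (sup_le (mono le_sup_left) (mono le_sup_right))
  rintro _ ⟨m, hm, rfl⟩
  obtain ⟨a, ha, b, hb, rfl⟩ := AddSubgroup.mem_sup.1 hm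
  rw [Nrm.val_add]
  exact mul_mem (mem_sup_left ⟨a, ha, rfl⟩) (mem_sup_right ⟨b, hb, rfl⟩)

theorem ad_eq {K : Subgroup G} (hK : K ≤ U) : gr A (A.ad K) = K := by
  ext x
  constructor
  · rintro ⟨m, hm, rfl⟩
    exact hm
  · exact fun hx => ⟨A.of x (hK hx), hx, rfl⟩

end gr

variable {F : Type} [Field F] {k : ℕ}

namespace Hyp

variable [Finite G] {S : Sylow 2 G} {P H D V₀ : Subgroup G}
variable {M : NatK F (S : Subgroup G) P (zl (S : Subgroup G) P) D k} (h : Hyp M V₀)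
include h

variable [CharP F 2]

/-- `H` is generated by `C` and members of `P*(S)` -/
theorem gen' (E : MinA (S : Subgroup G) P H) : RTransv.Gen (S : Subgroup G) H := by
  obtain ⟨H₁, h1, h2, h3, h4⟩ := RTransv.exists_gen E.long
  by_cases h : H₁ = H
  · rwa [h] at h4
  · exact absurd (by rw [← h3]; exact E.min H₁ h2 h1 h) E.ne

/-- `[U, V] = ∏ R_i` -/
theorem RR_eq (E : PairA (S : Subgroup G) P H) :
    RR (S : Subgroup G) P H = gr (h.nrm E) (⨆ i, h.R E i) := by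
  refine le_antisymm ?_ ?_
  · have h1 : RR (S : Subgroup G) P H ≤ ⨆ i, rr M V₀ i := fun r hr => h.ln_le ((h.mem_RR E).1 hr)
    refine h1.trans (iSup_le fun i => ?_)
    rw [← gr.ad_eq (A := h.nrm E) (h.rr_le_U E i)]
    exact gr.mono (le_iSup (h.R E) i)
  · rintro _ ⟨m, hm, rfl⟩
    have h1 : (⨆ i, h.R E i) ≤ (h.nrm E).ad (RR (S : Subgroup G) P H) := by
      refine iSup_le fun i m hm => ?_
      rw [Nrm.mem_ad, h.mem_RR E]
      have hm' : (h.nrm E).val m ∈ rr M V₀ i := hm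
      refine ⟨hm'.1.1, fun j => ?_⟩
      by_cases hj : j = i
      · subst hj
        exact hm'.2
      · rw [hm'.1.2.2 j hj]
        rfl
    exact h1 hm

section fv

variable (E : MinA (S : Subgroup G) P H) (hD : D ≠ ⊥) {z₀ : G} (hz : z₀ ∈ zc (S : Subgroup G)) (hV : z₀ ∈ V₀)
  (h1 : z₀ ≠ 1) {f : Fin k → (h.nrm E.toPairA).Mod}
  (hf : ∑ i, f i = (h.nrm E.toPairA).of z₀ (zc_le_zl _ _ hz))
  (Q : Fv (TH M V₀ H) (h.Ax E.toPairA) (h.R E.toPairA) f (h.Zv E.toPairA))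

/-- `U₁ = [U, N]` -/
abbrev U1 (E : MinA (S : Subgroup G) P H) : Subgroup G :=
  gr (h.nrm E.toPairA) (⨆ i, Uc H (h.Ax E.toPairA) (h.R E.toPairA) i)

include E hD hz hV h1 hf Q

/-- the common data -/
theorem endC : EndC (S : Subgroup G) P H (h.U1 E) z₀ where
  par := h.par
  long := E.long
  ne := fun hc => E.ne (comm_symm hc)
  gen := h.gen' E
  U₁U := gr.le_U
  RU := by
    rw [h.RR_eq E.toPairA]
    exact gr.mono (EndFv.iSup_R_le_Uc Q)
  HU := fun g hg => by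
    refine EndB.mem_norm_of_le ?_
    intro x hx
    rw [mem_conj] at hx
    obtain ⟨m, hm, e⟩ := hx
    refine ⟨(⟨g, hg⟩ : H) • m, EndFv.smul_iSup_Uc Q _ hm, ?_⟩
    rw [Nrm.val_smul, e]
    change g * (g⁻¹ * x * g) * g⁻¹ = x
    group
  ZF := by
    refine (h.zdec E).trans (sup_le_sup_right ?_ _)
    rintro z ⟨hzz, hzV⟩
    rw [h.mem_RR E.toPairA]
    refine ⟨hzV, fun i => ?_⟩
    by_cases hz1 : z = 1
    · rw [hz1, RStr.e_one M]
      rfl
    · exact (h.e_ne hzz hzV hz1 i).2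
  z0 := hz
  z0R := by
    rw [h.mem_RR E.toPairA]
    exact ⟨hV, fun i => (h.e_ne hz hV h1 i).2⟩
  z01 := h1
  pts := fun x hx hxR => by
    rw [h.RR_eq E.toPairA] at hxR ⊢
    have h2 : (⟨x, hx⟩ : H) • ∑ i, f i ∈ ⨆ i, h.R E.toPairA i := by
      rw [← gr.val_mem, hf, Nrm.val_smul, Nrm.val_of]
      exact hxR
    intro y hy
    rw [mem_conj] at hy
    obtain ⟨m, hm, e⟩ := hy
    refine ⟨(⟨x, hx⟩ : H) • m, EndFv.smul_iSup_R Q h2 hm, ?_⟩
    rw [Nrm.val_smul, e]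
    change x * (x⁻¹ * y * x) * x⁻¹ = y
    group

omit hD h1 hV in
theorem mem_C {x : H} (hx : x • ∑ i, f i = ∑ i, f i) : (x : G) ∈ centralizer ({z₀} : Set G) := by
  rw [hf] at hx
  have h2 := Nrm.ext_iff.1 hx
  rw [Nrm.val_smul, Nrm.val_of] at h2
  exact mem_centralizer_singleton_iff.2 (mul_inv_eq_iff_eq_mul.1 h2)

/-- (Q) -/
theorem qp (one : ∀ i, OneAx (Ptt H (h.Ax E.toPairA) (h.R E.toPairA) (Cpt H (h.Ax E.toPairA) (h.R E.toPairA) i)
      (Uc H (h.Ax E.toPairA) (h.R E.toPairA) i))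
    (Vv (TH M V₀ H) (h.Ax E.toPairA) (h.R E.toPairA) (Cpt H (h.Ax E.toPairA) (h.R E.toPairA) i)
      (Uc H (h.Ax E.toPairA) (h.R E.toPairA) i))) : RA.End.QP (S : Subgroup G) P H := by
  intro B hB hCB hBB b hb
  have hBC : B ≤ CZ (S : Subgroup G) := hB.trans (Cfsg.Agent.MinSimple.VModule.o2_le _)
  have hBH : B ≤ H := hBC.trans E.long.cz
  obtain ⟨v, hv, h2⟩ := QuadFv.quad_main Q (h.free E.toPairA) one (B := B.subgroupOf H)
    (fun b hb => by
      rw [hf]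
      refine Nrm.ext ?_
      rw [Nrm.val_smul, Nrm.val_of]
      rw [← mem_centralizer_iff.1 (hBC (mem_subgroupOf.1 hb)) z₀ hz, mul_inv_cancel_right])
    (fun b _ u hu => by
      have h3 := (h.mem_Ic_iff E).1 hu
      refine Nrm.ext ?_
      rw [Nrm.val_smul, mem_centralizer_iff.1 h3.2 b b.2, mul_inv_cancel_right])
    (fun x hx _ b hb => by
      have h3 : (x : G) ∈ CZ (S : Subgroup G) := by
        rw [← h.cent_z0 E hD hz hV h1]
        exact ⟨x.2, h.mem_C E hz hf Q hx⟩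
      exact (mem_normalizer_iff.1 (hCB h3) b).1 hb)
    (fun b hb b' hb' m => by
      refine Nrm.ext ?_
      rw [Nrm.val_smul, Nrm.val_add, Nrm.val_smul]
      have hm : (h.nrm E.toPairA).val m ∈ CZ (S : Subgroup G) := (le_CZ _) (h.US E.toPairA (Nrm.val_mem _ m))
      have h3 : (h.nrm E.toPairA).val m * (b' : G)⁻¹ * ((h.nrm E.toPairA).val m)⁻¹ ∈ B :=
        (mem_normalizer_iff.1 (hCB hm) _).1 (inv_mem hb')
      have h4 : ((h.nrm E.toPairA).val m)⁻¹ = (h.nrm E.toPairA).val m :=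
        inv_eq_of_mul_eq_one_left (h.sqU E.toPairA (Nrm.val_mem _ m))
      have h5 : (b' : G) * (h.nrm E.toPairA).val m * (b' : G)⁻¹ * (h.nrm E.toPairA).val m ∈ B := by
        rw [h4] at h3
        have e : (b' : G) * (h.nrm E.toPairA).val m * (b' : G)⁻¹ * (h.nrm E.toPairA).val m =
            b' * ((h.nrm E.toPairA).val m * (b' : G)⁻¹ * (h.nrm E.toPairA).val m) := by group
        rw [e]
        exact mul_mem hb' h3
      have h6 : (b' : G) * (h.nrm E.toPairA).val m * (b' : G)⁻¹ * (h.nrm E.toPairA).val m * (b : G) =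
        (b : G) * ((b' : G) * (h.nrm E.toPairA).val m * (b' : G)⁻¹ * (h.nrm E.toPairA).val m) :=
        mem_centralizer_iff.1 (hBB (mem_subgroupOf.1 hb)) _ h5
      rw [← h6, mul_inv_cancel_right]) (mem_subgroupOf.2 hb : (⟨b, hBH hb⟩ : H) ∈ B.subgroupOf H)
  have hvV : (v : G) ∈ zl (S : Subgroup G) P := by
    have h3 : (⨆ i, TH M V₀ H i) ≤ (zl (S : Subgroup G) P).subgroupOf H :=
      iSup_le fun i t ht => mem_subgroupOf.2 (mem_subgroupOf.1 ht).2.1
    exact mem_subgroupOf.1 (h3 hv)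
  have h3 : (v : G)⁻¹ * b ∈ centralizer (zl (S : Subgroup G) H : Set G) := by
    rw [mem_centralizer_iff]
    intro u hu
    have h4 := Nrm.ext_iff.1 (h2 ((h.nrm E.toPairA).of u hu))
    rw [Nrm.val_smul, Nrm.val_smul, Nrm.val_of] at h4
    change b * u * b⁻¹ = v * u * (v : G)⁻¹ at h4
    have h5 : (v : G)⁻¹ * (b * u * b⁻¹) * b = u * ((v : G)⁻¹ * b) := by
      rw [h4]
      group
    rw [← h5]
    group
  have e : b = v * ((v : G)⁻¹ * b) := by group
  rw [e]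
  exact mul_mem (mem_sup_left hvV) (mem_sup_right h3)

/-- the data of ONE AXIS -/
theorem endB (one : ∀ i, OneAx (Ptt H (h.Ax E.toPairA) (h.R E.toPairA) (Cpt H (h.Ax E.toPairA) (h.R E.toPairA) i)
      (Uc H (h.Ax E.toPairA) (h.R E.toPairA) i))
    (Vv (TH M V₀ H) (h.Ax E.toPairA) (h.R E.toPairA) (Cpt H (h.Ax E.toPairA) (h.R E.toPairA) i)
      (Uc H (h.Ax E.toPairA) (h.R E.toPairA) i))) {f₀ : G}
    (hf₀ : f₀ ∈ zc (S : Subgroup G) ⊓ centralizer (H : Set G)) (hf1 : f₀ ≠ 1) : ∃ w : G,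
      EndB (S : Subgroup G) P H (h.U1 E) z₀ f₀ w
        (fun i => gr (h.nrm E.toPairA) (Uc H (h.Ax E.toPairA) (h.R E.toPairA) i))
        (fun i => gr (h.nrm E.toPairA) (Dc H (h.Ax E.toPairA) (h.R E.toPairA) i))
        (fun i => gr (h.nrm E.toPairA) (h.R E.toPairA i)) := by
  obtain ⟨w, hw, ho1, ho2, ho3, ho4⟩ := h.exists_opp E.toPairA hf₀ hf1
  refine ⟨w, { toEndC := h.endC E hD hz hV h1 hf Q, indep := ?_, U_le := ?_, le_D := ?_, RR_le := ?_, inter := ?_,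
               trC := ?_, exA := ?_, tr := ?_, hQ := h.qp E hD hz hV h1 hf Q one, hf := hf₀, hw := hw,
               Vw := ho1, Vw' := ho2, op := ho3, opR := ho4 }⟩
  · rintro i _ ⟨m, hm, rfl⟩ h2
    rw [← gr.sup, gr.val_mem] at h2
    rw [gr.val_mem]
    exact EndFv.indep Q hm h2
  · exact fun i => gr.mono (le_iSup (Uc H (h.Ax E.toPairA) (h.R E.toPairA)) i)
  · exact fun i j hij => gr.mono (EndFv.Uc_le_Dc hij)
  · intro i
    rw [h.RR_eq E.toPairA, ← gr.sup]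
    exact gr.mono (EndFv.iSup_R_le Q i)
  · rintro _ ⟨m, hm, rfl⟩ h2
    rw [h.RR_eq E.toPairA, gr.val_mem]
    refine EndFv.inter Q hm fun i => ?_
    have h3 := h2 i
    rwa [← gr.sup, gr.val_mem] at h3
  · intro i j
    obtain ⟨s, hs, hij⟩ := h.exists_S i j
    refine ⟨s, le_CZ _ hs, ?_⟩
    rintro _ ⟨m, hm, rfl⟩ h2
    have hsH : s ∈ H := h.SH E.toPairA hs
    have hA : (⟨s, hsH⟩ : H) • h.Ax E.toPairA i = h.Ax E.toPairA j := by
      rw [Nrm.smul_ad]
      change (h.nrm E.toPairA).ad (MulAut.conj s • centralizer (nn M V₀ i : Set G)) = _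
      rw [smul_centralizer, h.conj_nn (h.SP hs), hij]
    have hR : (⟨s, hsH⟩ : H) • h.R E.toPairA i = h.R E.toPairA j := by
      rw [Nrm.smul_ad]
      change (h.nrm E.toPairA).ad (MulAut.conj s • rr M V₀ i) = _
      rw [h.conj_rr hs, hij]
    have hU := EndFv.smul_Uc_of Q hA
    constructor
    · refine ⟨(⟨s, hsH⟩ : H) • m, ?_, rfl⟩
      rw [← hU]
      exact AddSubgroup.smul_mem_pointwise_smul _ _ _ hm
    · intro h3
      apply h2
      rw [gr.val_mem]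
      have h4 : (⟨s, hsH⟩ : H) • m ∈ h.R E.toPairA j := by
        rw [← gr.val_mem]
        exact h3
      rw [← hR, mem_smul, inv_smul_smul] at h4
      exact h4
  · rintro i _ ⟨m, hm, rfl⟩ hmV h2
    rw [← gr.sup, gr.val_mem] at h2
    obtain ⟨g, hg, rfl⟩ := EndFv.exists_sum hm
    have hgR : g i ∉ h.R E.toPairA i := fun h3 => h2 (EndFv.mem_Dc_sup hg h3)
    have hgA : g i ∈ h.Ax E.toPairA i := by
      have h3 : ∑ j, g j ∈ h.Ax E.toPairA i :=
        (centralizer_le (nn_le_V i) : centralizer (zl (S : Subgroup G) P : Set G) ≤ _) hmV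
      rw [← Finset.add_sum_erase Finset.univ g (Finset.mem_univ i)] at h3
      refine ((h.Ax E.toPairA i).add_mem_cancel_right (sum_mem fun j hj => ?_)).1 h3
      exact Q.Uc_le (Finset.ne_of_mem_erase hj).symm (Fv.self_mem i) (hg j)
    obtain ⟨x, hx1, hx2, hx3, hx4, hx5⟩ := EndFv.exists_sep Q (h.free E.toPairA) (one i) (hg i) hgA hgR
    have hxz : x • ∑ j, f j = ∑ j, f j := by
      rw [Finset.smul_sum]
      refine Finset.sum_congr rfl fun j _ => ?_
      by_cases hj : j = i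
      · subst hj
        exact hx3 _ (Q.zR j)
      · exact hx1 j hj _ (Q.R_le_Uc j (Q.zR j))
    have hxC : (x : G) ∈ CZ (S : Subgroup G) := by
      rw [← h.cent_z0 E hD hz hV h1]
      exact ⟨x.2, h.mem_C E hz hf Q hxz⟩
    have hxm : x • ∑ j, g j = ∑ j, g j + (x • g i - g i) := by
      rw [← Finset.add_sum_erase Finset.univ g (Finset.mem_univ i), smul_add, Finset.smul_sum,
        Finset.sum_congr rfl fun j hj => hx1 j (Finset.ne_of_mem_erase hj) _ (hg j)]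
      abel
    have e : (h.nrm E.toPairA).val (∑ j, g j) * ((x : G) * ((h.nrm E.toPairA).val (∑ j, g j))⁻¹ * (x : G)⁻¹) =
        (h.nrm E.toPairA).val (-(x • g i - g i)) := by
      have h3 : -(x • g i - g i) = ∑ j, g j + x • (-∑ j, g j) := by
        rw [smul_neg, hxm]
        abel
      rw [h3, Nrm.val_add, Nrm.val_smul, Nrm.val_neg]
    refine ⟨x, hxC, ?_, ?_⟩
    · rw [e, gr.val_mem]
      exact neg_mem hx4
    · rw [e, gr.val_mem]
      intro h3
      exact hx5 (by simpa using neg_mem h3)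
  · rintro _ ⟨m, hm, rfl⟩ h2
    obtain ⟨g, hg, rfl⟩ := EndFv.exists_sum hm
    have hg0 : ∀ i, g i ≠ 0 := by
      intro i h3
      apply h2 i
      rw [gr.val_mem]
      exact ⟨g, hg, h3, rfl⟩
    obtain ⟨n, -, hn⟩ := Q.fuse (fun i => Q.R_le_Uc i (Q.zR i)) Q.z0 hg hg0
    refine ⟨n, n.2, ?_⟩
    rw [← hn, hf, Nrm.val_smul, Nrm.val_of]

/-- MANY AXES -/
theorem falseA (many : ∀ i, Many (TH M V₀ H) (h.Ax E.toPairA) (h.R E.toPairA)
    (Cpt H (h.Ax E.toPairA) (h.R E.toPairA) i) (Uc H (h.Ax E.toPairA) (h.R E.toPairA) i)) : False := by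
  have T := h.endC E hD hz hV h1 hf Q
  refine T.falseA h.hc h.data ?_
  rintro _ ⟨m, hm, rfl⟩ h2
  rw [h.RR_eq E.toPairA, gr.val_mem]
  refine EndFv.mem_of_many Q (h.free E.toPairA) many hm fun x hx l => ?_
  rw [Nrm.smul_ad, Nrm.mem_ad, smul_centralizer]
  have h3 : (x : G) * z₀ * (x : G)⁻¹ ∈ RR (S : Subgroup G) P H := by
    rw [h.RR_eq E.toPairA]
    rw [← gr.val_mem, hf, Nrm.val_smul, Nrm.val_of] at hx
    exact hx
  have h4 := h2 x x.2 (EndB.mem_norm_of_le (T.pts x x.2 h3))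
  have h5 : MulAut.conj (x : G) • nn M V₀ l ≤ MulAut.conj (x : G) • zl (S : Subgroup G) P :=
    conj_le_iff.2 (nn_le_V l)
  exact centralizer_le h5 h4

end fv

/-- **(7)** -/
theorem false_of_ne (E : MinA (S : Subgroup G) P H) (hD : D ≠ ⊥) : False := by
  obtain ⟨e, f₀, z₀, he1, hf1, hef, h1, hz0, hV, hz, hez, hfz, -, -, -, -, hF⟩ := h.exists_ef E hD
  obtain ⟨f, hf, Q⟩ := h.fv E hz hV h1
  rcases QuadFv.many_or_one Q (h.free E.toPairA) with hm | ho
  · exact h.falseA E hD hz hV h1 hf Q hm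
  · have hf₀ : f₀ ∈ zc (S : Subgroup G) ⊓ centralizer (H : Set G) := (hF f₀).2 (Or.inr rfl)
    obtain ⟨w, hw⟩ := h.endB E hD hz hV h1 hf Q ho hf₀ hf1
    exact hw.false h.hc h.data (by rw [h.cent_P]; exact hD)

end Hyp

end Cfsg.Agent.Omega.NOThreeL.RSplit
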