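import Cfsg.Agent.Omega.NOThreeL.RSplit.Hull
import Cfsg.Agent.Omega.NOThreeL.RBig.Dich

/-!
# NO-3L, box R, `q > 2`, split (helper797 #19602 (7)): the abstract frame of #19087 for one component

For a component `Comp T Ax R A N U` (`RSplit/Hull.lean`) : 162's `Frame X Pt VV` (`RBig/Pts.lean`) on `M := ↥U`,
`Γ := Gm U = (AddMonoid.End ↥U)ˣ`, `X := Xx` = the image of the stabiliser `St` of `A` and `U`, `Pt := Ptt` = the centres
`c • R i` (`c • Ax i ∈ A`), `VV p := Vv p` = the group generated by the images of the `c T_i c⁻¹` with centre `p`.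
Extra inputs: `N = ⨆ g ∈ A, TT g` and `free`.
-/

set_option autoImplicit false

namespace Cfsg.Agent.Omega.NOThreeL.RSplit.FrameOf

open scoped Pointwise
open Cfsg.Agent.Omega.NOThreeL.ThmAx (Full IsAx TT YY Adj mem_smul smul_eq_of YY_smul YY_smul_eq adj_smul IsAx.smul)
open Cfsg.Agent.Omega.NOThreeL.RSplit.Root (Rt)
open Cfsg.Agent.Omega.NOThreeL.RSplit.Hull (Comp hull mem_of_fix)
open Cfsg.Agent.Omega.NOThreeL.RBig.Pts (Frame Mv OneAx Out)

variable {H M : Type*} [Group H] [AddCommGroup M] [DistribMulAction H M]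

variable (H) in
/-- The stabiliser of the component. -/
def St (A : Set (AddSubgroup M)) (U : AddSubgroup M) : Subgroup H where
  carrier := {h | ((∀ g ∈ A, h • g ∈ A) ∧ ∀ g ∈ A, h⁻¹ • g ∈ A) ∧ (∀ u ∈ U, h • u ∈ U) ∧ ∀ u ∈ U, h⁻¹ • u ∈ U}
  one_mem' := by
    refine ⟨⟨fun g hg => ?_, fun g hg => ?_⟩, fun u hu => ?_, fun u hu => ?_⟩
    · rwa [one_smul]
    · rwa [inv_one, one_smul]
    · rwa [one_smul]
    · rwa [inv_one, one_smul]
  mul_mem' := by
    rintro a b ⟨⟨h1, h2⟩, h3, h4⟩ ⟨⟨k1, k2⟩, k3, k4⟩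
    refine ⟨⟨fun g hg => ?_, fun g hg => ?_⟩, fun u hu => ?_, fun u hu => ?_⟩
    · rw [mul_smul]; exact h1 _ (k1 _ hg)
    · rw [mul_inv_rev, mul_smul]; exact k2 _ (h2 _ hg)
    · rw [mul_smul]; exact h3 _ (k3 _ hu)
    · rw [mul_inv_rev, mul_smul]; exact k4 _ (h4 _ hu)
  inv_mem' := by
    rintro a ⟨⟨h1, h2⟩, h3, h4⟩
    exact ⟨⟨h2, by rwa [inv_inv]⟩, h4, by rwa [inv_inv]⟩

/-- The automorphisms of `U`. -/
def Gm (U : AddSubgroup M) : Type _ := (AddMonoid.End ↥U)ˣ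

instance (U : AddSubgroup M) : Group (Gm U) := inferInstanceAs (Group (AddMonoid.End ↥U)ˣ)

instance (U : AddSubgroup M) : DistribMulAction (Gm U) ↥U :=
  inferInstanceAs (DistribMulAction (AddMonoid.End ↥U)ˣ ↥U)

/-- The action of the stabiliser on `U`. -/
def act (A : Set (AddSubgroup M)) (U : AddSubgroup M) : ↥(St H A U) →* Gm U :=
  (MonoidHom.toHomUnits : (↥(St H A U) →* AddMonoid.End ↥U) → (↥(St H A U) →* (AddMonoid.End ↥U)ˣ))
    { toFun := fun h =>
        ({ toFun := fun u => ⟨(h : H) • (u : M), h.2.2.1 u u.2⟩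
           map_zero' := Subtype.ext (smul_zero _)
           map_add' := fun u v => Subtype.ext (smul_add _ _ _) } : ↥U →+ ↥U)
      map_one' := by
        ext u
        exact one_smul _ _
      map_mul' := fun a b => by
        ext u
        exact mul_smul _ _ _ }

theorem act_smul {A : Set (AddSubgroup M)} {U : AddSubgroup M} (h : ↥(St H A U)) (u : ↥U) :
    ((act A U h • u : ↥U) : M) = (h : H) • (u : M) := rfl

theorem act_inv_smul {A : Set (AddSubgroup M)} {U : AddSubgroup M} (h : ↥(St H A U)) (u : ↥U) :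
    (((act A U h)⁻¹ • u : ↥U) : M) = (h : H)⁻¹ • (u : M) := by
  rw [← map_inv, act_smul]
  rfl

theorem gm_ext {U : AddSubgroup M} {a b : Gm U} (h : ∀ m : ↥U, a • m = b • m) : a = b :=
  Units.ext (AddMonoidHom.ext h)

theorem act_smul_sub {A : Set (AddSubgroup M)} {U : AddSubgroup M} (h : ↥(St H A U)) (P : AddSubgroup M) :
    act A U h • P.addSubgroupOf U = ((h : H) • P).addSubgroupOf U := by
  ext u
  rw [AddSubgroup.mem_pointwise_smul_iff_inv_smul_mem, AddSubgroup.mem_addSubgroupOf, act_inv_smul,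
    AddSubgroup.mem_addSubgroupOf, mem_smul]

section defs

variable {ι : Type*} (T : ι → Subgroup H) (Ax R : ι → AddSubgroup M) (A : Set (AddSubgroup M)) (U : AddSubgroup M)

variable (H) in
/-- The points. -/
def Ptt : Set (AddSubgroup ↥U) := {p | ∃ (c : H) (i : ι), c • Ax i ∈ A ∧ p = (c • R i).addSubgroupOf U}

/-- The generators of `Vv p`. -/
def Gn (p : AddSubgroup ↥U) : Set (Gm U) :=
  {a | ∃ (h : ↥(St H A U)) (c : H) (i : ι), c • Ax i ∈ A ∧ (c • R i).addSubgroupOf U = p ∧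
    ∃ t ∈ T i, (h : H) = c * t * c⁻¹ ∧ a = act A U h}

/-- The group of a point. -/
def Vv (p : AddSubgroup ↥U) : Subgroup (Gm U) := Subgroup.closure (Gn T Ax R A U p)

variable (H) in
/-- The image of the stabiliser. -/
def Xx : Subgroup (Gm U) := (act (H := H) A U).range

end defs

variable {ι : Type*} {T : ι → Subgroup H} {Ax R : ι → AddSubgroup M} {A : Set (AddSubgroup M)}
  {N : Subgroup H} {U : AddSubgroup M}

theorem le_of_root {c : H} {i : ι} (C : Comp T Ax R A N U) (hc : c • Ax i ∈ A) {x : M}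
    (hx : x ∈ c • R i) : ∃ hU : x ∈ U, (⟨x, hU⟩ : ↥U) ∈ (c • R i).addSubgroupOf U :=
  ⟨C.root c i hc hx, hx⟩

theorem st_of_mem (C : Comp T Ax R A N U) {n : H} (hn : n ∈ N) : n ∈ St H A U :=
  ⟨⟨fun g hg => C.inv n hn g hg, fun g hg => C.inv n⁻¹ (inv_mem hn) g hg⟩, fun u hu => C.uinv n hn u hu,
    fun u hu => C.uinv n⁻¹ (inv_mem hn) u hu⟩

theorem gen_mem (hN : ⨆ g ∈ A, TT T Ax g ≤ N) {c : H} {i : ι} (hc : c • Ax i ∈ A) {t : H} (ht : t ∈ T i) :
    c * t * c⁻¹ ∈ N :=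
  hN ((le_iSup₂ (f := fun g (_ : g ∈ A) => TT T Ax g) (c • Ax i) hc)
    (Subgroup.subset_closure ⟨c, i, rfl, t, ht, rfl⟩))

/-- elements of `Vv p` -/
theorem vv_spec (C : Comp T Ax R A N U) {p : AddSubgroup ↥U} {v : Gm U} (hv : v ∈ Vv T Ax R A U p) :
    (∀ x ∈ p, v • x = x) ∧ ∀ m : ↥U, v • m - m ∈ p := by
  refine Subgroup.closure_induction (p := fun v _ => (∀ x ∈ p, v • x = x) ∧ ∀ m : ↥U, v • m - m ∈ p)
    ?_ ?_ ?_ ?_ hv
  · rintro a ⟨h, c, i, hc, rfl, t, ht, hh, rfl⟩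
    constructor
    · intro x hx
      apply Subtype.ext
      rw [act_smul, hh]
      have h1 : (x : M) ∈ c • R i := hx
      have h2 : c⁻¹ • (x : M) ∈ Ax i := C.le i i (mem_smul.1 h1)
      rw [mul_smul, mul_smul, C.fix i t ht _ h2, smul_inv_smul]
    · intro m
      change ((act A U h • m - m : ↥U) : M) ∈ c • R i
      rw [AddSubgroup.coe_sub, act_smul, hh]
      have h2 : (c * t * c⁻¹) • (m : M) - m = c • (t • (c⁻¹ • (m : M)) - c⁻¹ • (m : M)) := by
        rw [mul_smul, mul_smul, smul_sub, smul_inv_smul]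
      rw [h2]
      exact AddSubgroup.smul_mem_pointwise_smul _ _ _ (C.quad i t ht _)
  · exact ⟨fun x _ => one_smul _ _, fun m => by rw [one_smul, sub_self]; exact zero_mem _⟩
  · rintro a b _ _ ⟨ha, ha'⟩ ⟨hb, hb'⟩
    refine ⟨fun x hx => by rw [mul_smul, hb x hx, ha x hx], fun m => ?_⟩
    have h1 : (a * b) • m - m = (a • b • m - b • m) + (b • m - m) := by rw [mul_smul]; abel
    rw [h1]
    exact add_mem (ha' _) (hb' _)
  · rintro a _ ⟨ha, ha'⟩
    refine ⟨fun x hx => by rw [inv_smul_eq_iff, ha x hx], fun m => ?_⟩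
    have h1 : a⁻¹ • m - m = -(a • (a⁻¹ • m) - a⁻¹ • m) := by rw [smul_inv_smul]; abel
    rw [h1]
    exact neg_mem (ha' _)

theorem vv_le (C : Comp T Ax R A N U) (p : AddSubgroup ↥U) : Vv T Ax R A U p ≤ Xx H A U := by
  refine (Subgroup.closure_le _).2 ?_
  rintro a ⟨h, c, i, hc, -, t, ht, hh, rfl⟩
  exact ⟨h, rfl⟩

theorem vv_conj {g : Gm U} (hg : g ∈ Xx H A U) {p : AddSubgroup ↥U} {v : Gm U}
    (hv : v ∈ Vv T Ax R A U p) : g * v * g⁻¹ ∈ Vv T Ax R A U (g • p) := by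
  obtain ⟨k, rfl⟩ := hg
  have h1 : Vv T Ax R A U p ≤ (Vv T Ax R A U (act A U k • p)).comap (MulAut.conj (act A U k)).toMonoidHom := by
    refine (Subgroup.closure_le _).2 ?_
    rintro a ⟨h, c, i, hc, rfl, t, ht, hh, rfl⟩
    refine Subgroup.subset_closure ⟨k * h * k⁻¹, k * c, i, ?_, ?_, t, ht, ?_, ?_⟩
    · rw [mul_smul]
      exact k.2.1.1 _ hc
    · rw [act_smul_sub, mul_smul]
    · rw [Subgroup.coe_mul, Subgroup.coe_mul, hh, Subgroup.coe_inv]
      group
    · rw [map_mul, map_mul, map_inv]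
      rfl
  exact h1 hv

/-- **162's frame for one component.** -/
theorem frame [Finite M] (C : Comp T Ax R A N U) (hA : A.Nonempty) (hN : N = ⨆ g ∈ A, TT T Ax g)
    (free : ∀ i, ∀ t ∈ T i, ∀ u : M, u ∉ Ax i → t • u = u → ∀ m : M, t • m = m) :
    Frame (Xx H A U) (Ptt H Ax R A U) (Vv T Ax R A U) where
  two := fun m => Subtype.ext (C.char2 m)
  nonempty := by
    obtain ⟨g, hg⟩ := hA
    obtain ⟨c, i, rfl⟩ := C.isax g hg
    exact ⟨_, c, i, hg, rfl⟩
  ne := by
    rintro p ⟨c, i, hc, rfl⟩ hbot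
    obtain ⟨r, hr, hr0⟩ := (AddSubgroup.bot_or_exists_ne_zero (R i)).resolve_left (C.rne i)
    have h1 : c • r ∈ c • R i := AddSubgroup.smul_mem_pointwise_smul _ _ _ hr
    obtain ⟨hU, h2⟩ := le_of_root C hc h1
    rw [hbot, AddSubgroup.mem_bot] at h2
    exact hr0 ((smul_eq_zero_iff_eq c).1 (congrArg Subtype.val h2))
  span := by
    rw [eq_top_iff]
    rintro x -
    obtain ⟨g, hg⟩ := hA
    obtain ⟨c, i, rfl⟩ := C.isax g hg
    obtain ⟨n, hn, hnc, hx⟩ := C.exists_root hg x.2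
    exact (le_sSup (show ((n * c) • R i).addSubgroupOf U ∈ Ptt H Ax R A U from ⟨n * c, i, hnc, rfl⟩)) hx
  inv := by
    rintro g ⟨k, rfl⟩ p ⟨c, i, hc, rfl⟩
    refine ⟨k * c, i, ?_, ?_⟩
    · rw [mul_smul]
      exact k.2.1.1 _ hc
    · rw [act_smul_sub, mul_smul]
  conj := fun g hg p _ v hv => vv_conj hg hv
  le := fun p _ => vv_le C p
  trans := by
    rintro p ⟨c, i, hc, rfl⟩ r ⟨d, j, hd, rfl⟩
    obtain ⟨x, hx, hx0⟩ := (AddSubgroup.bot_or_exists_ne_zero (R i)).resolve_left (C.rne i)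
    obtain ⟨y, hy, hy0⟩ := (AddSubgroup.bot_or_exists_ne_zero (R j)).resolve_left (C.rne j)
    have hx1 : c • x ∈ c • R i := AddSubgroup.smul_mem_pointwise_smul _ _ _ hx
    have hy1 : d • y ∈ d • R j := AddSubgroup.smul_mem_pointwise_smul _ _ _ hy
    have hx2 : c • x ≠ 0 := fun h => hx0 ((smul_eq_zero_iff_eq c).1 h)
    have hy2 : d • y ≠ 0 := fun h => hy0 ((smul_eq_zero_iff_eq d).1 h)
    obtain ⟨n, hn, hnx⟩ := C.tr _ (C.root c i hc hx1) hx2 _ (C.root d j hd hy1) hy2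
    have hnc : (n * c) • Ax i ∈ A := by
      rw [mul_smul]
      exact C.inv n hn _ hc
    have h1 : (n * c) • R i = d • R j := by
      refine C.root_eq hnc hd (x := d • y) ?_ hy1 hy2
      rw [mul_smul, ← hnx]
      exact AddSubgroup.smul_mem_pointwise_smul _ _ _ hx1
    have hnS := st_of_mem C hn
    refine ⟨act A U ⟨n, hnS⟩, ?_, ?_⟩
    · -- `n` is a product of generators
      have key : N ≤ ((⨆ s ∈ Ptt H Ax R A U, Vv T Ax R A U s).comap (act A U)).map (St H A U).subtype := by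
        rw [hN]
        refine iSup₂_le fun g hg => (Subgroup.closure_le _).2 ?_
        rintro a ⟨c', i', rfl, t, ht, rfl⟩
        have h3 : c' * t * c'⁻¹ ∈ St H A U := st_of_mem C (gen_mem hN.ge hg ht)
        refine ⟨⟨c' * t * c'⁻¹, h3⟩, ?_, rfl⟩
        refine (le_iSup₂ (f := fun s (_ : s ∈ Ptt H Ax R A U) => Vv T Ax R A U s)
          ((c' • R i').addSubgroupOf U) ⟨c', i', hg, rfl⟩) ?_
        exact Subgroup.subset_closure ⟨⟨c' * t * c'⁻¹, h3⟩, c', i', hg, rfl, t, ht, rfl, rfl⟩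
      obtain ⟨n', hn', hn''⟩ := key hn
      have h4 : n' = ⟨n, hnS⟩ := Subtype.ext hn''
      rw [← h4]
      exact hn'
    · rw [act_smul_sub]
      change (d • R j).addSubgroupOf U = (n • c • R i).addSubgroupOf U
      rw [← mul_smul, h1]
  faith := by
    intro p _ v _ h
    exact gm_ext fun m => by rw [h m, one_smul]
  fixed := by
    intro m h
    by_contra hm
    have hm' : (m : M) ≠ 0 := fun h0 => hm (Subtype.ext h0)
    obtain ⟨g, hg, hmg⟩ := C.sep m m.2 hm'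
    refine hmg (mem_of_fix C.toRt C.rne (C.isax g hg) fun t ht => ?_)
    -- `TT g` acts through the `Vv p`
    refine Subgroup.closure_induction (p := fun t _ => t • (m : M) = m) ?_ (one_smul _ _)
      (fun a b _ _ ha hb => by rw [mul_smul, hb, ha]) (fun a _ ha => by rw [inv_smul_eq_iff, ha]) ht
    rintro a ⟨c', i', rfl, t, ht, rfl⟩
    have h3 : c' * t * c'⁻¹ ∈ St H A U := st_of_mem C (gen_mem hN.ge hg ht)
    have h4 := h ((c' • R i').addSubgroupOf U) ⟨c', i', hg, rfl⟩ (act A U ⟨c' * t * c'⁻¹, h3⟩)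
      (Subgroup.subset_closure ⟨⟨c' * t * c'⁻¹, h3⟩, c', i', hg, rfl, t, ht, rfl, rfl⟩)
    exact congrArg Subtype.val h4
  map := by
    intro p _ v hv m
    have h1 := (vv_spec C hv).2 m
    have h2 : v • m + m = v • m - m := by
      rw [sub_eq_add_neg, neg_eq_of_add_eq_zero_left (show m + m = 0 from Subtype.ext (C.char2 m))]
    rw [h2]
    exact h1
  triv := fun p _ v hv => (vv_spec C hv).1
  bij := by
    rintro p hp r ⟨d, j, hd, rfl⟩ - v hv
    by_cases hfix : ∀ x ∈ (d • R j).addSubgroupOf U, v • x = x → x = 0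
    · exact Or.inr hfix
    push Not at hfix
    obtain ⟨x, hx, hvx, hx0⟩ := hfix
    refine Or.inl fun y hy => ?_
    obtain ⟨c, i, hc, rfl⟩ := hp
    by_cases hpr : c • R i = d • R j
    · refine (vv_spec C hv).1 y ?_
      rw [hpr]
      exact hy
    -- `v` normalises `r`
    obtain ⟨k, hk⟩ := vv_le C _ hv
    have hkd : ((k : H) * d) • Ax j ∈ A := by
      rw [mul_smul]
      exact k.2.1.1 _ hd
    have hx0' : (x : M) ≠ 0 := fun h => hx0 (Subtype.ext h)
    have h1 : ((k : H) * d) • R j = d • R j := by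
      refine C.root_eq hkd hd (x := x) ?_ hx hx0'
      rw [mul_smul, mem_smul]
      have h2 : (k : H)⁻¹ • (x : M) = x := by
        rw [inv_smul_eq_iff]
        have := congrArg Subtype.val hvx
        rw [← hk] at this
        exact this.symm
      rw [h2]
      exact hx
    have h2 : v • y ∈ (d • R j).addSubgroupOf U := by
      rw [← hk]
      change (k : H) • (y : M) ∈ d • R j
      rw [← h1, mul_smul]
      exact AddSubgroup.smul_mem_pointwise_smul _ _ _ hy
    have h3 : v • y - y ∈ (d • R j).addSubgroupOf U := sub_mem h2 hy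
    have h4 := (vv_spec C hv).2 y
    by_contra hne
    have h5 : v • y - y ≠ 0 := fun h => hne (sub_eq_zero.1 h)
    exact hpr (C.root_eq hc hd (x := ((v • y - y : ↥U) : M)) h4 h3 fun h => h5 (Subtype.ext h))
  line := by
    rintro p hp r hr ⟨v, hv, x, hx, hne⟩
    -- some generator moves `x`
    have h1 : ∃ a ∈ Gn T Ax R A U p, a • x ≠ x := by
      by_contra hcon
      push Not at hcon
      refine hne (Subgroup.closure_induction (p := fun a _ => a • x = x) hcon (one_smul _ _)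
        (fun a b _ _ ha hb => by rw [mul_smul, hb, ha]) (fun a _ ha => by rw [inv_smul_eq_iff, ha]) hv)
    obtain ⟨a, ⟨h, c, i, hc, rfl, t, ht, hh, rfl⟩, hax⟩ := h1
    let Q : Subgroup (Gm U) := (((T i).map (MulAut.conj c).toMonoidHom).subgroupOf (St H A U)).map (act A U)
    have hQ : ∀ b ∈ Q, ∃ (k : ↥(St H A U)) (t : H), t ∈ T i ∧ (k : H) = c * t * c⁻¹ ∧ b = act A U k := by
      rintro b ⟨k, hk, rfl⟩
      obtain ⟨t, ht, hk'⟩ := hk
      exact ⟨k, t, ht, hk'.symm, rfl⟩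
    have hQ' : ∀ t ∈ T i, ∃ k : ↥(St H A U), (k : H) = c * t * c⁻¹ ∧ act A U k ∈ Q := by
      intro t ht
      refine ⟨⟨c * t * c⁻¹, st_of_mem C (gen_mem hN.ge hc ht)⟩, rfl, ⟨_, ⟨t, ht, rfl⟩, rfl⟩⟩
    refine ⟨Q, ?_, ⟨act A U h, ?_, x, hx, hax⟩, fun u => ?_⟩
    · intro b hb
      obtain ⟨k, t', ht', hk, rfl⟩ := hQ b hb
      exact Subgroup.subset_closure ⟨k, c, i, hc, rfl, t', ht', hk, rfl⟩
    · obtain ⟨k, hk, hkQ⟩ := hQ' t ht
      have : k = h := Subtype.ext (hk.trans hh.symm)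
      rwa [this] at hkQ
    · by_cases hu : c⁻¹ • (u : M) ∈ Ax i
      · left
        intro b hb
        obtain ⟨k, t', ht', hk, rfl⟩ := hQ b hb
        apply Subtype.ext
        rw [act_smul, hk, mul_smul, mul_smul, C.fix i t' ht' _ hu, smul_inv_smul]
      · right
        constructor
        · intro y hy
          have hy' : c⁻¹ • (y : M) ∈ R i := mem_smul.1 hy
          obtain ⟨t', ht', htu⟩ := C.full i _ hu _ hy'
          obtain ⟨k, hk, hkQ⟩ := hQ' t' ht'
          refine ⟨act A U k, hkQ, Subtype.ext ?_⟩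
          rw [act_smul, hk, mul_smul, mul_smul, htu, smul_add, smul_inv_smul, smul_inv_smul]
          rfl
        · intro b hb hbu
          obtain ⟨k, t', ht', hk, rfl⟩ := hQ b hb
          have h2 : (k : H) • (u : M) = u := congrArg Subtype.val hbu
          rw [hk, mul_smul, mul_smul, smul_eq_iff_eq_inv_smul] at h2
          have h3 := free i t' ht' _ hu h2
          refine gm_ext fun m => Subtype.ext ?_
          rw [one_smul, act_smul, hk, mul_smul, mul_smul, h3, smul_inv_smul]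

/-- **The dichotomy for one component.** -/
theorem dichotomy [Finite M] (C : Comp T Ax R A N U) (hA : A.Nonempty) (hN : N = ⨆ g ∈ A, TT T Ax g)
    (free : ∀ i, ∀ t ∈ T i, ∀ u : M, u ∉ Ax i → t • u = u → ∀ m : M, t • m = m) :
    (∀ e ∈ Ptt H Ax R A U, ∀ p ∈ Ptt H Ax R A U, ¬ Mv (Vv T Ax R A U) e p → e = p) ∨
      (OneAx (Ptt H Ax R A U) (Vv T Ax R A U) ∧
        ∀ e ∈ Ptt H Ax R A U, Out (Ptt H Ax R A U) (Vv T Ax R A U) e) :=
  (frame C hA hN free).dichotomy

end Cfsg.Agent.Omega.NOThreeL.RSplit.FrameOf
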