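import Mathlib.RingTheory.LittleWedderburn
import Mathlib.LinearAlgebra.Trace
import Mathlib.LinearAlgebra.FiniteDimensional.Basic
import Mathlib.LinearAlgebra.Dual.Lemmas
import Mathlib.GroupTheory.OrderOfElement
import Mathlib.Algebra.Field.ZMod
import Mathlib.Algebra.Module.ZMod
import Mathlib.Algebra.Group.Subgroup.Finite
import Mathlib.Data.FunLike.Fintype
import Mathlib.Tactic.Abel
import Mathlib.Tactic.Group

/-!
# LEMMA ODD, LEMMA W (bb OMEGA #22009, helper285)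

* `odd_finrank` : an absolutely irreducible module of a group of odd order over a field of characteristic 2 has odd
  dimension;
* `no_half` : an irreducible `F₂ K`-module, `K` of odd order, is not the direct sum of two subspaces of the same order
  over its centraliser field;
* `exists_compl` : Maschke;
* `exists_fix` : **LEMMA W**.
-/

set_option autoImplicit false

namespace Cfsg.Agent.Omega.NOThreeL.LemW

/-! ### LEMMA ODD -/

section Odd

variable {L N X : Type*} [Field L] [AddCommGroup N] [Module L N] [Module.Finite L N] [Nontrivial N] [Group X]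
  [Fintype X]

omit [Fintype X] [Group X] in
theorem exists_trace_one : ∃ f : Module.End L N, LinearMap.trace L N f = 1 := by
  obtain ⟨v, hv⟩ := exists_ne (0 : N)
  obtain ⟨χ, hχ⟩ := Module.Projective.exists_dual_eq_one L hv
  exact ⟨χ.smulRight v, by rw [LinearMap.trace_smulRight, hχ]⟩

theorem odd_finrank (h2 : (2 : L) = 0) (hX : Odd (Fintype.card X)) (ρ : X →* Module.End L N)
    (hs : ∀ f : Module.End L N, (∀ x, f * ρ x = ρ x * f) → ∃ c : L, f = c • (1 : Module.End L N)) :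
    Odd (Module.finrank L N) := by
  obtain ⟨f, hf⟩ := exists_trace_one (L := L) (N := N)
  set F : Module.End L N := ∑ x : X, ρ x⁻¹ * f * ρ x with hF
  have hcomm : ∀ y, F * ρ y = ρ y * F := by
    intro y
    rw [hF, Finset.sum_mul, Finset.mul_sum]
    refine Fintype.sum_bijective (fun x => x * y) (Group.mulRight_bijective y) _ _ fun x => ?_
    rw [mul_inv_rev, map_mul, map_mul, mul_assoc, mul_assoc, mul_assoc, mul_assoc, ← mul_assoc (ρ y), ← map_mul ρ y,
      mul_inv_cancel, map_one, one_mul]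
  obtain ⟨c, hc⟩ := hs F hcomm
  have h1 : LinearMap.trace L N F = (Fintype.card X : L) := by
    rw [hF, map_sum]
    have : ∀ x : X, LinearMap.trace L N (ρ x⁻¹ * f * ρ x) = 1 := by
      intro x
      rw [LinearMap.trace_mul_comm, ← mul_assoc, ← map_mul, mul_inv_cancel, map_one, one_mul, hf]
    rw [Finset.sum_congr rfl (fun x _ => this x), Finset.sum_const, Finset.card_univ, nsmul_eq_mul, mul_one]
  have h3 : ((Fintype.card X : ℕ) : L) = 1 := by
    obtain ⟨m, hm⟩ := hX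
    rw [hm]
    push_cast
    rw [h2, zero_mul, zero_add]
  rw [hc, map_smul, LinearMap.trace_one, smul_eq_mul, h3] at h1
  by_contra hno
  rw [Nat.not_odd_iff_even] at hno
  obtain ⟨m, hm⟩ := hno
  have h4 : ((Module.finrank L N : ℕ) : L) = 0 := by
    rw [hm]
    push_cast
    rw [← two_mul, h2, zero_mul]
  rw [h4, mul_zero] at h1
  exact zero_ne_one h1

end Odd

/-! ### Modules of groups of odd order -/

section Main

variable {Γ Z : Type*} [Group Γ] [AddCommGroup Z] [Finite Z] [DistribMulAction Γ Z]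

omit [Finite Z] in
theorem add_eq_zero_iff' (two : ∀ z : Z, z + z = 0) {a b : Z} : a + b = 0 ↔ a = b := by
  constructor
  · intro e
    exact add_right_cancel (e.trans (two b).symm)
  · rintro rfl
    exact two a

/-- an irreducible module is not half and half over the field of its endomorphisms -/
theorem no_half {L : Type*} [Field L] [Module L Z] (two : ∀ z : Z, z + z = 0) {K : Subgroup Γ}
    (hodd : Odd (Nat.card K)) (hlin : ∀ c : L, ∀ g ∈ K, ∀ z : Z, g • c • z = c • g • z)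
    (hsch : ∀ f : Z →+ Z, (∀ g ∈ K, ∀ z, f (g • z) = g • f z) → ∃ c : L, ∀ z, f z = c • z) {R D : AddSubgroup Z}
    (hR : ∀ c : L, ∀ r ∈ R, c • r ∈ R) (hD : ∀ c : L, ∀ r ∈ D, c • r ∈ D) (hsup : ∀ z, ∃ r ∈ R, ∃ d ∈ D, z = r + d)
    (hinf : ∀ z ∈ R, z ∈ D → z = 0) (hcard : Nat.card R = Nat.card D) (hne : ∃ z : Z, z ≠ 0) : False := by
  obtain ⟨z₀, hz₀⟩ := hne
  have : Nontrivial Z := ⟨z₀, 0, hz₀⟩
  have hKf : Finite K := Nat.finite_of_card_ne_zero (fun e => by rw [e] at hodd; exact Nat.not_odd_zero hodd)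
  have hLf : Finite L := Finite.of_injective (fun c : L => c • z₀) (fun c c' e => by
    have h1 : (c - c') • z₀ = 0 := by rw [sub_smul]; exact sub_eq_zero.2 e
    rcases smul_eq_zero.1 h1 with h2 | h2
    · exact sub_eq_zero.1 h2
    · exact absurd h2 hz₀)
  have : Fintype K := Fintype.ofFinite K
  have h2 : (2 : L) = 0 := by
    have h1 : (2 : L) • z₀ = 0 := by rw [two_smul]; exact two z₀
    rcases smul_eq_zero.1 h1 with h2 | h2
    · exact h2
    · exact absurd h2 hz₀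
  let ρ : K →* Module.End L Z :=
    { toFun := fun g => { toFun := fun z => (g : Γ) • z
                          map_add' := fun x y => smul_add _ x y
                          map_smul' := fun c x => hlin c g g.2 x }
      map_one' := by ext z; show (1 : Γ) • z = z; exact one_smul Γ z
      map_mul' := fun g g' => by ext z; show ((g : Γ) * g') • z = (g : Γ) • (g' : Γ) • z; exact mul_smul _ _ z }
  have hoddf : Odd (Module.finrank L Z) := by
    refine odd_finrank (X := K) h2 (by rwa [← Nat.card_eq_fintype_card]) ρ fun f hf => ?_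
    obtain ⟨c, hc⟩ := hsch f.toAddMonoidHom (fun g hg z => DFunLike.congr_fun (hf ⟨g, hg⟩) z)
    exact ⟨c, by ext z; exact hc z⟩
  let R' : Submodule L Z := { R with smul_mem' := fun c r hr => hR c r hr }
  let D' : Submodule L Z := { D with smul_mem' := fun c r hr => hD c r hr }
  have hcompl : IsCompl R' D' := by
    refine IsCompl.of_eq ?_ ?_
    · rw [eq_bot_iff]
      rintro z ⟨h3, h4⟩
      exact (Submodule.mem_bot L).2 (hinf z h3 h4)
    · rw [eq_top_iff]
      intro z _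
      obtain ⟨r, hr, d, hd, rfl⟩ := hsup z
      exact Submodule.add_mem_sup hr hd
  have h3 := Submodule.finrank_add_eq_of_isCompl hcompl
  have h4 : Nat.card R' = Nat.card D' := hcard
  rw [Module.natCard_eq_pow_finrank (K := L) (V := R'), Module.natCard_eq_pow_finrank (K := L) (V := D')] at h4
  have h5 : 1 < Nat.card L := Finite.one_lt_card
  have h6 := Nat.pow_right_injective h5 h4
  rw [h6] at h3
  rw [← h3] at hoddf
  exact (Nat.not_odd_iff_even.2 ⟨_, rfl⟩) hoddf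

/-- `no_half` for a finite domain -/
theorem no_half_dom {L : Type*} [Ring L] [IsDomain L] [Finite L] [Module L Z] (two : ∀ z : Z, z + z = 0)
    {K : Subgroup Γ} (hodd : Odd (Nat.card K)) (hlin : ∀ c : L, ∀ g ∈ K, ∀ z : Z, g • c • z = c • g • z)
    (hsch : ∀ f : Z →+ Z, (∀ g ∈ K, ∀ z, f (g • z) = g • f z) → ∃ c : L, ∀ z, f z = c • z) {R D : AddSubgroup Z}
    (hR : ∀ c : L, ∀ r ∈ R, c • r ∈ R) (hD : ∀ c : L, ∀ r ∈ D, c • r ∈ D) (hsup : ∀ z, ∃ r ∈ R, ∃ d ∈ D, z = r + d)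
    (hinf : ∀ z ∈ R, z ∈ D → z = 0) (hcard : Nat.card R = Nat.card D) (hne : ∃ z : Z, z ≠ 0) : False := by
  let _ : Field L := (Finite.isDomain_to_isField L).toField
  exact no_half (L := L) two hodd hlin hsch hR hD hsup hinf hcard hne

omit [Finite Z] in
/-- **Maschke** -/
theorem exists_compl (two : ∀ z : Z, z + z = 0) {K : Subgroup Γ} (hodd : Odd (Nat.card K)) {P : AddSubgroup Z}
    (hP : ∀ g ∈ K, ∀ z ∈ P, g • z ∈ P) : ∃ P' : AddSubgroup Z, (∀ g ∈ K, ∀ z ∈ P', g • z ∈ P') ∧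
      (∀ z ∈ P, z ∈ P' → z = 0) ∧ ∀ z, ∃ a ∈ P, ∃ b ∈ P', z = a + b := by
  have hKf : Finite K := Nat.finite_of_card_ne_zero (fun e => by rw [e] at hodd; exact Nat.not_odd_zero hodd)
  have : Fintype K := Fintype.ofFinite K
  have : Fact (Nat.Prime 2) := ⟨Nat.prime_two⟩
  let _ : Module (ZMod 2) Z := AddCommGroup.zmodModule (fun m => by rw [two_nsmul]; exact two m)
  obtain ⟨Q, hQ⟩ := Submodule.exists_isCompl (AddSubgroup.toZModSubmodule 2 P)
  let π : Z →+ Z := (Submodule.subtype _ ∘ₗ Submodule.projectionOnto _ Q hQ).toAddMonoidHom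
  have hπ1 : ∀ z, π z ∈ P := fun z => (Submodule.projectionOnto _ Q hQ z).2
  have hπ2 : ∀ z ∈ P, π z = z := fun z hz => by
    have := Submodule.projectionOnto_apply_left hQ ⟨z, hz⟩
    exact congrArg Subtype.val this
  let F : Z →+ Z := ∑ g : K, ((DistribSMul.toAddMonoidHom Z (g⁻¹ : Γ)).comp π).comp
    (DistribSMul.toAddMonoidHom Z (g : Γ))
  have hFv : ∀ z, F z = ∑ g : K, (g⁻¹ : Γ) • π ((g : Γ) • z) := by
    intro z
    show (∑ g : K, ((DistribSMul.toAddMonoidHom Z (g⁻¹ : Γ)).comp π).comp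
      (DistribSMul.toAddMonoidHom Z (g : Γ))) z = _
    rw [AddMonoidHom.finsetSum_apply]
    rfl
  have hF1 : ∀ z, F z ∈ P := by
    intro z
    rw [hFv]
    exact AddSubgroup.sum_mem _ fun g _ => hP _ (inv_mem g.2) _ (hπ1 _)
  have hF2 : ∀ z ∈ P, F z = z := by
    intro z hz
    rw [hFv]
    have : ∀ g : K, (g⁻¹ : Γ) • π ((g : Γ) • z) = z := fun g => by
      rw [hπ2 _ (hP g g.2 z hz), inv_smul_smul]
    rw [Finset.sum_congr rfl (fun g _ => this g), Finset.sum_const, Finset.card_univ, ← Nat.card_eq_fintype_card]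
    obtain ⟨m, hm⟩ := hodd
    rw [hm, add_nsmul, mul_comm, mul_nsmul, two_nsmul, one_nsmul]
    rw [two, zero_add]
  have hF3 : ∀ g ∈ K, ∀ z, F (g • z) = g • F z := by
    intro g hg z
    rw [hFv, hFv, Finset.smul_sum]
    refine Fintype.sum_bijective (fun x : K => x * ⟨g, hg⟩) (Group.mulRight_bijective _) _ _ fun x => ?_
    show ((x : Γ)⁻¹) • π ((x : Γ) • g • z) = g • (((x * ⟨g, hg⟩ : K) : Γ)⁻¹) • π (((x * ⟨g, hg⟩ : K) : Γ) • z)
    have e1 : ((x * ⟨g, hg⟩ : K) : Γ) = x * g := rfl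
    rw [e1, mul_smul, ← mul_smul g, mul_inv_rev, mul_inv_cancel_left]
  refine ⟨F.ker, fun g hg z hz => ?_, fun z h1 h2 => ?_, fun z => ⟨F z, hF1 z, z - F z, ?_, by abel⟩⟩
  · rw [AddMonoidHom.mem_ker] at hz ⊢
    rw [hF3 g hg, hz, smul_zero]
  · rw [AddMonoidHom.mem_ker, hF2 z h1] at h2
    exact h2
  · rw [AddMonoidHom.mem_ker, map_sub, hF2 _ (hF1 z), sub_self]

/-- an irreducible module of a group of odd order is not the direct sum of two subgroups of the same order which are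
invariant under all its endomorphisms -/
theorem no_half' (two : ∀ z : Z, z + z = 0) {K : Subgroup Γ} (hodd : Odd (Nat.card K))
    (hirr : ∀ P : AddSubgroup Z, (∀ g ∈ K, ∀ z ∈ P, g • z ∈ P) → P = ⊥ ∨ P = ⊤) {R D : AddSubgroup Z}
    (hR : ∀ f : Z →+ Z, (∀ g ∈ K, ∀ z, f (g • z) = g • f z) → ∀ r ∈ R, f r ∈ R)
    (hD : ∀ f : Z →+ Z, (∀ g ∈ K, ∀ z, f (g • z) = g • f z) → ∀ r ∈ D, f r ∈ D)
    (hsup : ∀ z, ∃ r ∈ R, ∃ d ∈ D, z = r + d) (hinf : ∀ z ∈ R, z ∈ D → z = 0) (hcard : Nat.card R = Nat.card D)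
    (hne : ∃ z : Z, z ≠ 0) : False := by
  let L : Subring (AddMonoid.End Z) :=
    Subring.centralizer {f | ∃ g ∈ K, f = (DistribSMul.toAddMonoidHom Z g : AddMonoid.End Z)}
  have hL : ∀ f : AddMonoid.End Z, f ∈ L ↔ ∀ g ∈ K, ∀ z, f (g • z) = g • f z := by
    intro f
    rw [Subring.mem_centralizer_iff]
    constructor
    · intro h g hg z
      exact (DFunLike.congr_fun (h _ ⟨g, hg, rfl⟩) z).symm
    · rintro h _ ⟨g, hg, rfl⟩
      ext z
      exact (h g hg z).symm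
  have hinj : ∀ f ∈ L, f ≠ 0 → ∀ z, f z = 0 → z = 0 := by
    intro f hf hf0 z hz
    have hker : ∀ x, x ∈ AddMonoidHom.ker (show Z →+ Z from f) ↔ f x = 0 := fun x => Iff.rfl
    rcases hirr (AddMonoidHom.ker (show Z →+ Z from f)) (fun g hg z hz => by
      rw [hker] at hz ⊢
      rw [(hL f).1 hf g hg, hz, smul_zero]) with h | h
    · have h1 := (hker z).2 hz
      rw [h] at h1
      exact h1
    · exfalso
      apply hf0
      ext x
      exact (hker x).1 (by rw [h]; trivial)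
  have hfin : Finite (AddMonoid.End Z) := DFunLike.finite _
  have : Finite L := inferInstance
  obtain ⟨z₀, hz₀⟩ := hne
  have : IsDomain L := by
    have h1 : NoZeroDivisors L := ⟨fun {a b} hab => by
      by_contra hcon
      push Not at hcon
      obtain ⟨ha, hb⟩ := hcon
      have h1 : (a : AddMonoid.End Z) ((b : AddMonoid.End Z) z₀) = 0 :=
        DFunLike.congr_fun (congrArg Subtype.val hab) z₀
      exact hz₀ (hinj b b.2 (fun e => hb (Subtype.ext e)) _ (hinj a a.2 (fun e => ha (Subtype.ext e)) _ h1))⟩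
    have h2 : Nontrivial L := ⟨0, 1, fun e => hz₀ (DFunLike.congr_fun (congrArg Subtype.val e) z₀).symm⟩
    exact NoZeroDivisors.to_isDomain L
  refine no_half_dom (L := L) two hodd (fun c g hg z => ((hL c).1 c.2 g hg z).symm)
    (fun f hf => ⟨⟨f, (hL f).2 hf⟩, fun z => rfl⟩) (fun c => hR (c : AddMonoid.End Z) ((hL c).1 c.2))
    (fun c => hD (c : AddMonoid.End Z) ((hL c).1 c.2)) hsup hinf hcard ⟨z₀, hz₀⟩

/-! ### LEMMA W -/

omit [Finite Z] in
/-- a non-zero invariant subgroup contains a fixed vector -/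
theorem exists_fixed (two : ∀ z : Z, z + z = 0) {τ : Γ} (hτ : ∀ z : Z, τ • τ • z = z) {P : AddSubgroup Z}
    (hP : ∀ z ∈ P, τ • z ∈ P) (hne : P ≠ ⊥) : ∃ z ∈ P, z ≠ 0 ∧ τ • z = z := by
  obtain ⟨z, hz, hz0⟩ : ∃ z ∈ P, z ≠ 0 := by
    by_contra hcon
    push Not at hcon
    exact hne ((AddSubgroup.eq_bot_iff_forall P).2 hcon)
  by_cases h : z + τ • z = 0
  · exact ⟨z, hz, hz0, ((add_eq_zero_iff' two).1 h).symm⟩
  · exact ⟨z + τ • z, add_mem hz (hP z hz), h, by rw [smul_add, hτ, add_comm]⟩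

/-- the hypotheses of LEMMA W -/
structure Sit (K T : Subgroup Γ) (τ : Γ) (R D : AddSubgroup Z) : Prop where
  two : ∀ z : Z, z + z = 0
  odd : Odd (Nat.card K)
  le : T ≤ K
  sq : ∀ z : Z, τ • τ • z = z
  tK : ∀ k ∈ K, τ * k * τ⁻¹ ∈ K
  tT : ∀ t ∈ T, τ * t * τ⁻¹ ∈ T
  sup : ∀ z, ∃ r ∈ R, ∃ d ∈ D, z = r + d
  inf : ∀ z ∈ R, z ∈ D → z = 0
  card : Nat.card R = Nat.card D
  memD : ∀ z, z ∈ D ↔ ∀ t ∈ T, t • z = z
  memR : ∀ t ∈ T, ∀ z : Z, t • z - z ∈ R
  tr : ∀ x ∈ R, x ≠ 0 → ∀ y ∈ R, y ≠ 0 → ∃ t ∈ T, t • x = y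
  ne : D ≠ ⊥

namespace Sit

variable {K T : Subgroup Γ} {τ : Γ} {R D : AddSubgroup Z} (h : Sit K T τ R D)
include h

omit [Finite Z] in
theorem finK : Finite K := Nat.finite_of_card_ne_zero (fun e => by
  have := h.odd
  rw [e] at this
  exact Nat.not_odd_zero this)

omit [Finite Z] in
theorem neR : ∃ r ∈ R, r ≠ 0 := by
  by_contra hcon
  push Not at hcon
  have h1 : R = ⊥ := (AddSubgroup.eq_bot_iff_forall R).2 hcon
  have h2 := h.card
  rw [h1, AddSubgroup.card_bot] at h2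
  exact h.ne (AddSubgroup.card_eq_one.1 h2.symm)

omit [Finite Z] in
theorem tR {t : Γ} (ht : t ∈ T) {r : Z} (hr : r ∈ R) : t • r ∈ R := by
  have := add_mem (h.memR t ht r) hr
  rwa [sub_add_cancel] at this

omit [Finite Z] in
/-- a subgroup invariant under `k T k⁻¹` which contains some `(k t k⁻¹) z - z ≠ 0` contains `k R` -/
theorem kR_le {k : Γ} {P : AddSubgroup Z} (hP : ∀ t ∈ T, ∀ z ∈ P, (k * t * k⁻¹) • z ∈ P) {t : Γ} (ht : t ∈ T) {z : Z}
    (hz : z ∈ P) (hne : (k * t * k⁻¹) • z ≠ z) : ∀ r ∈ R, k • r ∈ P := by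
  have hx : (k * t * k⁻¹) • z - z = k • (t • k⁻¹ • z - k⁻¹ • z) := by
    rw [smul_sub, smul_inv_smul, mul_smul, mul_smul]
  have h1 : k • (t • k⁻¹ • z - k⁻¹ • z) ∈ P := by
    rw [← hx]
    exact sub_mem (hP t ht z hz) hz
  have h2 : t • k⁻¹ • z - k⁻¹ • z ≠ 0 := by
    intro e
    rw [e, smul_zero] at hx
    exact hne (sub_eq_zero.1 hx)
  intro r hr
  by_cases hr0 : r = 0
  · rw [hr0, smul_zero]
    exact zero_mem _
  obtain ⟨s, hs, hsr⟩ := h.tr _ (h.memR t ht _) h2 r hr hr0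
  have h3 := hP s hs _ h1
  have e : (k * s * k⁻¹) • k • (t • k⁻¹ • z - k⁻¹ • z) = k • r := by
    rw [← mul_smul (k * s * k⁻¹) k, inv_mul_cancel_right, mul_smul, hsr]
  rwa [e] at h3

omit [Finite Z] in
/-- **(F)** a `T`-invariant subgroup contains `R` or lies in `D` -/
theorem dich {P : AddSubgroup Z} (hP : ∀ t ∈ T, ∀ z ∈ P, t • z ∈ P) : R ≤ P ∨ P ≤ D := by
  by_cases hD : P ≤ D
  · exact Or.inr hD
  left
  obtain ⟨z, hz, hzD⟩ := Set.not_subset.1 hD
  have h1 : ¬ ∀ t ∈ T, t • z = z := fun e => hzD ((h.memD z).2 e)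
  push Not at h1
  obtain ⟨t, ht, hne⟩ := h1
  intro r hr
  have := h.kR_le (k := 1) (P := P) (fun t ht z hz => by rw [one_mul, inv_one, mul_one]; exact hP t ht z hz) ht hz
    (by rw [one_mul, inv_one, mul_one]; exact hne) r hr
  rwa [one_smul] at this

/-- `K_T = ⟨T ^ K⟩` -/
def KT (K T : Subgroup Γ) : Subgroup Γ := Subgroup.closure {g | ∃ k ∈ K, ∃ t ∈ T, g = k * t * k⁻¹}

omit h [Finite Z] in
theorem mem_KT {k t : Γ} (hk : k ∈ K) (ht : t ∈ T) : k * t * k⁻¹ ∈ KT K T := Subgroup.subset_closure ⟨k, hk, t, ht, rfl⟩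

omit h [Finite Z] in
theorem T_le_KT : T ≤ KT K T := fun t ht => by
  have := mem_KT (K := K) (one_mem K) ht
  rwa [one_mul, inv_one, mul_one] at this

omit [Finite Z] in
theorem KT_le : KT K T ≤ K := by
  rw [KT, Subgroup.closure_le]
  rintro _ ⟨k, hk, t, ht, rfl⟩
  exact mul_mem (mul_mem hk (h.le ht)) (inv_mem hk)

omit [Finite Z] in
theorem odd_KT : Odd (Nat.card (KT K T)) := by
  have h1 : Nat.card (KT K T) ∣ Nat.card K := Subgroup.card_dvd_of_le h.KT_le
  exact Odd.of_dvd_nat h.odd h1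

omit h [Finite Z] in
/-- `x KT x⁻¹ ≤ KT` if `x` normalises `K` and `T` -/
theorem conj_KT {x : Γ} (hK : ∀ k ∈ K, ∃ k' ∈ K, ∀ t ∈ T, ∃ t' ∈ T, x * (k * t * k⁻¹) * x⁻¹ = k' * t' * k'⁻¹) {g : Γ}
    (hg : g ∈ KT K T) : x * g * x⁻¹ ∈ KT K T := by
  have h1 : KT K T ≤ (KT K T).comap (MulAut.conj x).toMonoidHom := by
    conv_lhs => rw [KT]
    rw [Subgroup.closure_le]
    rintro _ ⟨k, hk, t, ht, rfl⟩
    obtain ⟨k', hk', h2⟩ := hK k hk
    obtain ⟨t', ht', h3⟩ := h2 t ht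
    show x * (k * t * k⁻¹) * x⁻¹ ∈ KT K T
    rw [h3]
    exact mem_KT hk' ht'
  exact h1 hg

omit h [Finite Z] in
theorem conj_k {x g : Γ} (hx : x ∈ K) (hg : g ∈ KT K T) : x * g * x⁻¹ ∈ KT K T :=
  conj_KT (fun k hk => ⟨x * k, mul_mem hx hk, fun t ht => ⟨t, ht, by group⟩⟩) hg

omit [Finite Z] in
theorem conj_t {g : Γ} (hg : g ∈ KT K T) : τ * g * τ⁻¹ ∈ KT K T :=
  conj_KT (fun k hk => ⟨τ * k * τ⁻¹, h.tK k hk, fun t ht => ⟨τ * t * τ⁻¹, h.tT t ht, by group⟩⟩) hg

omit [Finite Z] in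
/-- the end: an invariant subgroup of `D` -/
theorem fin_of {C : AddSubgroup Z} (hne : C ≠ ⊥) (hle : C ≤ D) (hK : ∀ g ∈ K, ∀ z ∈ C, g • z ∈ C)
    (hτ : ∀ z ∈ C, τ • z ∈ C) {k : Γ} (hk : k ∈ K) : ∃ d ∈ D, d ≠ 0 ∧ (k⁻¹ * τ * k) • d = d := by
  obtain ⟨z, hz, hz0, hfix⟩ := exists_fixed h.two h.sq hτ hne
  refine ⟨k⁻¹ • z, hle (hK _ (inv_mem hk) _ hz), fun e => hz0 ?_, ?_⟩
  · rw [← smul_inv_smul k z, e, smul_zero]
  · rw [mul_smul, smul_inv_smul, mul_smul, hfix]

/-- a `K_T`-complement `N'` of a `K_T`-submodule `N ≥ R` of the least kind is centralised by `K_T` -/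
theorem cent {N N' : AddSubgroup Z} (hRN : R ≤ N) (hN : ∀ g ∈ KT K T, ∀ z ∈ N, g • z ∈ N)
    (hN' : ∀ g ∈ KT K T, ∀ z ∈ N', g • z ∈ N') (hi : ∀ z ∈ N, z ∈ N' → z = 0) (hle : N' ≤ D) :
    ∀ g ∈ KT K T, ∀ z ∈ N', g • z = z := by
  have key : ∀ k ∈ K, ∀ t ∈ T, ∀ z ∈ N', (k * t * k⁻¹) • z = z := by
    intro k hk t ht z hz
    by_contra hne
    have h1 := h.kR_le (k := k) (P := N') (fun t ht z hz => hN' _ (mem_KT hk ht) z hz) ht hz hne
    -- `k R = D = N'`
    have h2 : ∀ d ∈ D, ∃ r ∈ R, d = k • r := by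
      let f : R → D := fun r => ⟨k • (r : Z), hle (h1 r r.2)⟩
      have hf : Function.Injective f := fun a b e => Subtype.ext (smul_left_cancel k (congrArg Subtype.val e))
      have hf' : Function.Surjective f := by
        have : Fintype R := Fintype.ofFinite _
        have : Fintype D := Fintype.ofFinite _
        have hc := h.card
        rw [Nat.card_eq_fintype_card, Nat.card_eq_fintype_card] at hc
        exact ((Fintype.bijective_iff_injective_and_card f).2 ⟨hf, hc⟩).2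
      intro d hd
      obtain ⟨r, hr⟩ := hf' ⟨d, hd⟩
      exact ⟨r, r.2, (congrArg Subtype.val hr).symm⟩
    have h3 : D ≤ N' := by
      intro d hd
      obtain ⟨r, hr, rfl⟩ := h2 d hd
      exact h1 r hr
    have h4 : ∀ g ∈ KT K T, ∀ r ∈ R, g • r ∈ R := by
      intro g hg r hr
      obtain ⟨r', hr', d, hd, e⟩ := h.sup (g • r)
      have h5 : d = g • r - r' := by rw [e]; abel
      have h6 : d = 0 := hi d (by rw [h5]; exact sub_mem (hN g hg r (hRN hr)) (hRN hr')) (h3 hd)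
      rw [e, h6, add_zero]
      exact hr'
    have h5 : ∀ r ∈ R, k⁻¹ • r ∈ D := by
      intro r hr
      rw [h.memD]
      intro s hs
      have h6 : (k * s * k⁻¹) • r - r = k • (s • k⁻¹ • r - k⁻¹ • r) := by
        rw [smul_sub, smul_inv_smul, mul_smul, mul_smul]
      have h7 : (k * s * k⁻¹) • r - r = 0 :=
        h.inf _ (sub_mem (h4 _ (mem_KT hk hs) r hr) hr) (by rw [h6]; exact hle (h1 _ (h.memR s hs _)))
      rw [h6] at h7
      have h8 : s • k⁻¹ • r - k⁻¹ • r = 0 := by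
        rw [← inv_smul_smul k (s • k⁻¹ • r - k⁻¹ • r), h7, smul_zero]
      exact sub_eq_zero.1 h8
    have h6 : ∀ d ∈ D, k⁻¹ • d ∈ R := by
      intro d hd
      obtain ⟨r, hr, rfl⟩ := h2 d hd
      rwa [inv_smul_smul]
    have h7 : ∀ m : ℕ, ∀ r ∈ R, (k⁻¹ ^ (2 * m)) • r ∈ R := by
      intro m
      induction m with
      | zero => intro r hr; rw [mul_zero, pow_zero, one_smul]; exact hr
      | succ m ih =>
        intro r hr
        rw [mul_add, mul_one, pow_add, mul_smul, pow_two, mul_smul]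
        exact ih _ (h6 _ (h5 r hr))
    obtain ⟨r, hr, hr0⟩ := h.neR
    obtain ⟨m, hm⟩ := h.odd
    have := h.finK
    have h8 : k⁻¹ ^ (Nat.card K) = 1 := by
      have h9 : (⟨k⁻¹, inv_mem hk⟩ : K) ^ (Nat.card K) = 1 := pow_card_eq_one'
      exact congrArg Subtype.val h9
    rw [hm, pow_succ] at h8
    have h9 : (k⁻¹ ^ (2 * m) * k⁻¹) • k • r = k • r := by rw [h8, one_smul]
    rw [mul_smul, inv_smul_smul] at h9
    have h10 := h7 m r hr
    rw [h9] at h10
    have h11 : k • r = 0 := h.inf _ h10 (hle (h1 r hr))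
    exact hr0 (by rw [← inv_smul_smul k r, h11, smul_zero])
  intro g hg z hz
  have h1 : KT K T ≤ MulAction.stabilizer Γ z := by
    conv_lhs => rw [KT]
    rw [Subgroup.closure_le]
    rintro _ ⟨k, hk, t, ht, rfl⟩
    exact key k hk t ht z hz
  exact h1 hg

/-- **LEMMA W** (#22009) -/
theorem main {k : Γ} (hk : k ∈ K) : ∃ d ∈ D, d ≠ 0 ∧ (k⁻¹ * τ * k) • d = d := by
  have := h.finK
  let N : AddSubgroup Z := AddSubgroup.closure {z | ∃ g ∈ KT K T, ∃ r ∈ R, z = g • r}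
  have hRN : R ≤ N := fun r hr => AddSubgroup.subset_closure ⟨1, one_mem _, r, hr, (one_smul Γ r).symm⟩
  have hNle : ∀ P : AddSubgroup Z, (∀ g ∈ KT K T, ∀ z ∈ P, g • z ∈ P) → R ≤ P → N ≤ P := by
    intro P hP hRP
    refine (AddSubgroup.closure_le P).2 ?_
    rintro _ ⟨g, hg, r, hr, rfl⟩
    exact hP g hg r (hRP hr)
  have hN : ∀ g ∈ KT K T, ∀ z ∈ N, g • z ∈ N := by
    intro g hg
    have h1 : N ≤ N.comap (DistribSMul.toAddMonoidHom Z g) := by
      refine (AddSubgroup.closure_le _).2 ?_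
      rintro _ ⟨g', hg', r, hr, rfl⟩
      exact AddSubgroup.subset_closure ⟨g * g', mul_mem hg hg', r, hr, (mul_smul g g' r).symm⟩
    exact fun z hz => h1 hz
  have hdich : ∀ P : AddSubgroup Z, (∀ g ∈ KT K T, ∀ z ∈ P, g • z ∈ P) → R ≤ P ∨ P ≤ D := fun P hP =>
    h.dich fun t ht => hP t (T_le_KT ht)
  obtain ⟨r₀, hr₀, hr₀0⟩ := h.neR
  obtain ⟨N', hN', hi, hs⟩ := exists_compl h.two h.odd_KT hN
  have hle : N' ≤ D := by
    rcases hdich N' hN' with h1 | h1
    · exact absurd (hi r₀ (hRN hr₀) (h1 hr₀)) hr₀0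
    · exact h1
  by_cases hbot : N' = ⊥
  · exfalso
    have hNtop : ∀ z, z ∈ N := by
      intro z
      obtain ⟨a, ha, b, hb, rfl⟩ := hs z
      rw [hbot] at hb
      rw [(AddSubgroup.mem_bot).1 hb, add_zero]
      exact ha
    refine no_half' (K := KT K T) (R := R) (D := D) h.two h.odd_KT ?_ ?_ ?_ h.sup h.inf h.card ⟨r₀, hr₀0⟩
    · intro P hP
      rcases hdich P hP with h1 | h1
      · right
        exact eq_top_iff.2 fun z _ => hNle P hP h1 (hNtop z)
      · left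
        obtain ⟨P', hP', hi', hs'⟩ := exists_compl h.two h.odd_KT hP
        rcases hdich P' hP' with h2 | h2
        · rw [AddSubgroup.eq_bot_iff_forall]
          exact fun z hz => hi' z hz (hNle P' hP' h2 (hNtop z))
        · obtain ⟨a, ha, b, hb, e⟩ := hs' r₀
          exact absurd (h.inf r₀ hr₀ (by rw [e]; exact add_mem (h1 ha) (h2 hb))) hr₀0
    · intro f hf r hr
      by_cases hr0 : r = 0
      · rw [hr0, map_zero]
        exact zero_mem _
      have h1 : ¬ ∀ t ∈ T, t • r = r := fun e => hr0 (h.inf r hr ((h.memD r).2 e))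
      push Not at h1
      obtain ⟨t, ht, hne⟩ := h1
      obtain ⟨s, hs, hsr⟩ := h.tr (t • r - r) (h.memR t ht r) (fun e => hne (sub_eq_zero.1 e)) r hr hr0
      have h2 : f r = s • (t • f r - f r) := by
        conv_lhs => rw [← hsr]
        rw [hf s (T_le_KT hs), map_sub, hf t (T_le_KT ht)]
      rw [h2]
      exact h.tR hs (h.memR t ht _)
    · intro f hf d hd
      rw [h.memD] at hd ⊢
      intro t ht
      rw [← hf t (T_le_KT ht), hd t ht]
  · -- `K_T` centralises `N'`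
    have hc := h.cent hRN hN hN' hi hle
    let C : AddSubgroup Z :=
      { carrier := {z | ∀ g ∈ KT K T, g • z = z}
        zero_mem' := fun g _ => smul_zero g
        add_mem' := fun {a b} ha hb g hg => by rw [smul_add, ha g hg, hb g hg]
        neg_mem' := fun {a} ha g hg => by rw [smul_neg, ha g hg] }
    have hNC : N' ≤ C := fun z hz g hg => hc g hg z hz
    refine h.fin_of (C := C) (fun e => hbot (by rw [eq_bot_iff, ← e]; exact hNC))
      (fun z hz => (h.memD z).2 fun t ht => hz t (T_le_KT ht)) ?_ ?_ hk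
    · intro g hg z hz x hx
      have h1 := hz (g⁻¹ * x * g⁻¹⁻¹) (conj_k (inv_mem hg) hx)
      have e : x • g • z = g • (g⁻¹ * x * g⁻¹⁻¹) • z := by
        rw [inv_inv, mul_smul, mul_smul, smul_inv_smul]
      rw [e, h1]
    · intro z hz x hx
      have hfin : Finite (KT K T) := Finite.of_injective (Subgroup.inclusion h.KT_le) (Subgroup.inclusion_injective _)
      let f : KT K T → KT K T := fun g => ⟨τ * g * τ⁻¹, h.conj_t g.2⟩
      have hf : Function.Injective f := fun a b e => Subtype.ext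
        (mul_left_cancel (mul_right_cancel (congrArg Subtype.val e)))
      obtain ⟨y, hy⟩ := (Finite.injective_iff_surjective.1 hf) ⟨x, hx⟩
      have h1 : τ * y * τ⁻¹ = x := congrArg Subtype.val hy
      have e : x • τ • z = τ • (y : Γ) • z := by
        rw [← h1, mul_smul, inv_smul_smul, mul_smul]
      rw [e, hz y y.2]

end Sit

/-- **LEMMA W**, the form announced in OMEGA -/
theorem exists_fix (two : ∀ z : Z, z + z = 0) {K T : Subgroup Γ} (hodd : Odd (Nat.card K)) (hTK : T ≤ K) {τ : Γ}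
    (hτ : ∀ z : Z, τ • τ • z = z) (hτK : ∀ k ∈ K, τ * k * τ⁻¹ ∈ K) (hτT : ∀ t ∈ T, τ * t * τ⁻¹ ∈ T)
    {R D : AddSubgroup Z} (hsup : ∀ z, ∃ r ∈ R, ∃ d ∈ D, z = r + d) (hinf : ∀ z ∈ R, z ∈ D → z = 0)
    (hcard : Nat.card R = Nat.card D) (hD : ∀ z, z ∈ D ↔ ∀ t ∈ T, t • z = z) (hR : ∀ t ∈ T, ∀ z : Z, t • z - z ∈ R)
    (htr : ∀ x ∈ R, x ≠ 0 → ∀ y ∈ R, y ≠ 0 → ∃ t ∈ T, t • x = y) (h1 : D ≠ ⊥) {k : Γ} (hk : k ∈ K) :
    ∃ d ∈ D, d ≠ 0 ∧ (k⁻¹ * τ * k) • d = d :=
  Sit.main (K := K) (T := T) (R := R)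
    ⟨two, hodd, hTK, hτ, hτK, hτT, hsup, hinf, hcard, hD, hR, htr, h1⟩ hk

end Main

end Cfsg.Agent.Omega.NOThreeL.LemW
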