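import Cfsg.Agent.Omega.NOThreeL.RSplit.FrameOf

/-!
# NO-3L, box R, `q > 2`, split (helper797 #19602 (7)(a), helper602's REPAIR 1): many axes

If two points `e`, `p` with `Vv e` centralising `p` are always equal (MANY), then the axes (in `A`) with centre
`d • R j` meet, inside `U`, in `d • R j`.
-/

set_option autoImplicit false

namespace Cfsg.Agent.Omega.NOThreeL.RSplit.ManyAx

open scoped Pointwise
open Cfsg.Agent.Omega.NOThreeL.ThmAx (Full IsAx TT YY Adj mem_smul smul_eq_of YY_smul YY_smul_eq adj_smul IsAx.smul)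
open Cfsg.Agent.Omega.NOThreeL.RSplit.Root (Rt)
open Cfsg.Agent.Omega.NOThreeL.RSplit.Hull (Comp hull mem_of_fix)
open Cfsg.Agent.Omega.NOThreeL.RSplit.FrameOf
open Cfsg.Agent.Omega.NOThreeL.RBig.Pts (Frame Mv OneAx Out not_mv)

variable {H M : Type*} [Group H] [AddCommGroup M] [DistribMulAction H M]
variable {ι : Type*} {T : ι → Subgroup H} {Ax R : ι → AddSubgroup M} {A : Set (AddSubgroup M)}
  {N : Subgroup H} {U : AddSubgroup M}

/-- MANY. -/
def Many (T : ι → Subgroup H) (Ax R : ι → AddSubgroup M) (A : Set (AddSubgroup M)) (U : AddSubgroup M) : Prop :=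
  ∀ e ∈ Ptt H Ax R A U, ∀ p ∈ Ptt H Ax R A U, ¬ Mv (Vv T Ax R A U) e p → e = p

theorem eq_of_sub (C : Comp T Ax R A N U) {c d : H} {i j : ι} (hc : c • Ax i ∈ A) (hd : d • Ax j ∈ A)
    (h : (c • R i).addSubgroupOf U = (d • R j).addSubgroupOf U) : c • R i = d • R j := by
  have h1 := AddSubgroup.addSubgroupOf_inj.1 h
  rwa [inf_eq_left.2 (C.root c i hc), inf_eq_left.2 (C.root d j hd)] at h1

/-- **MANY : a vector of `U` fixed by all root groups with centre `d • R j` lies in `d • R j`.** -/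
theorem mem_of_fix_all [Finite M] (C : Comp T Ax R A N U) (hN : N = ⨆ g ∈ A, TT T Ax g)
    (free : ∀ i, ∀ t ∈ T i, ∀ u : M, u ∉ Ax i → t • u = u → ∀ m : M, t • m = m)
    (hM : Many T Ax R A U) {d : H} {j : ι} (hd : d • Ax j ∈ A) {u : M} (hu : u ∈ U)
    (h : ∀ (c : H) (i : ι), c • Ax i ∈ A → c • R i = d • R j → ∀ t ∈ T i, (c * t * c⁻¹) • u = u) : u ∈ d • R j := by
  by_cases hu0 : u = 0
  · rw [hu0]
    exact zero_mem _
  have F := frame C ⟨_, hd⟩ hN free
  obtain ⟨n, hn, hnd, hx⟩ := C.exists_root hd hu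
  set e : AddSubgroup ↥U := (d • R j).addSubgroupOf U with hedef
  set p : AddSubgroup ↥U := ((n * d) • R j).addSubgroupOf U with hpdef
  have he : e ∈ Ptt H Ax R A U := ⟨d, j, hd, rfl⟩
  have hp : p ∈ Ptt H Ax R A U := ⟨n * d, j, hnd, rfl⟩
  -- `Vv e` fixes `u`
  have hfix : ∀ v ∈ Vv T Ax R A U e, v • (⟨u, hu⟩ : ↥U) = ⟨u, hu⟩ := by
    intro v hv
    refine Subgroup.closure_induction (p := fun v _ => v • (⟨u, hu⟩ : ↥U) = ⟨u, hu⟩) ?_ (one_smul _ _)
      (fun a b _ _ ha hb => by rw [mul_smul, hb, ha]) (fun a _ ha => by rw [inv_smul_eq_iff, ha]) hv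
    rintro a ⟨k, c, i, hc, hce, t, ht, hk, rfl⟩
    apply Subtype.ext
    rw [act_smul, hk]
    exact h c i hc (eq_of_sub C hc hd hce) t ht
  have hmv : ¬ Mv (Vv T Ax R A U) e p := by
    intro hmv
    have hpe := F.symm he hp hmv
    obtain ⟨v, hv, x, hx', hne⟩ := hmv
    rcases F.bij e he p hp hpe v hv with h2 | h2
    · exact hne (h2 x hx')
    · have h3 := h2 ⟨u, hu⟩ hx (hfix v hv)
      exact hu0 (congrArg Subtype.val h3)
  have h2 := hM e he p hp hmv
  have h3 : (⟨u, hu⟩ : ↥U) ∈ p := hx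
  rw [← h2] at h3
  exact h3

/-- **MANY : the axes with centre `d • R j` meet, inside `U`, in `d • R j`.** -/
theorem mem_of_mem_axes [Finite M] (C : Comp T Ax R A N U) (hN : N = ⨆ g ∈ A, TT T Ax g)
    (free : ∀ i, ∀ t ∈ T i, ∀ u : M, u ∉ Ax i → t • u = u → ∀ m : M, t • m = m)
    (hM : Many T Ax R A U) {d : H} {j : ι} (hd : d • Ax j ∈ A) {u : M} (hu : u ∈ U)
    (h : ∀ (c : H) (i : ι), c • Ax i ∈ A → c • R i = d • R j → u ∈ c • Ax i) : u ∈ d • R j := by
  refine mem_of_fix_all C hN free hM hd hu fun c i hc hcd t ht => ?_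
  have h2 := mem_smul.1 (h c i hc hcd)
  rw [mul_smul, mul_smul, C.fix i t ht _ h2, smul_inv_smul]

/-- The dichotomy, with `Many`. -/
theorem many_or [Finite M] (C : Comp T Ax R A N U) (hA : A.Nonempty) (hN : N = ⨆ g ∈ A, TT T Ax g)
    (free : ∀ i, ∀ t ∈ T i, ∀ u : M, u ∉ Ax i → t • u = u → ∀ m : M, t • m = m) :
    Many T Ax R A U ∨ (OneAx (Ptt H Ax R A U) (Vv T Ax R A U) ∧
        ∀ e ∈ Ptt H Ax R A U, Out (Ptt H Ax R A U) (Vv T Ax R A U) e) :=
  dichotomy C hA hN free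

end Cfsg.Agent.Omega.NOThreeL.RSplit.ManyAx
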