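import Cfsg.Agent.Omega.NOThreeL.RSplit.FrameOf

/-!
# NO-3L, box R, `q > 2`, split (helper797 #19602 (7)(b), with helper602's REPAIR 2): (Q) for `k ≥ 1`, abstract

* `Frame.fixe_of` : one axis; if `B` is quadratic, normalised by `VV e`, fixes `e` and one `0 ≠ x ∈ e`, then `B` fixes
  `e` pointwise;
* `comp_quad` : one component; every `b ∈ B` acts on `U` as an element of `T i`;
* `QK.fixU` : `B` fixes all the `U i`; **`QK.main`** : every `b ∈ B` acts on `M` as an element of `⨆ i, T i`.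
-/

set_option autoImplicit false

namespace Cfsg.Agent.Omega.NOThreeL.RSplit.QuadAll

open scoped Pointwise
open Cfsg.Agent.Omega.NOThreeL.ThmAx (Full IsAx TT YY Adj mem_smul smul_eq_of YY_smul YY_smul_eq adj_smul IsAx.smul)
open Cfsg.Agent.Omega.NOThreeL.RSplit.Root (Rt)
open Cfsg.Agent.Omega.NOThreeL.RSplit.Hull (Comp hull mem_of_fix)
open Cfsg.Agent.Omega.NOThreeL.RSplit.FrameOf
open Cfsg.Agent.Omega.NOThreeL.RBig.Pts (Frame Mv OneAx Out dd dd_apply Quad not_mv)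

section frame

variable {Γ M : Type*} [Group Γ] [AddCommGroup M] [DistribMulAction Γ M]
variable {X : Subgroup Γ} {Pt : Set (AddSubgroup M)} {VV : AddSubgroup M → Subgroup Γ} {e : AddSubgroup M}

/-- `B` centralises `e` (REPAIR 2). -/
theorem fixe_of (F : Frame X Pt VV) [Finite M] (h1 : OneAx Pt VV) (he : e ∈ Pt) {B : Subgroup Γ} (hB : B ≤ X)
    (quad : ∀ b ∈ B, ∀ b' ∈ B, ∀ m : M, b • (b' • m + m) = b' • m + m)
    (norm : ∀ a ∈ VV e, ∀ b ∈ B, a * b * a⁻¹ ∈ B) (hfix : ∀ b ∈ B, b • e = e) {x : M} (hx : x ∈ e)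
    (hx0 : x ≠ 0) (hbx : ∀ b ∈ B, b • x = x) : ∀ b ∈ B, ∀ y ∈ e, b • y = y := by
  intro b hb y hy
  obtain ⟨s, hs, hes⟩ := F.exists_mv he
  by_cases hc : ∀ v ∈ VV e, b * v * b⁻¹ = v
  · obtain ⟨v0, hv0, hv01⟩ := F.exists_ne_one he
    obtain ⟨u, hu, hvu⟩ := F.surj h1 he hs hes hv0 hv01 x hx
    have h2 : ¬ ∀ a ∈ VV e, a • u = u := fun h => hx0 (by rw [← hvu, F.dd_eq_zero_iff]; exact h v0 hv0)
    obtain ⟨vy, hvy, hvyu⟩ := ((F.dich h1 he u).resolve_left h2).1 y hy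
    have hcomm : ∀ v ∈ VV e, dd v (b • u) = b • dd v u := by
      intro v hv
      have h3 : b * v = v * b := mul_inv_eq_iff_eq_mul.1 (hc v hv)
      rw [dd_apply, dd_apply, smul_add, ← mul_smul, ← mul_smul, h3]
    have h4 : v0 • (u + b • u) = u + b • u := by
      rw [← F.dd_eq_zero_iff, map_add, hcomm v0 hv0, hvu, hbx b hb, F.two]
    have h5 := F.fix_all h1 he hv0 hv01 h4 vy hvy
    rw [← F.dd_eq_zero_iff, map_add, hcomm vy hvy] at h5
    have h6 : dd vy u = y := by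
      rw [dd_apply, hvyu, add_comm u y, add_assoc, F.two, add_zero]
    rw [h6] at h5
    exact (F.eq_of_add h5).symm
  · push Not at hc
    obtain ⟨v, hv, hne⟩ := hc
    have hc1 : v * (b * v⁻¹ * b⁻¹) ∈ VV e := by
      refine mul_mem hv ?_
      have := F.conj b (hB hb) e he v⁻¹ (inv_mem hv)
      rwa [hfix b hb] at this
    have hc2 : v * (b * v⁻¹ * b⁻¹) ∈ B := by
      have h2 : v * (b * v⁻¹ * b⁻¹) = (v * b * v⁻¹) * b⁻¹ := by group
      rw [h2]
      exact mul_mem (norm v hv b hb) (inv_mem hb)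
    have hc3 : v * (b * v⁻¹ * b⁻¹) ≠ 1 := by
      intro h
      apply hne
      have h2 := mul_eq_one_iff_inv_eq.1 h
      have h3 := congrArg (fun w => w⁻¹) h2
      simp only [inv_inv, mul_inv_rev] at h3
      rw [← mul_assoc] at h3
      exact h3.symm
    obtain ⟨u, hu, hcu⟩ := F.surj h1 he hs hes hc1 hc3 y hy
    rw [← hcu, dd_apply]
    exact quad b hb _ hc2 u

end frame

variable {H M : Type*} [Group H] [AddCommGroup M] [DistribMulAction H M]

section comp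

variable {ι : Type*} {T : ι → Subgroup H} {Ax R : ι → AddSubgroup M} {A : Set (AddSubgroup M)}
  {N : Subgroup H} {U : AddSubgroup M}

/-- Some vector of `U` is outside of `Ax i`. -/
theorem exists_not_mem [Finite M] (C : Comp T Ax R A N U) {i : ι} (hi : Ax i ∈ A) : ∃ u ∈ U, u ∉ Ax i := by
  obtain ⟨r, hr, hr0⟩ := (AddSubgroup.bot_or_exists_ne_zero (R i)).resolve_left (C.rne i)
  have h1 : (1 : H) • Ax i ∈ A := by rwa [one_smul]
  have hrU : r ∈ U := C.root 1 i h1 (by rwa [one_smul])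
  obtain ⟨g, hg, hrg⟩ := C.sep r hrU hr0
  have h2 : Adj H Ax R (Ax i) g := fun h => hrg (h (Rt.R_le_YY i hr))
  have h3 := C.adj_symm (Rt.isAx Ax i) (C.isax g hg) h2
  by_contra hcon
  push Not at hcon
  apply h3
  unfold YY
  rw [AddSubgroup.closure_le]
  rintro m ⟨c, j, hgj, y, hy, rfl⟩
  refine hcon _ (C.root c j (by rw [hgj]; exact hg) (AddSubgroup.smul_mem_pointwise_smul _ _ _ hy))

/-- **One component.** -/
theorem comp_quad [Finite M] (C : Comp T Ax R A N U) {i : ι} (hi : Ax i ∈ A) (hN : N = ⨆ g ∈ A, TT T Ax g)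
    (free : ∀ i, ∀ t ∈ T i, ∀ u : M, u ∉ Ax i → t • u = u → ∀ m : M, t • m = m)
    (one : OneAx (Ptt H Ax R A U) (Vv T Ax R A U)) {B : Subgroup H} (hB : B ≤ St H A U)
    (quad : ∀ b ∈ B, ∀ b' ∈ B, ∀ m : M, b • (b' • m + m) = b' • m + m)
    (norm : ∀ (c : H) (j : ι), c • Ax j ∈ A → (∀ t ∈ T j, ∀ x ∈ R i, (c * t * c⁻¹) • x = x) →
      ∀ t ∈ T j, ∀ b ∈ B, c * t * c⁻¹ * b * (c * t * c⁻¹)⁻¹ ∈ B)
    {z : M} (hz : z ∈ R i) (hz0 : z ≠ 0) (hbz : ∀ b ∈ B, b • z = z) :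
    ∀ b ∈ B, ∃ t ∈ T i, ∀ m ∈ U, b • m = t • m := by
  have F := frame C ⟨_, hi⟩ hN free
  have h1i : (1 : H) • Ax i ∈ A := by rwa [one_smul]
  set e : AddSubgroup ↥U := (R i).addSubgroupOf U with hedef
  have he : e ∈ Ptt H Ax R A U := ⟨1, i, h1i, by rw [one_smul]⟩
  have hRU : R i ≤ U := by
    have := C.root 1 i h1i
    rwa [one_smul] at this
  set B' : Subgroup (Gm U) := (B.subgroupOf (St H A U)).map (act A U) with hB'
  have hmem : ∀ b' ∈ B', ∃ k : ↥(St H A U), (k : H) ∈ B ∧ act A U k = b' := by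
    rintro b' ⟨k, hk, rfl⟩
    exact ⟨k, hk, rfl⟩
  have hquad' : ∀ b ∈ B', ∀ b' ∈ B', ∀ m : ↥U, b • (b' • m + m) = b' • m + m := by
    intro b hb b' hb' m
    obtain ⟨k, hk, rfl⟩ := hmem b hb
    obtain ⟨k', hk', rfl⟩ := hmem b' hb'
    exact Subtype.ext (quad _ hk _ hk' m)
  have hnorm' : ∀ t ∈ Ptt H Ax R A U, ¬ Mv (Vv T Ax R A U) t e → ∀ a ∈ Vv T Ax R A U t, ∀ b ∈ B',
      a * b * a⁻¹ ∈ B' := by
    intro t ht hte a ha
    have key : Vv T Ax R A U t ≤ Subgroup.normalizer (B' : Set (Gm U)) := by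
      refine (Subgroup.closure_le _).2 ?_
      rintro a ⟨h, c, j, hc, hct, t', ht', hh, rfl⟩
      -- the root group `c T_j c⁻¹` fixes `R i`
      have hfixR : ∀ t ∈ T j, ∀ x ∈ R i, (c * t * c⁻¹) • x = x := by
        intro t1 ht1 x hx
        have h3 : c * t1 * c⁻¹ ∈ St H A U := st_of_mem C (gen_mem hN.ge hc ht1)
        have h4 := not_mv hte (v := act A U ⟨c * t1 * c⁻¹, h3⟩)
          (Subgroup.subset_closure ⟨⟨c * t1 * c⁻¹, h3⟩, c, j, hc, hct, t1, ht1, rfl, rfl⟩)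
          (x := ⟨x, hRU hx⟩) hx
        exact congrArg Subtype.val h4
      have h5 := norm c j hc hfixR
      have key1 : ∀ t1 ∈ T j, ∀ (k : ↥(St H A U)), (k : H) = c * t1 * c⁻¹ → ∀ b' ∈ B',
          act A U k * b' * (act A U k)⁻¹ ∈ B' := by
        intro t1 ht1 k hk b' hb'
        obtain ⟨k', hk', rfl⟩ := hmem b' hb'
        refine ⟨k * k' * k⁻¹, ?_, by rw [map_mul, map_mul, map_inv]⟩
        change ((k * k' * k⁻¹ : ↥(St H A U)) : H) ∈ B
        have h6 := h5 t1 ht1 k' hk'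
        rw [← hk] at h6
        exact h6
      rw [SetLike.mem_coe, Subgroup.mem_normalizer_iff]
      intro b'
      refine ⟨fun hb' => key1 t' ht' h hh b' hb', fun hb' => ?_⟩
      have h7 := key1 t'⁻¹ (inv_mem ht') h⁻¹ (by rw [Subgroup.coe_inv, hh]; group) _ hb'
      rw [map_inv] at h7
      convert h7 using 1
      group
    exact fun b hb => (Subgroup.mem_normalizer_iff.1 (key ha) b).1 hb
  have hle' : B' ≤ Xx H A U := by
    intro b hb
    obtain ⟨k, -, rfl⟩ := hmem b hb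
    exact ⟨k, rfl⟩
  have hfixe : ∀ b ∈ B', b • e = e := by
    intro b hb
    obtain ⟨k, hk, rfl⟩ := hmem b hb
    rw [hedef, act_smul_sub]
    have h2 : (k : H) • Ax i ∈ A := k.2.1.1 _ hi
    have h3 : (k : H) • R i = (1 : H) • R i := by
      refine C.root_eq h2 h1i (x := z) ?_ (by rwa [one_smul]) hz0
      rw [mem_smul, show (k : H)⁻¹ • z = z from hbz _ (inv_mem hk)]
      exact hz
    rw [h3, one_smul]
  have Q : Quad (Xx H A U) (Ptt H Ax R A U) (Vv T Ax R A U) e B' :=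
    { le := hle'
      quad := hquad'
      norm := hnorm'
      fixe := by
        refine fixe_of F one he hle' hquad' (hnorm' e he (F.mv_irrefl he)) hfixe (x := ⟨z, hRU hz⟩) hz ?_ ?_
        · exact fun h => hz0 (congrArg Subtype.val h)
        · intro b hb
          obtain ⟨k, hk, rfl⟩ := hmem b hb
          exact Subtype.ext (hbz _ hk) }
  intro b hb
  have hbS := hB hb
  have hbB' : act A U ⟨b, hbS⟩ ∈ B' := ⟨⟨b, hbS⟩, hb, rfl⟩
  obtain ⟨v, hv, hvb⟩ := Q.main (F.out one he) F he hbB'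
  -- `v` is the image of an element of `T i`
  obtain ⟨u, hu, hui⟩ := exists_not_mem C hi
  have h2 : dd v (⟨u, hu⟩ : ↥U) ∈ e := F.dd_mem he hv _
  obtain ⟨t, ht, htu⟩ := C.full i u hui _ h2
  have h3 : (1 : H) * t * (1 : H)⁻¹ ∈ St H A U := st_of_mem C (gen_mem hN.ge h1i ht)
  have h4 : t ∈ St H A U := by simpa using h3
  have h5 : act A U ⟨t, h4⟩ ∈ Vv T Ax R A U e :=
    Subgroup.subset_closure ⟨⟨t, h4⟩, 1, i, h1i, by rw [one_smul], t, ht, by simp, rfl⟩
  have h6 : act A U ⟨t, h4⟩ • (⟨u, hu⟩ : ↥U) = v • (⟨u, hu⟩ : ↥U) := by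
    rw [F.smul_eq v]
    exact Subtype.ext htu
  have h7 : ((act A U ⟨t, h4⟩)⁻¹ * v) • (⟨u, hu⟩ : ↥U) = ⟨u, hu⟩ := by
    rw [mul_smul, ← h6, inv_smul_smul]
  have h8 : (act A U ⟨t, h4⟩)⁻¹ * v = 1 := by
    rcases F.dich one he (⟨u, hu⟩ : ↥U) with h9 | h9
    · exfalso
      obtain ⟨r, hr, hr0⟩ := (AddSubgroup.bot_or_exists_ne_zero (R i)).resolve_left (C.rne i)
      obtain ⟨t1, ht1, htu1⟩ := C.full i u hui r hr
      have h3' : (1 : H) * t1 * (1 : H)⁻¹ ∈ St H A U := st_of_mem C (gen_mem hN.ge h1i ht1)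
      have h4' : t1 ∈ St H A U := by simpa using h3'
      have h10 := h9 (act A U ⟨t1, h4'⟩)
        (Subgroup.subset_closure ⟨⟨t1, h4'⟩, 1, i, h1i, by rw [one_smul], t1, ht1, by simp, rfl⟩)
      have h11 : t1 • u = u := congrArg Subtype.val h10
      rw [htu1] at h11
      exact hr0 (add_eq_left.1 h11)
    · exact h9.2 _ (mul_mem (inv_mem h5) hv) h7
  have h9 : v = act A U ⟨t, h4⟩ := (inv_mul_eq_one.1 h8).symm
  refine ⟨t, ht, fun m hm => ?_⟩
  have h10 := hvb ⟨m, hm⟩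
  rw [h9] at h10
  exact congrArg Subtype.val h10

end comp

/-- The data of (Q) for `k ≥ 1`. -/
structure QK {ι : Type*} (T : ι → Subgroup H) (Ax R : ι → AddSubgroup M) (A : ι → Set (AddSubgroup M))
    (N : ι → Subgroup H) (U : ι → AddSubgroup M) (I : AddSubgroup M) (z : ι → M) (B : Subgroup H) : Prop where
  comp : ∀ i, Comp T Ax R (A i) (N i) (U i)
  ax : ∀ i, Ax i ∈ A i
  gen : ∀ i, N i = ⨆ g ∈ A i, TT T Ax g
  free : ∀ i, ∀ t ∈ T i, ∀ u : M, u ∉ Ax i → t • u = u → ∀ m : M, t • m = m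
  one : ∀ i, OneAx (Ptt H Ax R (A i) (U i)) (Vv T Ax R (A i) (U i))
  fixU : ∀ i, ∀ t ∈ T i, ∀ j, j ≠ i → ∀ u ∈ U j, t • u = u
  fixI : ∀ i, ∀ t ∈ T i, ∀ u ∈ I, t • u = u
  disj : ∀ i j, i ≠ j → U i ⊓ U j = ⊥
  span : (⨆ i, U i) ⊔ I = ⊤
  quad : ∀ b ∈ B, ∀ b' ∈ B, ∀ m : M, b • (b' • m + m) = b' • m + m
  perm : ∀ b ∈ B, ∀ i, ∃ j, b • U i = U j
  permA : ∀ b ∈ B, ∀ i, b • U i = U i → ∀ g ∈ A i, b • g ∈ A i
  norm : ∀ (i : ι) (c : H) (j : ι), c • Ax j ∈ A i → (∀ t ∈ T j, ∀ x ∈ R i, (c * t * c⁻¹) • x = x) →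
    ∀ t ∈ T j, ∀ b ∈ B, c * t * c⁻¹ * b * (c * t * c⁻¹)⁻¹ ∈ B
  zR : ∀ i, z i ∈ R i
  z0 : ∀ i, z i ≠ 0
  bz : ∀ b ∈ B, ∀ i, b • U i = U i → b • z i = z i
  bI : ∀ b ∈ B, ∀ u ∈ I, b • u = u

namespace QK

variable {ι : Type*} {T : ι → Subgroup H} {Ax R : ι → AddSubgroup M} {A : ι → Set (AddSubgroup M)}
  {N : ι → Subgroup H} {U : ι → AddSubgroup M} {I : AddSubgroup M} {z : ι → M} {B : Subgroup H}
  (Q : QK T Ax R A N U I z B)
include Q

theorem two (i : ι) (m : M) : m + m = 0 := (Q.comp i).char2 m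

theorem sq (i : ι) {b : H} (hb : b ∈ B) (m : M) : b • b • m = m := by
  have h1 := Q.quad b hb b hb m
  rw [smul_add] at h1
  have h2 : b • b • m + b • m + b • m = b • m + m + b • m := by rw [h1]
  rw [add_assoc, Q.two i, add_zero, add_comm (b • m) m, add_assoc, Q.two i, add_zero] at h2
  exact h2

theorem inv_smul (i : ι) {b : H} (hb : b ∈ B) (m : M) : b⁻¹ • m = b • m := by
  rw [inv_smul_eq_iff, Q.sq i hb]

theorem R_le (i : ι) : R i ≤ U i := by
  have := (Q.comp i).root 1 i (by rw [one_smul]; exact Q.ax i)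
  rwa [one_smul] at this

theorem norm_self (i : ι) {t : H} (ht : t ∈ T i) {b : H} (hb : b ∈ B) : t * b * t⁻¹ ∈ B := by
  have h1 := Q.norm i 1 i (by rw [one_smul]; exact Q.ax i) (fun t ht x hx => by
    rw [one_mul, inv_one, mul_one]
    exact (Q.comp i).fix i t ht x ((Q.comp i).le i i hx)) t ht b hb
  simpa using h1

variable [Finite M]

/-- `B` fixes all the `U i`. -/
theorem fix_U {b : H} (hb : b ∈ B) (i : ι) : b • U i = U i := by
  obtain ⟨j, hj⟩ := Q.perm b hb i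
  by_cases hij : j = i
  · rwa [hij] at hj
  exfalso
  have C := Q.comp i
  obtain ⟨u, hu, hui⟩ := exists_not_mem C (Q.ax i)
  obtain ⟨r, hr, hr0⟩ := (AddSubgroup.bot_or_exists_ne_zero (R i)).resolve_left (C.rne i)
  obtain ⟨c, hc, hcu⟩ := C.full i u hui r hr
  have hrU : r ∈ U i := Q.R_le i hr
  have hcr : c • r = r := C.fix i c hc r (C.le i i hr)
  -- the commutator `d = (b c b⁻¹) c⁻¹`
  have hd : b * (c * b⁻¹ * c⁻¹) ∈ B := mul_mem hb (Q.norm_self i hc (inv_mem hb))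
  have h1 := Q.quad _ hd b hb u
  have hbu : b • u ∈ U j := by rw [← hj]; exact AddSubgroup.smul_mem_pointwise_smul _ _ _ hu
  have hbr : b • r ∈ U j := by rw [← hj]; exact AddSubgroup.smul_mem_pointwise_smul _ _ _ hrU
  have hcfix : ∀ m ∈ U j, c • m = m := fun m hm => Q.fixU i c hc j hij m hm
  have hcinv : ∀ m ∈ U j, c⁻¹ • m = m := fun m hm => by rw [inv_smul_eq_iff, hcfix m hm]
  have hcu' : c⁻¹ • u = u + r := by
    rw [inv_smul_eq_iff, smul_add, hcu, hcr, add_assoc, Q.two i, add_zero]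
  have h2 : (b * (c * b⁻¹ * c⁻¹)) • (b • u + u) = b • u + b • r + (u + r) := by
    rw [mul_smul, mul_smul, mul_smul, smul_add c⁻¹, hcinv _ hbu, hcu', Q.inv_smul i hb, smul_add b, Q.sq i hb,
      smul_add b, smul_add c, smul_add c, hcu, hcfix _ hbu, hcfix _ hbr, smul_add b, smul_add b, smul_add b,
      Q.sq i hb, Q.sq i hb]
  rw [h2] at h1
  have h3 : b • r + r = 0 := by
    have h4 : b • u + b • r + (u + r) = b • u + u + (b • r + r) := by abel
    rw [h4] at h1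
    exact add_eq_left.1 h1
  have h5 : b • r = r := by
    have h6 : b • r + r = r + r := by rw [h3, Q.two i]
    exact add_right_cancel h6
  have h7 : r ∈ U i ⊓ U j := ⟨hrU, by rw [h5] at hbr; exact hbr⟩
  rw [Q.disj i j (Ne.symm hij)] at h7
  exact hr0 h7

/-- **(Q)** : every `b ∈ B` acts on `M` as an element of `⨆ i, T i`. -/
theorem main [Finite ι] {b : H} (hb : b ∈ B) : ∃ v ∈ ⨆ i, T i, ∀ m : M, b • m = v • m := by
  classical
  have := Fintype.ofFinite ι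
  have h1 : ∀ i, ∃ t ∈ T i, ∀ m ∈ U i, b • m = t • m := by
    intro i
    have hSt : B ≤ St H (A i) (U i) := by
      intro b' hb'
      have h2 := Q.fix_U hb' i
      have h3 := Q.fix_U (inv_mem hb') i
      refine ⟨⟨Q.permA b' hb' i h2, Q.permA _ (inv_mem hb') i h3⟩, fun u hu => ?_, fun u hu => ?_⟩
      · rw [← h2]
        exact AddSubgroup.smul_mem_pointwise_smul _ _ _ hu
      · rw [← h3]
        exact AddSubgroup.smul_mem_pointwise_smul _ _ _ hu
    exact comp_quad (Q.comp i) (Q.ax i) (Q.gen i) Q.free (Q.one i) hSt Q.quad (Q.norm i) (Q.zR i) (Q.z0 i)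
      (fun b' hb' => Q.bz b' hb' i (Q.fix_U hb' i)) b hb
  choose t ht htb using h1
  have key : ∀ s : Finset ι, ∃ v ∈ ⨆ i, T i, (∀ i ∈ s, ∀ m ∈ U i, v • m = t i • m) ∧
      (∀ i, i ∉ s → ∀ m ∈ U i, v • m = m) ∧ ∀ m ∈ I, v • m = m := by
    intro s
    induction s using Finset.induction_on with
    | empty =>
      exact ⟨1, one_mem _, fun i hi => absurd hi (Finset.notMem_empty i), fun i _ m _ => one_smul _ m,
        fun m _ => one_smul _ m⟩
    | insert j s hj ih =>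
      obtain ⟨v, hv, h2, h3, h4⟩ := ih
      refine ⟨v * t j, mul_mem hv (Subgroup.mem_iSup_of_mem j (ht j)), ?_, ?_, ?_⟩
      · intro i hi m hm
        rcases Finset.mem_insert.1 hi with rfl | hi'
        · rw [mul_smul]
          refine h3 i hj _ ?_
          rw [← htb i m hm]
          have h5 := Q.fix_U hb i
          rw [← h5]
          exact AddSubgroup.smul_mem_pointwise_smul _ _ _ hm
        · have hij : i ≠ j := fun h => hj (h ▸ hi')
          rw [mul_smul, Q.fixU j _ (ht j) i hij m hm, h2 i hi' m hm]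
      · intro i hi m hm
        rw [Finset.mem_insert, not_or] at hi
        rw [mul_smul, Q.fixU j _ (ht j) i hi.1 m hm, h3 i hi.2 m hm]
      · intro m hm
        rw [mul_smul, Q.fixI j _ (ht j) m hm, h4 m hm]
  obtain ⟨v, hv, h2, -, h4⟩ := key Finset.univ
  refine ⟨v, hv, ?_⟩
  let E : AddSubgroup M :=
    { carrier := {m | b • m = v • m}
      zero_mem' := by simp
      add_mem' := fun {a c} ha hc => by
        change b • (a + c) = v • (a + c)
        rw [smul_add, smul_add, ha, hc]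
      neg_mem' := fun {a} ha => by
        change b • (-a) = v • (-a)
        rw [smul_neg, smul_neg, ha] }
  have hE : (⨆ i, U i) ⊔ I ≤ E := by
    refine sup_le (iSup_le fun i m hm => ?_) fun m hm => ?_
    · change b • m = v • m
      rw [htb i m hm, h2 i (Finset.mem_univ i) m hm]
    · change b • m = v • m
      rw [Q.bI b hb m hm, h4 m hm]
  rw [Q.span] at hE
  exact fun m => hE (AddSubgroup.mem_top m)

end QK

end Cfsg.Agent.Omega.NOThreeL.RSplit.QuadAll
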