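import Cfsg.Agent.Omega.NOThreeL.RSplit.Five
import Cfsg.Agent.Omega.NOThreeL.RSplit.QuadAll
import Cfsg.Agent.Omega.NOThreeL.RSplit.ManyAx

/-!
# NO-3L, box R, `q > 2`, split (helper797 #19602 (7)): the dichotomy and (Q) over 683's `Fv`

* `VG T Ax R A P` : the group generated (in `H`) by the root groups `c T_i c⁻¹` with axis in `A` and centre `P`;
  `mem_Vv_iff`, `OneG`, `oneAx_iff`, `OneG.smul`;
* **`many_or_one`** : all components have MANY axes (`Many`), or all have ONE axis (`OneAx`);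
* **`qk_of`**, **`quad_main`** : (Q) for `B ≤ C_H(z₀) ∩ C(I)` normalised by this group, quadratic.
-/

set_option autoImplicit false

namespace Cfsg.Agent.Omega.NOThreeL.RSplit.QuadFv

open scoped Pointwise
open Cfsg.Agent.Omega.NOThreeL.ThmAx (Full IsAx TT YY Adj mem_smul smul_eq_of YY_smul YY_smul_eq adj_smul IsAx.smul)
open Cfsg.Agent.Omega.NOThreeL.RSplit.Root (Rt Ex)
open Cfsg.Agent.Omega.NOThreeL.RSplit.Hull (Comp hull mem_of_fix)
open Cfsg.Agent.Omega.NOThreeL.RSplit.FrameOf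
open Cfsg.Agent.Omega.NOThreeL.RSplit.ManyAx (Many eq_of_sub many_or)
open Cfsg.Agent.Omega.NOThreeL.RSplit.QuadAll (QK)
open Cfsg.Agent.Omega.NOThreeL.RSplit.Five
open Cfsg.Agent.Omega.NOThreeL.RBig.Pts (OneAx Mv)

variable {H M : Type*} [Group H] [AddCommGroup M] [DistribMulAction H M]
variable {ι : Type*}

section VG

/-- The group generated by the root groups with axis in `A` and centre `P`. -/
def VG (T : ι → Subgroup H) (Ax R : ι → AddSubgroup M) (A : Set (AddSubgroup M)) (P : AddSubgroup M) : Subgroup H :=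
  Subgroup.closure {h | ∃ (c : H) (i : ι), c • Ax i ∈ A ∧ c • R i = P ∧ ∃ t ∈ T i, h = c * t * c⁻¹}

/-- ONE AXIS, in the group. -/
def OneG (T : ι → Subgroup H) (Ax R : ι → AddSubgroup M) (A : Set (AddSubgroup M)) (U : AddSubgroup M) : Prop :=
  ∀ (c : H) (i : ι) (d : H) (j : ι), c • Ax i ∈ A → d • Ax j ∈ A →
    (∃ v ∈ VG T Ax R A (c • R i), ∃ x ∈ d • R j, v • x ≠ x) →
    ∀ v ∈ VG T Ax R A (c • R i), (∀ x ∈ d • R j, v • x = x) → ∀ m ∈ U, v • m = m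

variable {T : ι → Subgroup H} {Ax R : ι → AddSubgroup M} {A A' : Set (AddSubgroup M)}
  {N : Subgroup H} {U U' : AddSubgroup M}

theorem VG_le (C : Comp T Ax R A N U) (hN : N = ⨆ g ∈ A, TT T Ax g) (P : AddSubgroup M) :
    VG T Ax R A P ≤ St H A U := by
  refine (Subgroup.closure_le _).2 ?_
  rintro h ⟨c, i, hc, -, t, ht, rfl⟩
  exact st_of_mem C (gen_mem hN.ge hc ht)

theorem mem_Vv_iff (C : Comp T Ax R A N U) (hN : N = ⨆ g ∈ A, TT T Ax g) {d : H} {j : ι} (hd : d • Ax j ∈ A)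
    {v : Gm U} : v ∈ Vv T Ax R A U ((d • R j).addSubgroupOf U) ↔
      ∃ k : ↥(St H A U), (k : H) ∈ VG T Ax R A (d • R j) ∧ act A U k = v := by
  constructor
  · intro hv
    have h1 : Vv T Ax R A U ((d • R j).addSubgroupOf U) ≤
        ((VG T Ax R A (d • R j)).subgroupOf (St H A U)).map (act A U) := by
      refine (Subgroup.closure_le _).2 ?_
      rintro a ⟨h, c, i, hc, hce, t, ht, hh, rfl⟩
      exact ⟨h, Subgroup.subset_closure ⟨c, i, hc, eq_of_sub C hc hd hce, t, ht, hh⟩, rfl⟩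
    obtain ⟨k, hk, hkv⟩ := h1 hv
    exact ⟨k, hk, hkv⟩
  · rintro ⟨k, hk, rfl⟩
    have h1 : VG T Ax R A (d • R j) ≤
        ((Vv T Ax R A U ((d • R j).addSubgroupOf U)).comap (act A U)).map (St H A U).subtype := by
      refine (Subgroup.closure_le _).2 ?_
      rintro h ⟨c, i, hc, hce, t, ht, rfl⟩
      have h3 : c * t * c⁻¹ ∈ St H A U := st_of_mem C (gen_mem hN.ge hc ht)
      exact ⟨⟨c * t * c⁻¹, h3⟩, Subgroup.subset_closure ⟨_, c, i, hc, by rw [hce], t, ht, rfl, rfl⟩, rfl⟩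
    obtain ⟨k', hk', hkk⟩ := h1 hk
    have : k' = k := Subtype.ext hkk
    rw [← this]
    exact hk'

theorem oneAx_iff (C : Comp T Ax R A N U) (hN : N = ⨆ g ∈ A, TT T Ax g) :
    OneAx (Ptt H Ax R A U) (Vv T Ax R A U) ↔ OneG T Ax R A U := by
  constructor
  · rintro h c i d j hc hd ⟨v, hv, x, hx, hne⟩ w hw hfix m hm
    have hvS := VG_le C hN _ hv
    have hwS := VG_le C hN _ hw
    have h1 := h _ ⟨c, i, hc, rfl⟩ _ ⟨d, j, hd, rfl⟩
      ⟨act A U ⟨v, hvS⟩, (mem_Vv_iff C hN hc).2 ⟨⟨v, hvS⟩, hv, rfl⟩, ⟨x, C.root d j hd hx⟩, hx,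
        fun h2 => hne (congrArg Subtype.val h2)⟩
      (act A U ⟨w, hwS⟩) ((mem_Vv_iff C hN hc).2 ⟨⟨w, hwS⟩, hw, rfl⟩)
      (fun y hy => Subtype.ext (hfix y hy))
    have h2 : act A U ⟨w, hwS⟩ • (⟨m, hm⟩ : ↥U) = ⟨m, hm⟩ := by rw [h1, one_smul]
    exact congrArg Subtype.val h2
  · rintro h p ⟨c, i, hc, rfl⟩ r ⟨d, j, hd, rfl⟩ ⟨v, hv, x, hx, hne⟩ w hw hfix
    obtain ⟨k, hk, rfl⟩ := (mem_Vv_iff C hN hc).1 hv
    obtain ⟨l, hl, rfl⟩ := (mem_Vv_iff C hN hc).1 hw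
    have h1 := h c i d j hc hd ⟨k, hk, x, hx, fun h2 => hne (Subtype.ext h2)⟩ l hl
      (fun y hy => congrArg Subtype.val (hfix ⟨y, C.root d j hd hy⟩ hy))
    exact gm_ext fun m => by rw [one_smul]; exact Subtype.ext (h1 m m.2)

theorem VG_smul (x : H) (hA : ∀ g, g ∈ A' ↔ x⁻¹ • g ∈ A) {P : AddSubgroup M} {v : H}
    (hv : v ∈ VG T Ax R A' (x • P)) : x⁻¹ * v * x ∈ VG T Ax R A P := by
  have h1 : VG T Ax R A' (x • P) ≤ (VG T Ax R A P).comap (MulAut.conj x⁻¹).toMonoidHom := by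
    refine (Subgroup.closure_le _).2 ?_
    rintro h ⟨c, i, hc, hce, t, ht, rfl⟩
    refine Subgroup.subset_closure ⟨x⁻¹ * c, i, ?_, ?_, t, ht, ?_⟩
    · rw [mul_smul]
      exact (hA _).1 hc
    · rw [mul_smul, hce, inv_smul_smul]
    · change x⁻¹ * (c * t * c⁻¹) * x⁻¹⁻¹ = _
      group
  have h2 : x⁻¹ * v * x⁻¹⁻¹ ∈ VG T Ax R A P := h1 hv
  rwa [inv_inv] at h2

theorem OneG.smul (h : OneG T Ax R A U) (x : H) (hA : ∀ g, g ∈ A' ↔ x⁻¹ • g ∈ A) (hU : ∀ m ∈ U', x⁻¹ • m ∈ U) :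
    OneG T Ax R A' U' := by
  rintro c i d j hc hd ⟨v, hv, y, hy, hne⟩ w hw hfix m hm
  have e1 : c • R i = x • ((x⁻¹ * c) • R i) := by rw [mul_smul, smul_inv_smul]
  rw [e1] at hv hw
  have hv' := VG_smul x hA hv
  have hw' := VG_smul x hA hw
  have hc' : (x⁻¹ * c) • Ax i ∈ A := by rw [mul_smul]; exact (hA _).1 hc
  have hd' : (x⁻¹ * d) • Ax j ∈ A := by rw [mul_smul]; exact (hA _).1 hd
  have h1 := h _ i _ j hc' hd' ⟨_, hv', x⁻¹ • y, ?_, ?_⟩ _ hw' ?_ (x⁻¹ • m) (hU m hm)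
  · rw [mul_smul, mul_smul, smul_inv_smul] at h1
    exact smul_left_cancel _ h1
  · rw [mul_smul]
    exact AddSubgroup.smul_mem_pointwise_smul _ _ _ hy
  · rw [mul_smul, mul_smul, smul_inv_smul]
    exact fun h2 => hne (smul_left_cancel _ h2)
  · intro y' hy'
    rw [mul_smul, mem_smul, inv_inv] at hy'
    rw [mul_smul, mul_smul, hfix _ hy', inv_smul_smul]

end VG

section fv

variable [Fintype ι] [Finite H] [Finite M] {T : ι → Subgroup H} {Ax R : ι → AddSubgroup M} {z : ι → M} {Z : Set M}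
  (D : Fv T Ax R z Z)
include D

theorem uc_disj {i j : ι} (hij : i ≠ j) : Uc H Ax R i ⊓ Uc H Ax R j = ⊥ := by
  rw [eq_bot_iff]
  rintro u ⟨hi, hj⟩
  by_contra h0
  obtain ⟨g, hg, hu⟩ := (D.comp i).sep u hi h0
  exact hu (D.Uc_le hij hg hj)

theorem uc_inj {i j : ι} (h : Uc H Ax R i = Uc H Ax R j) : i = j := by
  by_contra hij
  have h1 := uc_disj D hij
  rw [← h, inf_idem] at h1
  exact (D.comp i).rne i (le_bot_iff.1 ((D.R_le_Uc i).trans h1.le))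

/-- `H` permutes the components. -/
theorem smul_cpt (x : H) (i : ι) : ∃ j, x • Uc H Ax R i = Uc H Ax R j ∧
    ∀ g, g ∈ Cpt H Ax R j ↔ x⁻¹ • g ∈ Cpt H Ax R i := by
  obtain ⟨j, hj⟩ := D.cover (IsAx.smul (Rt.isAx Ax i) x)
  have h1 : ∀ g, g ∈ Cpt H Ax R j ↔ x⁻¹ • g ∈ Cpt H Ax R i := by
    intro g
    rw [← D.Cpt_eq hj, D.axSys.smul_Cp]
    rfl
  refine ⟨j, ?_, h1⟩
  obtain ⟨l, hl⟩ := D.smul_Uc x i
  rw [hl]
  by_contra hne
  have hlj : j ≠ l := fun h => hne (by rw [h])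
  -- `x • R i ≤ U_l ∩ U_j`
  have h2 : x • R i ≤ Uc H Ax R j := (D.comp j).root x i hj
  have h3 : x • R i ≤ Uc H Ax R l := by
    rw [← hl]
    intro m hm
    rw [mem_smul] at hm ⊢
    exact D.R_le_Uc i hm
  have h4 : x • R i ≤ ⊥ := by
    rw [← uc_disj D hlj]
    exact le_inf h2 h3
  obtain ⟨r, hr, hr0⟩ := (AddSubgroup.bot_or_exists_ne_zero (R i)).resolve_left ((D.comp i).rne i)
  have h5 := h4 (AddSubgroup.smul_mem_pointwise_smul _ x _ hr)
  exact hr0 ((smul_eq_zero_iff_eq x).1 (AddSubgroup.mem_bot.1 h5))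

/-- ONE AXIS for one component: for all. -/
theorem one_all {i : ι} (h : OneG T Ax R (Cpt H Ax R i) (Uc H Ax R i)) (j : ι) :
    OneG T Ax R (Cpt H Ax R j) (Uc H Ax R j) := by
  obtain ⟨x, hx⟩ := D.trans i j
  obtain ⟨l, hl, h1⟩ := smul_cpt D x i
  have hlj : l = j := by
    refine eq_of_mem_Cpt D.toEx ((h1 _).2 ?_)
    rw [← hx, inv_smul_smul]
    exact Fv.self_mem i
  subst hlj
  refine h.smul x h1 fun m hm => ?_
  rw [← hl, mem_smul] at hm
  exact hm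

/-- **All components have many axes, or all have one axis.** -/
theorem many_or_one (free : ∀ i, ∀ t ∈ T i, ∀ u : M, u ∉ Ax i → t • u = u → ∀ m : M, t • m = m) :
    (∀ i, Many T Ax R (Cpt H Ax R i) (Uc H Ax R i)) ∨
      (∀ i, OneAx (Ptt H Ax R (Cpt H Ax R i) (Uc H Ax R i)) (Vv T Ax R (Cpt H Ax R i) (Uc H Ax R i))) := by
  by_cases h : ∃ i, OneAx (Ptt H Ax R (Cpt H Ax R i) (Uc H Ax R i)) (Vv T Ax R (Cpt H Ax R i) (Uc H Ax R i))
  · obtain ⟨i, hi⟩ := h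
    refine Or.inr fun j => ?_
    rw [oneAx_iff (D.comp j) rfl]
    rw [oneAx_iff (D.comp i) rfl] at hi
    exact one_all D hi j
  · push Not at h
    exact Or.inl fun i => (many_or (D.comp i) ⟨_, Fv.self_mem i⟩ rfl free).resolve_right fun h1 => h i h1.1

/-- An element fixing `∑ z i` and `U_i` fixes `z i`. -/
theorem fix_comp {x : H} (hx : x • ∑ i, z i = ∑ i, z i) {i : ι} (hi : x • Uc H Ax R i = Uc H Ax R i) :
    x • z i = z i := by
  classical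
  by_contra hne
  have h0 : x • z i - z i ≠ 0 := fun h => hne (sub_eq_zero.1 h)
  have hzi : ∀ j, z j ∈ Uc H Ax R j := fun j => D.R_le_Uc j (D.zR j)
  have h1 : x • z i - z i ∈ Uc H Ax R i := by
    refine sub_mem ?_ (hzi i)
    rw [← hi]
    exact AddSubgroup.smul_mem_pointwise_smul _ _ _ (hzi i)
  obtain ⟨g, hg, hgx⟩ := (D.comp i).sep _ h1 h0
  apply hgx
  rw [← Finset.add_sum_erase Finset.univ z (Finset.mem_univ i), smul_add] at hx
  have h2 : x • z i - z i = (∑ j ∈ Finset.univ.erase i, z j) - x • ∑ j ∈ Finset.univ.erase i, z j := by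
    rw [sub_eq_sub_iff_add_eq_add, hx, add_comm]
  rw [h2]
  refine sub_mem (sum_mem fun j hj => ?_) ?_
  · rw [Finset.mem_erase] at hj
    exact D.Uc_le (Ne.symm hj.1) hg (hzi j)
  · rw [Finset.smul_sum]
    refine sum_mem fun j hj => ?_
    rw [Finset.mem_erase] at hj
    obtain ⟨l, hl⟩ := D.smul_Uc x j
    have hli : i ≠ l := by
      rintro rfl
      apply hj.1
      refine uc_inj D ?_
      rw [← hi] at hl
      exact smul_left_cancel x hl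
    refine D.Uc_le hli hg ?_
    rw [← hl]
    exact AddSubgroup.smul_mem_pointwise_smul _ _ _ (hzi j)

/-- **The data `QK` of (Q).** -/
theorem qk_of (free : ∀ i, ∀ t ∈ T i, ∀ u : M, u ∉ Ax i → t • u = u → ∀ m : M, t • m = m)
    (one : ∀ i, OneAx (Ptt H Ax R (Cpt H Ax R i) (Uc H Ax R i)) (Vv T Ax R (Cpt H Ax R i) (Uc H Ax R i)))
    {B : Subgroup H} (hBz : ∀ b ∈ B, b • ∑ i, z i = ∑ i, z i) (hBI : ∀ b ∈ B, ∀ u ∈ Ic H Ax, b • u = u)
    (hBC : ∀ h : H, h • ∑ i, z i = ∑ i, z i → (∀ u ∈ Ic H Ax, h • u = u) → ∀ b ∈ B, h * b * h⁻¹ ∈ B)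
    (quad : ∀ b ∈ B, ∀ b' ∈ B, ∀ m : M, b • (b' • m + m) = b' • m + m) :
    QK T Ax R (Cpt H Ax R) (Nc T Ax R) (Uc H Ax R) (Ic H Ax) z B where
  comp := D.comp
  ax := fun i => Fv.self_mem i
  gen := fun i => rfl
  free := free
  one := one
  fixU := fun i t ht j hj u hu => D.fix i t ht u (D.Uc_le (Ne.symm hj) (Fv.self_mem i) hu)
  fixI := fun i t ht u hu => D.fix i t ht u (hu _ (Rt.isAx Ax i))
  disj := fun i j hij => uc_disj D hij
  span := D.span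
  quad := quad
  perm := fun b _ i => D.smul_Uc b i
  permA := fun b _ i hi g hg => by
    obtain ⟨j, hj, h2⟩ := smul_cpt D b i
    have h3 : i = j := uc_inj D (by rw [← hj, hi])
    rw [h3] at hg ⊢
    rw [h3] at h2
    rw [h2, inv_smul_smul]
    exact hg
  norm := by
    classical
    intro i c j hc hfix t ht b hb
    have hfg : ∀ u ∈ c • Ax j, (c * t * c⁻¹) • u = u := fun u hu =>
      D.toRt.TT_fix (Subgroup.subset_closure ⟨c, j, rfl, t, ht, rfl⟩) hu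
    refine hBC _ ?_ (fun u hu => hfg u (hu _ ⟨c, j, rfl⟩)) b hb
    rw [Finset.smul_sum]
    refine Finset.sum_congr rfl fun l _ => ?_
    by_cases hl : l = i
    · subst hl
      exact hfix t ht _ (D.zR l)
    · exact hfg _ (D.Uc_le (Ne.symm hl) hc (D.R_le_Uc l (D.zR l)))
  zR := D.zR
  z0 := D.z0
  bz := fun b hb i hi => fix_comp D (hBz b hb) hi
  bI := hBI

/-- **(Q)** : `B ≤ C := C_H(z₀) ∩ C_H(I)`, normalised by `C`, quadratic, ONE AXIS: every `b ∈ B` acts on `M` as an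
element of `⨆ i, T i`. -/
theorem quad_main (free : ∀ i, ∀ t ∈ T i, ∀ u : M, u ∉ Ax i → t • u = u → ∀ m : M, t • m = m)
    (one : ∀ i, OneAx (Ptt H Ax R (Cpt H Ax R i) (Uc H Ax R i)) (Vv T Ax R (Cpt H Ax R i) (Uc H Ax R i)))
    {B : Subgroup H} (hBz : ∀ b ∈ B, b • ∑ i, z i = ∑ i, z i) (hBI : ∀ b ∈ B, ∀ u ∈ Ic H Ax, b • u = u)
    (hBC : ∀ h : H, h • ∑ i, z i = ∑ i, z i → (∀ u ∈ Ic H Ax, h • u = u) → ∀ b ∈ B, h * b * h⁻¹ ∈ B)
    (quad : ∀ b ∈ B, ∀ b' ∈ B, ∀ m : M, b • (b' • m + m) = b' • m + m) {b : H} (hb : b ∈ B) :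
    ∃ v ∈ ⨆ i, T i, ∀ m : M, b • m = v • m :=
  (qk_of D free one hBz hBI hBC quad).main hb

end fv

end Cfsg.Agent.Omega.NOThreeL.RSplit.QuadFv
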