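import Cfsg.Agent.Omega.NOThreeL.RBig.Quad

/-!
# NO-3L, box R, case (A), `q > 2`, split (#19602, helper797; repair 2 of helper602), (7)(b): (Q) for all `k`

* `QuadZ` : as `Pts.Quad`, but every `b ∈ B` is only known to fix ONE non-zero vector of `e`; `QuadZ.quad` : then `B`
  centralises `e` (one axis), so `Pts.Quad.main` applies (`QuadZ.main`);
* `Rp U g h` : `g : Γ` acts on `U` as `h : H`;
* `One` : the data of one component `U` (a `Frame` on `↥U` and its `Out`);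
* `Blk` : the decomposition `M = I + ⨁ U i`; `Blk.stab` : `B` fixes all `U i`;
* **`Blk.main`** : every `b ∈ B` acts on `M` as an element of `⨆ i, T i`.
-/

set_option autoImplicit false
set_option linter.unusedSectionVars false

namespace Cfsg.Agent.Omega.NOThreeL.RSplit.QuadK

open Subgroup
open scoped Pointwise
open Cfsg.Agent.Omega.NOThreeL.RBig.Pts

section Z

variable {Γ M : Type*} [Group Γ] [AddCommGroup M] [DistribMulAction Γ M]
variable {X B : Subgroup Γ} {Pt : Set (AddSubgroup M)} {VV : AddSubgroup M → Subgroup Γ} {e : AddSubgroup M}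

/-- as `Quad`, with one fixed vector of `e` only -/
structure QuadZ (X : Subgroup Γ) (Pt : Set (AddSubgroup M)) (VV : AddSubgroup M → Subgroup Γ) (e : AddSubgroup M)
    (B : Subgroup Γ) : Prop where
  le : B ≤ X
  quad : ∀ b ∈ B, ∀ b' ∈ B, ∀ m : M, b • (b' • m + m) = b' • m + m
  norm : ∀ t ∈ Pt, ¬ Mv VV t e → ∀ a ∈ VV t, ∀ b ∈ B, a * b * a⁻¹ ∈ B
  fixz : ∀ b ∈ B, ∃ z ∈ e, z ≠ 0 ∧ b • z = z

namespace QuadZ

variable (Q : QuadZ X Pt VV e B) (O : Out Pt VV e) (F : Frame X Pt VV)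
include Q O F

/-- `B` fixes `e`. -/
theorem fix_e (he : e ∈ Pt) {b : Γ} (hb : b ∈ B) : b • e = e := by
  obtain ⟨z, hz, hz0, hbz⟩ := Q.fixz b hb
  by_contra hne
  have h1 := O.disj _ (F.inv b (Q.le hb) e he) e he hne
  have h2 : z ∈ b • e ⊓ e := AddSubgroup.mem_inf.2 ⟨by rw [← hbz]; exact mem_smul hz, hz⟩
  rw [h1] at h2
  exact hz0 (AddSubgroup.mem_bot.1 h2)

theorem exists_pt (he : e ∈ Pt) : ∃ r ∈ Pt, Mv VV e r ∧ r ≠ ⊥ := by
  obtain ⟨r, hr, h⟩ := F.exists_mv he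
  exact ⟨r, hr, h, F.ne r hr⟩

/-- **`B` centralises `e`** -/
theorem fixe [Finite M] (he : e ∈ Pt) {b : Γ} (hb : b ∈ B) {y : M} (hy : y ∈ e) : b • y = y := by
  obtain ⟨r, hr, hmv⟩ := F.exists_mv he
  by_cases hc : ∀ a ∈ VV e, a * b * a⁻¹ * b⁻¹ = 1
  · -- `b` commutes with `VV e`
    obtain ⟨z, hz, hz0, hbz⟩ := Q.fixz b hb
    obtain ⟨a, ha, x, hx, hne⟩ := id hmv
    have hxY : x ∉ Yx VV e := fun h => hne (h a ha)
    -- `z = dd a₁ x`, `y = dd a₂ x`
    obtain ⟨a₁, ha₁, h1⟩ := (O.reg F he hxY).1 z hz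
    obtain ⟨a₂, ha₂, h2⟩ := (O.reg F he hxY).1 y hy
    have e1 : dd a₁ x = z := by
      rw [F.smul_eq a₁ x] at h1
      exact add_left_cancel h1
    have e2 : dd a₂ x = y := by
      rw [F.smul_eq a₂ x] at h2
      exact add_left_cancel h2
    have hcomm : ∀ {a : Γ}, a ∈ VV e → ∀ m : M, b • dd a m = dd a (b • m) := by
      intro a ha m
      have h3 : a * b = b * a := by
        have h4 := hc a ha
        rw [mul_inv_eq_one, mul_inv_eq_iff_eq_mul] at h4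
        exact h4
      rw [dd_apply, dd_apply, smul_add, ← mul_smul, ← mul_smul, h3]
    have h3 : dd a₁ (b • x + x) = 0 := by
      rw [map_add, ← hcomm ha₁, e1, hbz, F.two]
    have h4 : b • x + x ∈ Yx VV e := by
      by_contra h5
      refine hz0 ?_
      have h6 := (O.reg F he h5).2 a₁ ha₁ ((F.dd_eq_zero_iff _ _).1 h3)
      rw [← e1, h6, F.dd_eq_zero_iff, one_smul]
    have h5 : dd a₂ (b • x + x) = 0 := (F.dd_eq_zero_iff _ _).2 (h4 a₂ ha₂)
    rw [map_add, ← hcomm ha₂, e2] at h5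
    have h6 := eq_neg_of_add_eq_zero_left h5
    rwa [neg_eq_of_add_eq_zero_left (F.two y)] at h6
  · push Not at hc
    obtain ⟨a, ha, hne⟩ := hc
    have hc1 : a * b * a⁻¹ * b⁻¹ ∈ B :=
      mul_mem (Q.norm e he (F.not_mv_self he) a ha b hb) (inv_mem hb)
    have hc2 : a * b * a⁻¹ * b⁻¹ ∈ VV e := by
      have h1 := F.conj b (Q.le hb) e he a⁻¹ (inv_mem ha)
      rw [Q.fix_e O F he hb] at h1
      have h2 := mul_mem ha h1
      have e1 : a * (b * a⁻¹ * b⁻¹) = a * b * a⁻¹ * b⁻¹ := by group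
      rwa [e1] at h2
    -- `dd c` maps `r` onto `e`
    have hinj : Function.Injective
        (fun y : ↥r => (⟨dd (a * b * a⁻¹ * b⁻¹) (y : M), F.dd_mem he hc2 _⟩ : ↥e)) := by
      intro y y' h
      have h2 : dd (a * b * a⁻¹ * b⁻¹) (y : M) = dd (a * b * a⁻¹ * b⁻¹) (y' : M) := congrArg Subtype.val h
      by_contra h3
      have h4 : (y : M) - y' ≠ 0 := fun h5 => h3 (Subtype.ext (sub_eq_zero.1 h5))
      refine hne (O.eq_one F he hr hmv hc2 (sub_mem y.2 y'.2) h4 ?_)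
      rw [← F.dd_eq_zero_iff, map_sub, h2, sub_self]
    have hbij := hinj.bijective_of_nat_card_le (F.card_eq he hr).le
    obtain ⟨x, hx⟩ := hbij.2 ⟨y, hy⟩
    have h3 : dd (a * b * a⁻¹ * b⁻¹) (x : M) = y := congrArg Subtype.val hx
    rw [← h3, dd_apply]
    exact Q.quad b hb _ hc1 x

theorem toQuad [Finite M] (he : e ∈ Pt) : Quad X Pt VV e B where
  le := Q.le
  quad := Q.quad
  norm := Q.norm
  fixe := fun _ hb _ hx => Q.fixe O F he hb hx

/-- **(Q) for one component** -/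
theorem main [Finite M] (he : e ∈ Pt) {b : Γ} (hb : b ∈ B) : ∃ v ∈ VV e, ∀ m : M, b • m = v • m :=
  (Q.toQuad O F he).main O F he hb

end QuadZ

end Z

section K

variable {H M : Type*} [Group H] [AddCommGroup M] [DistribMulAction H M]

/-- `g` acts on `U` as `h`. -/
def Rp {Γ : Type*} [Group Γ] (U : AddSubgroup M) [DistribMulAction Γ ↥U] (g : Γ) (h : H) : Prop :=
  ∀ u : ↥U, ((g • u : ↥U) : M) = h • (u : M)

namespace Rp

variable {Γ : Type*} [Group Γ] {U : AddSubgroup M} [DistribMulAction Γ ↥U]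

theorem one : Rp U (1 : Γ) (1 : H) := fun u => by rw [one_smul, one_smul]

theorem mul {g g' : Γ} {h h' : H} (p : Rp U g h) (p' : Rp U g' h') : Rp U (g * g') (h * h') := fun u => by
  rw [mul_smul, mul_smul, p, p']

theorem inv {g : Γ} {h : H} (p : Rp U g h) : Rp U g⁻¹ h⁻¹ := fun u => by
  rw [eq_inv_smul_iff, ← p, smul_inv_smul]

theorem mem {g : Γ} {h : H} (p : Rp U g h) {u : M} (hu : u ∈ U) : h • u ∈ U := by
  have h1 := p ⟨u, hu⟩
  rw [← h1]
  exact (g • (⟨u, hu⟩ : ↥U)).2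

end Rp

/-- The group `{g ∈ X | g acts as an element of B}`. -/
def imB {Γ : Type*} [Group Γ] (U : AddSubgroup M) [DistribMulAction Γ ↥U] (X : Subgroup Γ) (B : Subgroup H) :
    Subgroup Γ where
  carrier := {g | g ∈ X ∧ ∃ b ∈ B, Rp U g b}
  one_mem' := ⟨one_mem _, 1, one_mem _, Rp.one⟩
  mul_mem' := fun {g g'} hg hg' => by
    obtain ⟨h1, b, hb, p⟩ := hg
    obtain ⟨h2, b', hb', p'⟩ := hg'
    exact ⟨mul_mem h1 h2, b * b', mul_mem hb hb', p.mul p'⟩
  inv_mem' := fun {g} hg => by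
    obtain ⟨h1, b, hb, p⟩ := hg
    exact ⟨inv_mem h1, b⁻¹, inv_mem hb, p.inv⟩

theorem mem_imB {Γ : Type*} [Group Γ] {U : AddSubgroup M} [DistribMulAction Γ ↥U] {X : Subgroup Γ}
    {B : Subgroup H} {g : Γ} : g ∈ imB U X B ↔ g ∈ X ∧ ∃ b ∈ B, Rp U g b := Iff.rfl

/-- The data of one component `U`, `T` = the image of `N_i`, `e` = the point `R_i`. -/
structure One (Γ : Type*) [Group Γ] (U : AddSubgroup M) [DistribMulAction Γ ↥U] (X : Subgroup Γ)
    (Pt : Set (AddSubgroup ↥U)) (VV : AddSubgroup ↥U → Subgroup Γ) (e : AddSubgroup ↥U) (T B : Subgroup H) :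
    Prop where
  fr : Frame X Pt VV
  out : Out Pt VV e
  pt : e ∈ Pt
  /-- every `b ∈ B` which fixes `U` is represented in `X`, and fixes a non-zero vector of `e` -/
  rep : ∀ b ∈ B, (∀ u ∈ U, b • u ∈ U) → ∃ g ∈ X, Rp U g b
  fixz : ∀ b ∈ B, (∀ u ∈ U, b • u ∈ U) → ∃ z ∈ e, z ≠ 0 ∧ b • (z : M) = z
  norm : ∀ t ∈ Pt, ¬ Mv VV t e → ∀ v ∈ VV t, ∃ h : H, Rp U v h ∧ ∀ b ∈ B, h * b * h⁻¹ ∈ B
  root : ∀ v ∈ VV e, ∃ a ∈ T, Rp U v a

namespace One

variable {Γ : Type*} [Group Γ] {U : AddSubgroup M} [DistribMulAction Γ ↥U] {X : Subgroup Γ}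
    {Pt : Set (AddSubgroup ↥U)} {VV : AddSubgroup ↥U → Subgroup Γ} {e : AddSubgroup ↥U} {T B : Subgroup H}

theorem quadZ (D : One Γ U X Pt VV e T B)
    (quad : ∀ b ∈ B, ∀ b' ∈ B, ∀ m : M, b • (b' • m + m) = b' • m + m) : QuadZ X Pt VV e (imB U X B) where
  le := fun g hg => hg.1
  quad := by
    rintro g ⟨-, b, hb, p⟩ g' ⟨-, b', hb', p'⟩ m
    have h1 := quad b hb b' hb' (m : M)
    apply Subtype.ext
    rw [p, AddSubgroup.coe_add, p', h1]
  norm := by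
    rintro t ht hmv a ha g ⟨hg, b, hb, p⟩
    obtain ⟨h, ph, hn⟩ := D.norm t ht hmv a ha
    have haX := D.fr.le t ht ha
    exact ⟨mul_mem (mul_mem haX hg) (inv_mem haX), _, hn b hb, (ph.mul p).mul ph.inv⟩
  fixz := by
    rintro g ⟨-, b, hb, p⟩
    obtain ⟨z, hz, hz0, h1⟩ := D.fixz b hb fun u hu => p.mem hu
    exact ⟨z, hz, hz0, Subtype.ext (by rw [p, h1])⟩

/-- (Q) for one component: `b ∈ B` fixing `U` acts on `U` as an element of `T`. -/
theorem main [Finite ↥U] (D : One Γ U X Pt VV e T B)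
    (quad : ∀ b ∈ B, ∀ b' ∈ B, ∀ m : M, b • (b' • m + m) = b' • m + m) {b : H} (hb : b ∈ B)
    (hbU : ∀ u ∈ U, b • u ∈ U) : ∃ a ∈ T, ∀ u ∈ U, b • u = a • u := by
  obtain ⟨g, hg, p⟩ := D.rep b hb hbU
  obtain ⟨v, hv, h1⟩ := (D.quadZ quad).main D.out D.fr D.pt (b := g) ⟨hg, b, hb, p⟩
  obtain ⟨a, ha, pa⟩ := D.root v hv
  refine ⟨a, ha, fun u hu => ?_⟩
  have h2 := congrArg Subtype.val (h1 ⟨u, hu⟩)
  rwa [p, pa] at h2

end One

/-- The decomposition `M = I + ⨁ U i` and the group `B` (abelian, normal in `C ≥ T i`, quadratic). -/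
structure Blk {ι : Type*} (T : ι → Subgroup H) (U : ι → AddSubgroup M) (I : AddSubgroup M) (B : Subgroup H) :
    Prop where
  two : ∀ m : M, m + m = 0
  span : I ⊔ ⨆ i, U i = ⊤
  disj : ∀ i j, i ≠ j → ∀ u ∈ U i, u ∈ U j → u = 0
  stabT : ∀ i, ∀ a ∈ T i, ∀ u ∈ U i, a • u ∈ U i
  fixT : ∀ i j, j ≠ i → ∀ a ∈ T i, ∀ u ∈ U j, a • u = u
  fixI : ∀ i, ∀ a ∈ T i, ∀ u ∈ I, a • u = u
  act : ∀ i, ∃ a ∈ T i, ∃ u ∈ U i, a • u ≠ u
  quad : ∀ b ∈ B, ∀ b' ∈ B, ∀ m : M, b • (b' • m + m) = b' • m + m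
  norm : ∀ i, ∀ a ∈ T i, ∀ b ∈ B, a * b * a⁻¹ ∈ B
  perm : ∀ b ∈ B, ∀ i, ∃ j, ∀ u ∈ U i, b • u ∈ U j
  fixBI : ∀ b ∈ B, ∀ u ∈ I, b • u = u

namespace Blk

variable {ι : Type*} {T : ι → Subgroup H} {U : ι → AddSubgroup M} {I : AddSubgroup M} {B : Subgroup H}
  (D : Blk T U I B)
include D

theorem sq {b : H} (hb : b ∈ B) (m : M) : b • b • m = m := by
  have h := D.quad b hb b hb m
  rw [smul_add, add_comm (b • m) m] at h
  exact add_right_cancel h

/-- **`B` fixes all `U i`** -/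
theorem stab {b : H} (hb : b ∈ B) (i : ι) : ∀ u ∈ U i, b • u ∈ U i := by
  obtain ⟨j, hj⟩ := D.perm b hb i
  by_cases hij : j = i
  · rwa [hij] at hj
  exfalso
  obtain ⟨a, ha, u, hu, hne⟩ := D.act i
  apply hne
  have hai := inv_mem ha
  -- `c := a b a⁻¹ b⁻¹`
  have hc : a * b * a⁻¹ * b⁻¹ ∈ B := mul_mem (D.norm i a ha b hb) (inv_mem hb)
  have hbi : ∀ m : M, b⁻¹ • m = b • m := fun m => by rw [inv_smul_eq_iff, D.sq hb]
  have hbu : b • u ∈ U j := hj u hu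
  have h1 := D.quad _ hc b hb u
  -- `c (b u + u) = b u + u`
  have h2 : (a * b * a⁻¹ * b⁻¹) • u = a • u := by
    rw [mul_smul, mul_smul, mul_smul, hbi, D.fixT i j hij a⁻¹ hai _ hbu, D.sq hb]
  have h3 : (a * b * a⁻¹ * b⁻¹) • (b • u) = b • a⁻¹ • u := by
    rw [mul_smul, mul_smul, mul_smul, hbi, D.sq hb, D.fixT i j hij a ha _ (hj _ (D.stabT i _ hai u hu))]
  rw [smul_add, h2, h3] at h1
  -- `a u + u ∈ U i`, `b a⁻¹ u + b u ∈ U j`
  have h4 : a • u + u ∈ U j := by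
    have h5 : a • u + u = (b • a⁻¹ • u) + b • u := by
      have h6 : b • a⁻¹ • u + a • u + (b • u + u) = 0 := by rw [h1, D.two]
      have h7 : b • a⁻¹ • u + a • u + (b • u + u) = (a • u + u) + (b • a⁻¹ • u + b • u) := by abel
      rw [h7] at h6
      rw [eq_neg_of_add_eq_zero_left h6, neg_eq_of_add_eq_zero_left (D.two _)]
    rw [h5]
    exact add_mem (hj _ (D.stabT i _ hai u hu)) hbu
  have h5 := D.disj i j (Ne.symm hij) _ (add_mem (D.stabT i a ha u hu) hu) h4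
  rw [eq_neg_of_add_eq_zero_left h5, neg_eq_of_add_eq_zero_left (D.two _)]

/-- Elements acting componentwise as elements of the `T i`. -/
theorem glue [Finite ι] {b : H} (hb : b ∈ B) (h : ∀ i, ∃ a ∈ T i, ∀ u ∈ U i, b • u = a • u) :
    ∃ v ∈ ⨆ i, T i, ∀ m : M, b • m = v • m := by
  classical
  have := Fintype.ofFinite ι
  have key : ∀ s : Finset ι, ∃ v ∈ ⨆ i, T i, (∀ i ∈ s, ∀ u ∈ U i, v • u = b • u) ∧
      (∀ i ∉ s, ∀ u ∈ U i, v • u = u) ∧ ∀ u ∈ I, v • u = u := by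
    intro s
    induction s using Finset.induction_on with
    | empty => exact ⟨1, one_mem _, by simp, by simp, by simp⟩
    | insert i s his ih =>
      obtain ⟨v, hv, h1, h2, h3⟩ := ih
      obtain ⟨a, ha, h4⟩ := h i
      refine ⟨v * a, mul_mem hv (Subgroup.mem_iSup_of_mem i ha), ?_, ?_, ?_⟩
      · intro j hj u hu
        rw [mul_smul]
        by_cases hji : j = i
        · subst hji
          rw [← h4 u hu, h2 j his _ (D.stab hb j u hu)]
        · rw [D.fixT i j hji a ha u hu]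
          exact h1 j ((Finset.mem_insert.1 hj).resolve_left hji) u hu
      · intro j hj u hu
        have hji : j ≠ i := fun h => hj (h ▸ Finset.mem_insert_self _ _)
        rw [mul_smul, D.fixT i j hji a ha u hu]
        exact h2 j (fun h => hj (Finset.mem_insert_of_mem h)) u hu
      · intro u hu
        rw [mul_smul, D.fixI i a ha u hu, h3 u hu]
  obtain ⟨v, hv, h1, -, h3⟩ := key Finset.univ
  refine ⟨v, hv, fun m => ?_⟩
  let K : AddSubgroup M :=
    { carrier := {m | b • m = v • m}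
      zero_mem' := by simp
      add_mem' := fun {x y} hx hy => by
        change b • (x + y) = v • (x + y)
        rw [smul_add, smul_add, hx, hy]
      neg_mem' := fun {x} hx => by
        change b • (-x) = v • (-x)
        rw [smul_neg, smul_neg, hx] }
  have hK : I ⊔ ⨆ i, U i ≤ K := by
    refine sup_le (fun u hu => ?_) (iSup_le fun i u hu => ?_)
    · change b • u = v • u
      rw [D.fixBI b hb u hu, h3 u hu]
    · exact (h1 i (Finset.mem_univ i) u hu).symm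
  rw [D.span] at hK
  exact hK (AddSubgroup.mem_top m)

/-- **(Q) for all `k`**: every `b ∈ B` acts on `M` as an element of `V₀ = ⨆ i, T i`. -/
theorem main [Finite ι] [Finite M] {Γ : ι → Type*} [∀ i, Group (Γ i)] [∀ i, DistribMulAction (Γ i) ↥(U i)]
    {X : ∀ i, Subgroup (Γ i)} {Pt : ∀ i, Set (AddSubgroup ↥(U i))} {VV : ∀ i, AddSubgroup ↥(U i) → Subgroup (Γ i)}
    {e : ∀ i, AddSubgroup ↥(U i)} (O : ∀ i, One (Γ i) (U i) (X i) (Pt i) (VV i) (e i) (T i) B)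
    {b : H} (hb : b ∈ B) : ∃ v ∈ ⨆ i, T i, ∀ m : M, b • m = v • m :=
  D.glue hb fun i => (O i).main D.quad hb (D.stab hb i)

end Blk

end K

end Cfsg.Agent.Omega.NOThreeL.RSplit.QuadK
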